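import Mathlib

/-!
# A fact about the alternating group of degree five

No automorphism fixes an element of order five, an involution `s` inverting it, and maps an
involution `t` commuting with `s` to `ts`: the orders of `tg` and `tsg` differ.
-/

set_option autoImplicit false
set_option maxHeartbeats 2000000
set_option synthInstance.maxSize 4096
set_option synthInstance.maxHeartbeats 400000

namespace Cfsg.Agent.AutL34Recog

theorem five_check : ∀ g : Equiv.Perm (Fin 5), Equiv.Perm.sign g = 1 → g * g * g * g * g = 1 →
    g ≠ 1 → ∀ s : Equiv.Perm (Fin 5), s * s = 1 → s ≠ 1 → s * g * s = g⁻¹ →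
    ∀ t : Equiv.Perm (Fin 5), Equiv.Perm.sign t = 1 → t * t = 1 → t ≠ 1 → t ≠ s → t * s = s * t →
      ¬ ((t * g) * (t * g) * (t * g) = 1 ↔ (t * s * g) * (t * s * g) * (t * s * g) = 1) := by
  decide +kernel

end Cfsg.Agent.AutL34Recog
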