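import Cfsg.Agent.Lib.AutL34Recog.TCore

/-!
# The class of a moved point

The conjugates of a moved point in `C(z)` lie in `Q`.
-/

set_option autoImplicit false
set_option maxHeartbeats 1000000
set_option linter.unusedSectionVars false
set_option synthInstance.maxSize 4096
set_option synthInstance.maxHeartbeats 400000

namespace Cfsg.Agent.AutL34Recog

open Subgroup
open Cfsg.Agent.LargeExtraspecial (Hub mem_conj_iff)
open Cfsg.Agent.SuzType (pw mem_cz)

variable {G : Type*} [Group G] {z : G} {Q : Subgroup G}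

/-- `z` is not isolated in its centralizer. -/
def Fused (z : G) : Prop := ∃ u, IsConj z u ∧ Commute u z ∧ u ≠ z

theorem Fused.conj (h : Fused z) (g : G) : Fused (g * z * g⁻¹) := by
  obtain ⟨u, hc, hu, hne⟩ := h
  refine ⟨g * u * g⁻¹, ?_, ?_, fun e => hne (mul_left_cancel (mul_right_cancel e))⟩
  · exact ((isConj_iff.mpr ⟨g, rfl⟩ : IsConj z (g * z * g⁻¹)).symm.trans hc).trans (isConj_iff.mpr ⟨g, rfl⟩)
  · simpa using hu.map (MulAut.conj g).toMonoidHom

theorem Fused.rel {u : G} {R : Subgroup G} (h : Fused z) (hR : Rel z Q u R) : Fused u := by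
  obtain ⟨g, rfl, -⟩ := hR
  exact h.conj g

variable [Finite G]

namespace Based

variable {d : Data z Q} {F : Frame z Q} (hF : Based d F)
include hF

theorem el_pt_ne_one (i : Fin 5) (e : Bool) : F.el (pt i, e) ≠ 1 := fun h =>
  (by decide +kernel : ∀ i e, (pt i, e) ≠ m1) i e (F.el_injective d (h.trans F.el_one.symm))

theorem el_pt_sq (i : Fin 5) (e : Bool) : F.el (pt i, e) * F.el (pt i, e) = 1 := by
  rw [← F.el_mm d, (by decide +kernel : ∀ i e, mm (pt i, e) (pt i, e) = m1) i e, F.el_one]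

theorem el_pt_commute (i : Fin 5) (e : Bool) : Commute (F.el (pt i, e)) z :=
  d.hub.central _ (F.el_mem d _)

/-- The two classes of involutions of `Q` over the points. -/
theorem inY_or_pt {q : G} (hq : q ∈ Q) (h2 : q * q = 1) :
    F.InY q ∨ ∃ i e, i ≠ 4 ∧ F.el (pt i, e) = q := by
  by_cases h1 : q = 1
  · exact Or.inl (Or.inl h1)
  by_cases hz : q = z
  · exact Or.inl (Or.inr (Or.inl hz))
  obtain ⟨i, e, rfl⟩ := F.exists_pt d hq h2 h1 hz
  by_cases hi : i = 4
  · subst hi
    exact Or.inl ((F.inY_iff_el d _).mpr (Or.inr (Or.inr ⟨e, rfl⟩)))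
  · exact Or.inr ⟨i, e, hi, rfl⟩

theorem isConj_of_inY (hf : Fused z) {q : G} (h : F.InY q) (h1 : q ≠ 1) : IsConj z q := by
  obtain ⟨ha, hb⟩ := hF.isConj_y hf
  rcases h with rfl | rfl | rfl | rfl
  exacts [absurd rfl h1, IsConj.refl _, ha, hb]

/-- `C(z)` is transitive on the eight moved point elements. -/
theorem exists_conj_moved {i j : Fin 5} (hi : i ≠ 4) (hj : j ≠ 4) (e e' : Bool) :
    ∃ h, Commute h z ∧ h * F.el (pt i, e) * h⁻¹ = F.el (pt j, e') := by
  obtain ⟨g, hgz, hg⟩ := hF.exists_perm_eq (Equiv.swap i j)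
    (Equiv.swap_apply_of_ne_of_ne hi.symm hj.symm)
  obtain ⟨e₁, he₁⟩ := F.conj_point d hgz i e
  rw [hg, Equiv.swap_apply_left] at he₁
  obtain ⟨x, hx, hxc⟩ := F.exists_conj_pt d j e₁ e'
  refine ⟨x * g, (d.hub.central _ hx).mul_left hgz, ?_⟩
  calc x * g * F.el (pt i, e) * (x * g)⁻¹ = x * (g * F.el (pt i, e) * g⁻¹) * x⁻¹ := by group
    _ = _ := by rw [he₁, hxc]

/-- `z` is the only conjugate of `z` commuting with `z` and a moved point. -/
theorem eq_z_of_commute_pt {i : Fin 5} (hi : i ≠ 4) (e : Bool) {u : G} (hc : IsConj z u)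
    (hu : Commute u z) (hua : Commute u (F.el (pt i, e))) : u = z := by
  rcases hF.cases_of_isConj hc hu with h | ⟨-, hd⟩
  · rcases h with h | h | h
    · exact absurd h (d.conj_ne_one hc)
    · exact h
    · exfalso
      obtain ⟨e', he'⟩ : ∃ e', F.el (pt 4, e') = u := by
        rcases h with rfl | rfl
        · exact ⟨false, by simp [F.el_pt d]⟩
        · exact ⟨true, by simp [F.el_pt d]⟩
      subst he'
      have h0 := SuzType.fl_eq_false.mpr hua
      rw [F.fl_el_el d] at h0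
      rw [mB_pt] at h0
      simp [hi.symm] at h0
  · exfalso
    obtain ⟨e', he'⟩ := F.conj_point d hu i e
    rw [hua.eq, mul_inv_cancel_right] at he'
    exact hi (hd i (pt_injective (congrArg Prod.fst (F.el_injective d he'))).symm)

/-- In a `2`-subgroup of the centralizer of a moved point, `z` is central. -/
theorem commute_of_isPGroup {i : Fin 5} (hi : i ≠ 4) (e : Bool) {P : Subgroup G} (hP : IsPGroup 2 P)
    (hPa : ∀ x ∈ P, Commute x (F.el (pt i, e))) (hzP : z ∈ P) {x : G} (hx : x ∈ P) : Commute x z := by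
  haveI : Group.IsNilpotent P := hP.isNilpotent
  set K : Subgroup P := (centralizer ({z} : Set G)).subgroupOf P with hK
  have hle : normalizer (K : Set P) ≤ K := by
    intro n hn
    have h1 : (⟨z, hzP⟩ : P) ∈ K := mem_subgroupOf.mpr (mem_cz.mpr (Commute.refl z))
    have h2 := mem_subgroupOf.mp ((mem_normalizer_iff.mp hn _).mp h1)
    have h3 : Commute ((n : G) * z * (n : G)⁻¹) z := mem_cz.mp h2
    have h4 := hF.eq_z_of_commute_pt hi e (isConj_iff.mpr ⟨(n : G), rfl⟩) h3
      (hPa _ (mul_mem (mul_mem n.2 hzP) (inv_mem n.2)))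
    exact mem_subgroupOf.mpr (mem_cz.mpr (mul_inv_eq_iff_eq_mul.mp h4))
  have htop : K = ⊤ := by
    by_contra h
    exact (Group.normalizerCondition_of_isNilpotent (G := P) K (lt_top_iff_ne_top.mpr h)).not_ge hle
  exact mem_cz.mp (mem_subgroupOf.mp (htop ▸ mem_top (⟨x, hx⟩ : P) : (⟨x, hx⟩ : P) ∈ K))

/-- Conjugates of a moved point commuting with `z` lie in `Q`. -/
theorem mem_of_isConj_pt (hf : Fused z) {i : Fin 5} (hi : i ≠ 4) (e : Bool) {t : G}
    (hc : IsConj (F.el (pt i, e)) t) (ht : Commute t z) : t ∈ Q := by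
  haveI : Fact (Nat.Prime 2) := ⟨Nat.prime_two⟩
  obtain ⟨g, hg⟩ := isConj_iff.mp hc
  set C := centralizer ({t} : Set G)
  have hzC : z ∈ C := mem_cz.mpr ht.symm
  set w := g * z * g⁻¹
  have hwt : Commute w t := by
    rw [← hg]
    exact (hF.el_pt_commute i e).symm.map (MulAut.conj g).toMonoidHom
  have two : ∀ {x : G}, x ∈ C → x * x = 1 → IsPGroup 2 (zpowers x : Subgroup G) := fun {x} _ h2 =>
    IsPGroup.iff_orderOf.mpr fun ⟨y, hy⟩ => by
      obtain ⟨n, hn⟩ := (Nat.dvd_prime_pow Nat.prime_two).mp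
        ((orderOf_dvd_of_mem_zpowers hy).trans (orderOf_dvd_of_pow_eq_one (n := 2 ^ 1) (by
          rw [pow_one, pow_two]; exact h2)))
      exact ⟨n, by rw [← orderOf_injective (zpowers x).subtype Subtype.val_injective]; exact hn.2⟩
  obtain ⟨P, hP⟩ := ((two hzC d.hub.sq).comap_subtype (K := C)).exists_le_sylow
  obtain ⟨P', hP'⟩ := ((two (mem_cz.mpr hwt) (SuzType.conj_sq d.hub.sq)).comap_subtype (K := C)).exists_le_sylow
  obtain ⟨c, hc'⟩ := MulAction.exists_smul_eq C P' P
  set k : G := (c : G) * g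
  have hkt : k * F.el (pt i, e) * k⁻¹ = t := by
    have hct : Commute (c : G) t := mem_cz.mp c.2
    calc k * F.el (pt i, e) * k⁻¹ = (c : G) * (g * F.el (pt i, e) * g⁻¹) * (c : G)⁻¹ := by
          simp only [k]; group
      _ = t := by rw [hg, hct.eq, mul_inv_cancel_right]
  set w' := k * z * k⁻¹
  have hw' : w' ∈ (P : Subgroup C).map C.subtype := by
    refine ⟨c * ⟨w, mem_cz.mpr hwt⟩ * c⁻¹, ?_, by simp [w', w, k, mul_assoc]⟩
    rw [SetLike.mem_coe, ← hc']
    exact Subgroup.smul_mem_pointwise_smul _ (MulAut.conj c) _ (hP' (mem_zpowers w))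
  set R := Q.map (MulAut.conj k).toMonoidHom
  have hR : Rel z Q w' R := ⟨k, rfl, rfl⟩
  have dw := hR.data d
  obtain ⟨F', hF'⟩ := exists_based dw
  have htR : t ∈ R := hkt ▸ ⟨_, F.el_mem d _, rfl⟩
  have ht2 : t * t = 1 := hkt ▸ SuzType.conj_sq (hF.el_pt_sq i e)
  have htD : ¬ IsConj z t := fun h => hF.not_isConj_pt hi e (h.trans hc.symm)
  have hf' : Fused w' := hf.rel hR
  obtain ⟨j, e', hj, hje⟩ := (hF'.inY_or_pt htR ht2).resolve_left fun h => by
    have h1 : t ≠ 1 := by
      rw [← hkt]; exact fun h1 => hF.el_pt_ne_one i e (conj_eq_one_iff.mp h1)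
    exact htD (hR.isConj.trans (hF'.isConj_of_inY hf' h h1))
  have hwz : Commute z w' := hF'.commute_of_isPGroup hj e' (P.isPGroup'.map C.subtype)
    (fun x hx => by
      obtain ⟨y, -, rfl⟩ := hx
      rw [hje]; exact mem_cz.mp y.2)
    hw' ⟨⟨z, hzC⟩, hP (mem_zpowers z), rfl⟩
  have hje' : Commute z (F'.el (pt j, e')) := hje.symm ▸ ht.symm
  have hwz' : z = w' := hF'.eq_z_of_commute_pt hj e' hR.isConj.symm hwz hje'
  have hQR : R = Q := Rel.unique d hR ⟨1, by simpa using hwz', by ext x; simp⟩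
  exact hQR ▸ htR

/-- The conjugates of a moved point in `C(z)` are the eight moved point elements. -/
theorem exists_eq_of_isConj_pt (hf : Fused z) {i : Fin 5} (hi : i ≠ 4) (e : Bool) {t : G}
    (hc : IsConj (F.el (pt i, e)) t) (ht : Commute t z) : ∃ j e', j ≠ 4 ∧ F.el (pt j, e') = t := by
  obtain ⟨g, hg⟩ := isConj_iff.mp hc
  refine (hF.inY_or_pt (hF.mem_of_isConj_pt hf hi e hc ht) (hg ▸ SuzType.conj_sq (hF.el_pt_sq i e))).resolve_left
    fun h => ?_
  by_cases h1 : t = 1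
  · exact hF.el_pt_ne_one i e (conj_eq_one_iff.mp (hg.trans h1))
  · exact hF.not_isConj_pt hi e ((hF.isConj_of_inY hf h h1).trans hc.symm)

end Based

end Cfsg.Agent.AutL34Recog
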