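import Cfsg.Agent.Lib.AutL34Recog.AClass

/-!
# Counting the class of a moved point

Every conjugate `v` of a moved point `a` determines the involution `i` of `⟨zv⟩`, which commutes
with `z`; counting the fibres gives the order of `G`.
-/

set_option autoImplicit false
set_option maxHeartbeats 1000000
set_option linter.unusedSectionVars false
set_option synthInstance.maxSize 4096
set_option synthInstance.maxHeartbeats 400000

namespace Cfsg.Agent.AutL34Recog

open Subgroup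
open Cfsg.Agent.LargeExtraspecial (Hub mem_conj_iff)
open Cfsg.Agent.SuzType (pw mem_cz)

variable {G : Type*} [Group G] {z : G} {Q : Subgroup G}

section dihedral

variable [Finite G]

theorem eq_half_pow {x i : G} (hi : i ∈ zpowers x) (h2 : i * i = 1) (h1 : i ≠ 1) :
    2 ∣ orderOf x ∧ i = x ^ (orderOf x / 2) := by
  obtain ⟨k, rfl⟩ := (mem_powers_iff_mem_zpowers.mpr hi : i ∈ Submonoid.powers x)
  simp only at h2 h1 ⊢
  have hm := orderOf_pos x
  rw [← pow_mod_orderOf x k] at h2 h1 ⊢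
  set r := k % orderOf x with hr
  have hlt : r < orderOf x := Nat.mod_lt _ hm
  have hr0 : r ≠ 0 := fun e => h1 (by rw [e, pow_zero])
  obtain ⟨c, hc⟩ := orderOf_dvd_of_pow_eq_one (show x ^ (2 * r) = 1 by rw [two_mul, pow_add]; exact h2)
  have hc1 : c = 1 := by
    rcases Nat.lt_or_ge c 2 with h | h
    · interval_cases c
      · omega
      · rfl
    · have := Nat.mul_le_mul_left (orderOf x) h
      omega
  subst hc1
  exact ⟨⟨r, by omega⟩, by congr 1; omega⟩

theorem unique_invol {x i j : G} (hi : i ∈ zpowers x) (hi2 : i * i = 1) (hi1 : i ≠ 1)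
    (hj : j ∈ zpowers x) (hj2 : j * j = 1) (hj1 : j ≠ 1) : i = j :=
  (eq_half_pow hi hi2 hi1).2.trans (eq_half_pow hj hj2 hj1).2.symm

theorem conj_mul_pow {p q : G} (hp : p * p = 1) (hq : q * q = 1) (k : ℕ) :
    p * (p * q) ^ k * p = ((p * q) ^ k)⁻¹ := by
  have h : p * (p * q) * p⁻¹ = (p * q)⁻¹ := by
    rw [mul_inv_rev, inv_eq_of_mul_eq_one_right hp, inv_eq_of_mul_eq_one_right hq, ← mul_assoc p p q, hp, one_mul]
  calc p * (p * q) ^ k * p = p * (p * q) ^ k * p⁻¹ := by rw [inv_eq_of_mul_eq_one_right hp]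
    _ = (p * (p * q) * p⁻¹) ^ k := by rw [conj_pow]
    _ = _ := by rw [h, inv_pow]

theorem pow_conj_left {p q : G} (hp : p * p = 1) (hq : q * q = 1) (k : ℕ) :
    ((p * q) ^ k)⁻¹ * p * (p * q) ^ k = p * (p * q) ^ (2 * k) := by
  rw [← conj_mul_pow hp hq k, two_mul, pow_add,
    show p * (p * q) ^ k * p * p = p * (p * q) ^ k * (p * p) by group, hp]
  group

theorem pow_conj_right {p q : G} (hp : p * p = 1) (hq : q * q = 1) (k : ℕ) :
    ((p * q) ^ k)⁻¹ * q * (p * q) ^ k = p * (p * q) ^ (2 * k + 1) := by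
  calc ((p * q) ^ k)⁻¹ * q * (p * q) ^ k = p * (p * q) ^ k * p * q * (p * q) ^ k := by
        rw [conj_mul_pow hp hq k]
    _ = p * ((p * q) ^ k * (p * q) * (p * q) ^ k) := by group
    _ = _ := by rw [← pow_succ, ← pow_add]; ring_nf

/-- Two involutions are conjugate or determine an involution commuting with both. -/
theorem dihedral {p q : G} (hp : p * p = 1) (hq : q * q = 1) :
    IsConj p q ∨ ∃ i ∈ zpowers (p * q), i * i = 1 ∧ i ≠ 1 ∧ Commute i p ∧ Commute i q ∧
      (IsConj p (p * i) ∨ IsConj q (p * i)) := by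
  set x := p * q with hx
  obtain ⟨k, hk | hk⟩ := Nat.even_or_odd' (orderOf x)
  · right
    have hk0 : 0 < k := by have := orderOf_pos x; omega
    have h1 : x ^ k ≠ 1 := pow_ne_one_of_lt_orderOf hk0.ne' (by omega)
    have h2 : x ^ k * x ^ k = 1 := by rw [← pow_add, ← two_mul, ← hk, pow_orderOf_eq_one]
    have hip : Commute (x ^ k) p := by
      have h3 := conj_mul_pow hp hq k
      rw [← hx, inv_eq_of_mul_eq_one_right h2] at h3
      calc x ^ k * p = p * x ^ k * p * p := by rw [h3]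
        _ = p * x ^ k := by rw [mul_assoc, hp, mul_one]
    refine ⟨x ^ k, npow_mem_zpowers _ _, h2, h1, hip, ?_, ?_⟩
    · have hq' : q = p * x := by rw [hx, ← mul_assoc, hp, one_mul]
      rw [hq']
      exact hip.mul_right ((Commute.refl x).pow_left k)
    · obtain ⟨l, rfl | rfl⟩ := Nat.even_or_odd' k
      · exact Or.inl (isConj_iff.mpr ⟨(x ^ l)⁻¹, by rw [inv_inv]; exact pow_conj_left hp hq l⟩)
      · exact Or.inr (isConj_iff.mpr ⟨(x ^ l)⁻¹, by rw [inv_inv]; exact pow_conj_right hp hq l⟩)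
  · refine Or.inl ?_
    have h3 : p * x ^ (2 * k) = p * q * p := by
      have : x ^ (2 * k) = x⁻¹ := eq_inv_of_mul_eq_one_left (by rw [← pow_succ, ← hk, pow_orderOf_eq_one])
      rw [this, hx, mul_inv_rev, inv_eq_of_mul_eq_one_right hp, inv_eq_of_mul_eq_one_right hq, mul_assoc]
    exact ((isConj_iff.mpr ⟨(x ^ k)⁻¹, by rw [inv_inv, hx, pow_conj_left hp hq k, ← hx, h3]⟩ :
      IsConj p (p * q * p))).trans (isConj_iff.mpr ⟨p, by
        rw [inv_eq_of_mul_eq_one_right hp, show p * (p * q * p) * p = (p * p) * q * (p * p) by group, hp]; group⟩)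

end dihedral

theorem card_conj_orbit (K : Subgroup G) (x : G) :
    Nat.card (K ⊓ centralizer ({x} : Set G) : Subgroup G) * Nat.card {y // ∃ k ∈ K, k * x * k⁻¹ = y} =
      Nat.card K := by
  have hbij : Nat.card (K ⧸ (centralizer ({x} : Set G)).subgroupOf K) =
      Nat.card {y // ∃ k ∈ K, k * x * k⁻¹ = y} := by
    refine Nat.card_eq_of_bijective (fun q => Quotient.liftOn' q
      (fun k => (⟨(k : G) * x * (k : G)⁻¹, k, k.2, rfl⟩ : {y // ∃ k ∈ K, k * x * k⁻¹ = y})) ?_) ⟨?_, ?_⟩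
    · intro a b hab
      have h : Commute ((a : G)⁻¹ * b) x := mem_cz.mp (mem_subgroupOf.mp (QuotientGroup.leftRel_apply.mp hab))
      refine Subtype.ext ?_
      calc (a : G) * x * (a : G)⁻¹ = a * (x * ((a : G)⁻¹ * b)) * (b : G)⁻¹ := by group
        _ = _ := by rw [← h.eq]; group
    · intro q q'
      refine Quotient.inductionOn₂' q q' fun a b e => ?_
      have e' : (a : G) * x * (a : G)⁻¹ = b * x * (b : G)⁻¹ := congrArg Subtype.val e
      refine QuotientGroup.eq.mpr (mem_subgroupOf.mpr (mem_cz.mpr (mul_inv_eq_iff_eq_mul.mp ?_)))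
      calc (a : G)⁻¹ * b * x * ((a : G)⁻¹ * b)⁻¹ = (a : G)⁻¹ * (b * x * (b : G)⁻¹) * a := by group
        _ = x := by rw [← e']; group
    · rintro ⟨y, k, hk, rfl⟩
      exact ⟨QuotientGroup.mk ⟨k, hk⟩, rfl⟩
  rw [← hbij, ← ((centralizer ({x} : Set G)).subgroupOf K).card_mul_index, index_eq_card,
    ← inf_subgroupOf_left, Nat.card_congr (subgroupOfEquivOfLe inf_le_left).toEquiv]

variable [Finite G]

/-- The orbit of `z` under the centralizer of `x`. -/
def orb (z x : G) : Set G := {y | ∃ c, Commute c x ∧ c * z * c⁻¹ = y}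

namespace Based

variable {d : Data z Q} {F : Frame z Q} (hF : Based d F)
include hF

theorem pt_eq {i : Fin 5} {e : Bool} {j : Fin 5} {e' : Bool} (h : F.el (pt i, e) = F.el (pt j, e')) :
    i = j ∧ e = e' :=
  ⟨pt_injective (congrArg Prod.fst (F.el_injective d h)),
    congrArg Prod.snd (F.el_injective d h : ((pt i, e) : M) = (pt j, e'))⟩

theorem isConj_moved {i j : Fin 5} (hi : i ≠ 4) (hj : j ≠ 4) (e e' : Bool) :
    IsConj (F.el (pt i, e)) (F.el (pt j, e')) := by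
  obtain ⟨h, -, hh⟩ := hF.exists_conj_moved hi hj e e'
  exact isConj_iff.mpr ⟨h, hh⟩

/-- Moved points of all bases are conjugate. -/
theorem isConj_moved_rel (hf : Fused z) {p : G} {R : Subgroup G} (hR : Rel z Q p R) {dp : Data p R}
    {Fp : Frame p R} (hFp : Based dp Fp) {i j : Fin 5} (hi : i ≠ 4) (hj : j ≠ 4) (e e' : Bool) :
    IsConj (F.el (pt i, e)) (Fp.el (pt j, e')) := by
  obtain ⟨g, hg, hgR⟩ := hR
  have hfp : Fused p := hg ▸ hf.conj g
  have hm : g * F.el (pt i, e) * g⁻¹ ∈ R := hgR ▸ ⟨_, F.el_mem d _, rfl⟩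
  rcases hFp.inY_or_pt hm (SuzType.conj_sq (hF.el_pt_sq i e)) with h | ⟨k, s, hk, hks⟩
  · refine absurd ?_ (hF.not_isConj_pt hi e)
    have h1 := hFp.isConj_of_inY hfp h fun h1 => hF.el_pt_ne_one i e (conj_eq_one_iff.mp h1)
    exact ((isConj_iff.mpr ⟨g, hg⟩ : IsConj z p).trans h1).trans (isConj_iff.mpr ⟨g⁻¹, by group⟩)
  · exact ((isConj_iff.mpr ⟨g, rfl⟩ : IsConj (F.el (pt i, e)) _).trans (hks ▸ IsConj.refl _)).trans
      (hFp.isConj_moved hk hj s e')

theorem card_moved : Nat.card {t : G // ∃ i e, i ≠ (4 : Fin 5) ∧ F.el (pt i, e) = t} = 8 := by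
  have h8 : Nat.card {p : Fin 5 × Bool // p.1 ≠ 4} = 8 := by
    rw [Nat.card_eq_fintype_card]; decide +kernel
  rw [← h8]
  refine (Nat.card_eq_of_bijective (fun p => (⟨F.el (pt p.1.1, p.1.2), p.1.1, p.1.2, p.2, rfl⟩ :
    {t : G // ∃ i e, i ≠ (4 : Fin 5) ∧ F.el (pt i, e) = t})) ⟨?_, ?_⟩).symm
  · rintro ⟨⟨i, e⟩, _⟩ ⟨⟨j, e'⟩, _⟩ h
    obtain ⟨rfl, rfl⟩ := hF.pt_eq (congrArg Subtype.val h)
    rfl
  · rintro ⟨t, i, e, hi, rfl⟩
    exact ⟨⟨(i, e), hi⟩, rfl⟩

theorem card_centralizer_pt_inf {i : Fin 5} (hi : i ≠ 4) (e : Bool) :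
    Nat.card (centralizer ({z} : Set G) ⊓ centralizer ({F.el (pt i, e)} : Set G) : Subgroup G) = 96 := by
  have h := card_conj_orbit (centralizer ({z} : Set G)) (F.el (pt i, e))
  have h8 : Nat.card {y // ∃ k ∈ centralizer ({z} : Set G), k * F.el (pt i, e) * k⁻¹ = y} = 8 := by
    rw [← hF.card_moved]
    refine Nat.card_congr (Equiv.subtypeEquivRight fun y => ⟨?_, ?_⟩)
    · rintro ⟨k, hk, rfl⟩
      obtain ⟨e', he'⟩ := F.conj_point d (mem_cz.mp hk) i e
      refine ⟨_, e', fun h4 => hi ((F.perm d k).injective (h4.trans (hF k (mem_cz.mp hk)).symm)), he'.symm⟩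
    · rintro ⟨j, e', hj, rfl⟩
      obtain ⟨k, hk, hk'⟩ := hF.exists_conj_moved hi hj e e'
      exact ⟨k, mem_cz.mpr hk, hk'⟩
  rw [h8, d.cardC] at h
  omega

theorem card_centralizer_pt {i : Fin 5} (hi : i ≠ 4) (e : Bool) :
    Nat.card (centralizer ({F.el (pt i, e)} : Set G)) = 96 * Nat.card (orb z (F.el (pt i, e))) := by
  have h := card_conj_orbit (centralizer ({F.el (pt i, e)} : Set G)) z
  rw [inf_comm, hF.card_centralizer_pt_inf hi e] at h
  rw [← h]
  congr 1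
  exact Nat.card_congr (Equiv.subtypeEquivRight fun y =>
    ⟨fun ⟨k, hk, e⟩ => ⟨k, mem_cz.mp hk, e⟩, fun ⟨k, hk, e⟩ => ⟨k, mem_cz.mpr hk, e⟩⟩)

theorem card_orb_eq {i j : Fin 5} (hi : i ≠ 4) (hj : j ≠ 4) (e e' : Bool) :
    Nat.card (orb z (F.el (pt i, e))) = Nat.card (orb z (F.el (pt j, e'))) := by
  obtain ⟨h, hh, hhe⟩ := hF.exists_conj_moved hi hj e e'
  refine Nat.card_congr (Equiv.subtypeEquiv (MulAut.conj h).toEquiv fun y => ⟨?_, ?_⟩)
  · rintro ⟨c, hc, rfl⟩
    refine ⟨h * c * h⁻¹, ?_, ?_⟩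
    · rw [← hhe]; exact hc.map (MulAut.conj h).toMonoidHom
    · show h * c * h⁻¹ * z * (h * c * h⁻¹)⁻¹ = h * (c * z * c⁻¹) * h⁻¹
      calc h * c * h⁻¹ * z * (h * c * h⁻¹)⁻¹ = h * c * (h⁻¹ * z * h) * c⁻¹ * h⁻¹ := by group
        _ = _ := by rw [mul_assoc h⁻¹, ← hh.eq, inv_mul_cancel_left]; group
  · rintro ⟨c, hc, he⟩
    refine ⟨h⁻¹ * c * h, ?_, mul_left_cancel (mul_right_cancel (a := h * _) (b := h⁻¹)
      (c := h * y) ?_)⟩
    · have := hc.map (MulAut.conj h⁻¹).toMonoidHom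
      rw [← hhe] at this
      simpa [mul_assoc] using this
    · calc h * (h⁻¹ * c * h * z * (h⁻¹ * c * h)⁻¹) * h⁻¹ = c * (h * z * h⁻¹) * c⁻¹ := by group
        _ = c * z * c⁻¹ := by rw [hh.eq, mul_inv_cancel_right]
        _ = _ := he

/-- The number of conjugates of a moved point. -/
theorem card_class (hf : Fused z) :
    Nat.card {v : G // IsConj (F.el (pt 0, false)) v} =
      8 * Nat.card {u : G // IsConj z u ∧ Commute u z ∧ u ≠ z} +
        8 * Nat.card (orb z (F.el (pt 0, false))) := by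
  classical
  set a := F.el (pt 0, false) with ha
  have hz0 : (0 : Fin 5) ≠ 4 := by decide
  have hza : ¬ IsConj z a := hF.not_isConj_pt hz0 false
  have hzne : ∀ v, IsConj a v → ¬ IsConj z v := fun v hv h => hza (h.trans hv.symm)
  have hv2 : ∀ v, IsConj a v → v * v = 1 := fun v hv => by
    obtain ⟨g, rfl⟩ := isConj_iff.mp hv
    exact SuzType.conj_sq (hF.el_pt_sq 0 false)
  let I := {i : G // (IsConj z i ∧ Commute i z ∧ i ≠ z) ∨ (IsConj a i ∧ Commute i z)}
  have hI2 : ∀ i : I, i.1 * i.1 = 1 ∧ i.1 ≠ 1 := by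
    rintro ⟨i, ⟨hc, -, -⟩ | ⟨hc, -⟩⟩
    · exact ⟨d.sq_conj hc, d.conj_ne_one hc⟩
    · refine ⟨hv2 i hc, fun h => ?_⟩
      obtain ⟨g, hg⟩ := isConj_iff.mp hc
      exact hF.el_pt_ne_one 0 false (conj_eq_one_iff.mp (hg.trans h))
  -- moved point elements
  have hpt : ∀ t, IsConj a t ∧ Commute t z ↔ ∃ i e, i ≠ (4 : Fin 5) ∧ F.el (pt i, e) = t := by
    refine fun t => ⟨fun h => hF.exists_eq_of_isConj_pt hf hz0 false h.1 h.2, ?_⟩
    rintro ⟨i, e, hi, rfl⟩
    exact ⟨hF.isConj_moved hz0 hi false e, hF.el_pt_commute i e⟩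
  have hmulz : ∀ j e, F.el (pt j, e) * z = F.el (pt j, !e) := fun j e => by
    rw [← F.el_zmul d]
    congr 1
    exact (by decide +kernel : ∀ j e, mm (pt j, e) mz = (pt j, !e)) j e
  -- the involution of a conjugate
  have hex : ∀ v : {v : G // IsConj a v}, ∃ i : I, i.1 ∈ zpowers (z * v.1) ∧ Commute i.1 v.1 := by
    rintro ⟨v, hv⟩
    rcases dihedral d.hub.sq (hv2 v hv) with h | ⟨i, hix, hi2, hi1, hiz, hiv, hcl⟩
    · exact absurd h (hzne v hv)
    have hzi : Commute (z * i) z := (Commute.refl z).mul_left hiz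
    have hzzi : z * (z * i) = i := by rw [← mul_assoc, d.hub.sq, one_mul]
    refine ⟨⟨i, ?_⟩, hix, hiv⟩
    rcases hcl with hcl | hcl
    · have hne : i ≠ z := fun e => d.conj_ne_one hcl (by rw [e, d.hub.sq])
      refine Or.inl ⟨?_, hiz, hne⟩
      rcases hF.cases_of_isConj hcl hzi with hY | ⟨hQ, hd⟩
      · refine hF.isConj_of_inY hf ?_ hi1
        rw [← hzzi]
        rcases hY with h | h | h | h <;> rw [h]
        · rw [mul_one]; exact Or.inr (Or.inl rfl)
        · rw [d.hub.sq]; exact Or.inl rfl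
        · rw [← (F.y_comm d).eq]; exact Or.inr (Or.inr (Or.inr rfl))
        · rw [← mul_assoc, ← (F.y_comm d).eq, mul_assoc, d.hub.sq, mul_one]
          exact Or.inr (Or.inr (Or.inl rfl))
      · have hiQ : i ∉ Q := fun h => hQ (mul_mem d.hub.mem h)
        have hid : IsDbl (F.perm d i) := by
          rwa [F.perm_mul d (Commute.refl z) hiz, F.perm_of_mem d d.hub.mem, one_mul] at hd
        obtain ⟨k, -, hk⟩ := hF.isConj_outer hzi (d.sq_conj hcl) hQ hd hiz hi2 hiQ hid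
        exact hcl.trans (isConj_iff.mpr ⟨k, hk⟩)
    · obtain ⟨j, e, hj, hje⟩ := (hpt _).mp ⟨hv.trans hcl, hzi⟩
      refine Or.inr ((hpt i).mpr ⟨j, !e, hj, ?_⟩)
      rw [← hmulz, hje, mul_assoc, hiz.eq, ← mul_assoc, d.hub.sq, one_mul]
  choose f hf1 hf2 using hex
  -- the fibres
  have hfib_z : ∀ i : I, (IsConj z i.1 ∧ Commute i.1 z ∧ i.1 ≠ z) →
      Nat.card {v : {v : G // IsConj a v} // f v = i} = 8 := by
    rintro i ⟨hc, hiz, hine⟩
    obtain ⟨R, hR⟩ := exists_rel (Q := Q) hc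
    have di := hR.data d
    obtain ⟨Fi, hFi⟩ := exists_based di
    have hfi : Fused i.1 := hf.rel hR
    rw [← hFi.card_moved]
    have haFi : IsConj a (Fi.el (pt 0, false)) := hF.isConj_moved_rel hf hR hFi hz0 hz0 false false
    refine Nat.card_eq_of_bijective (fun v => (⟨v.1.1, hFi.exists_eq_of_isConj_pt hfi hz0 false
      (haFi.symm.trans v.1.2) (by have h := hf2 v.1; rw [v.2] at h; exact h.symm)⟩ : {t : G // ∃ j e, j ≠ (4 : Fin 5) ∧ Fi.el (pt j, e) = t}))
      ⟨fun v v' h => Subtype.ext (Subtype.ext (congrArg Subtype.val h :)), ?_⟩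
    rintro ⟨t, j, e, hj, rfl⟩
    set v := Fi.el (pt j, e) with hv
    have hav : IsConj a v := hF.isConj_moved_rel hf hR hFi hz0 hj false e
    refine ⟨⟨⟨v, hav⟩, Subtype.ext ?_⟩, rfl⟩
    refine unique_invol (hf1 ⟨v, hav⟩) (hI2 _).1 (hI2 _).2 ?_ (hI2 i).1 (hI2 i).2
    obtain ⟨e', he'⟩ := Fi.conj_point di hiz.symm j e
    set k := Fi.perm di z j
    have hne : ((pt k, e') : M) ≠ (pt j, e) := by
      intro h
      rw [h] at he'
      exact hine (hFi.eq_z_of_commute_pt hj e hc.symm hiz.symm (mul_inv_eq_iff_eq_mul.mp he')).symm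
    have hsq : z * v * (z * v) = Fi.el (mm (pt k, e') (pt j, e)) := by
      rw [Fi.el_mm di, ← he', inv_eq_of_mul_eq_one_right d.hub.sq, hv]; group
    have hmem : z * v * (z * v) ∈ zpowers (z * v) := mul_mem (mem_zpowers _) (mem_zpowers _)
    rcases (by decide +kernel : ∀ (k j : Fin 5) (e' e : Bool), ((pt k, e') : M) ≠ (pt j, e) →
        mm (pt k, e') (pt j, e) = mz ∨ mm (mm (pt k, e') (pt j, e)) (mm (pt k, e') (pt j, e)) = mz)
      k j e' e hne with h | h
    · rw [← Fi.el_z, ← h, ← hsq]; exact hmem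
    · rw [← Fi.el_z, ← h, Fi.el_mm di, ← hsq]; exact mul_mem hmem hmem
  have hfib_a : ∀ i : I, (IsConj a i.1 ∧ Commute i.1 z) →
      Nat.card {v : {v : G // IsConj a v} // f v = i} = Nat.card (orb z a) := by
    rintro i ⟨hc, hiz⟩
    obtain ⟨j, e, hj, hje⟩ := (hpt _).mp ⟨hc, hiz⟩
    rw [hF.card_orb_eq hz0 hj, hje]
    have hi2 := (hI2 i).1
    refine Nat.card_eq_of_bijective (fun v => (⟨v.1.1 * i.1, ?_⟩ : orb z i.1)) ⟨fun v v' h =>
      Subtype.ext (Subtype.ext (mul_right_cancel (congrArg Subtype.val h :))), ?_⟩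
    · obtain ⟨⟨v, hv⟩, hvi⟩ := v
      subst hvi
      have hzv : Commute (z * v) (f ⟨v, hv⟩).1 := (hiz.symm).mul_left (hf2 ⟨v, hv⟩).symm
      obtain ⟨heven, hi⟩ := eq_half_pow (hf1 ⟨v, hv⟩) hi2 (hI2 _).2
      obtain ⟨l, hl | hl⟩ := Nat.even_or_odd' (orderOf (z * v) / 2)
      · exfalso
        have h := pow_conj_left d.hub.sq (hv2 v hv) l
        rw [← hl, ← hi] at h
        have h1 : IsConj z (z * (f ⟨v, hv⟩).1) := isConj_iff.mpr ⟨((z * v) ^ l)⁻¹, by rw [inv_inv]; exact h⟩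
        rw [← hje, ← (hF.el_pt_commute j e).eq, hmulz] at h1
        exact hF.not_isConj_pt hj _ h1
      · have h := pow_conj_right d.hub.sq (hv2 v hv) l
        rw [← hl, ← hi] at h
        refine ⟨(z * v) ^ l, hzv.pow_left l, ?_⟩
        set i0 := (f ⟨v, hv⟩).1
        set c := (z * v) ^ l
        have hc' : Commute c i0 := hzv.pow_left l
        have hzz : c⁻¹ * v * c * i0 = z := by rw [h, mul_assoc, hi2, mul_one]
        calc c * z * c⁻¹ = c * (c⁻¹ * v * c * i0) * c⁻¹ := by rw [hzz]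
          _ = v * (c * i0 * c⁻¹) := by group
          _ = v * i0 := by rw [hc'.eq, mul_inv_cancel_right]
    · rintro ⟨z', c, hc', rfl⟩
      set z' := c * z * c⁻¹
      have hz'2 : z' * z' = 1 := SuzType.conj_sq d.hub.sq
      have hz'i : Commute z' i.1 := (hc'.mul_left hiz.symm).mul_left hc'.inv_left
      have hconj : IsConj a (z' * i.1) := by
        refine (hF.isConj_moved hz0 hj false (!e)).trans (isConj_iff.mpr ⟨c, ?_⟩)
        rw [← hmulz, hje, hiz.eq]
        calc c * (z * i.1) * c⁻¹ = c * z * c⁻¹ * (c * i.1 * c⁻¹) := by group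
          _ = _ := by rw [hc'.eq, mul_inv_cancel_right]
      refine ⟨⟨⟨z' * i.1, hconj⟩, Subtype.ext ?_⟩, Subtype.ext ?_⟩
      · refine unique_invol (hf1 ⟨_, hconj⟩) (hI2 _).1 (hI2 _).2 ?_ hi2 (hI2 i).2
        show i.1 ∈ zpowers (z * (z' * i.1))
        obtain ⟨l, hl | hl⟩ := Nat.even_or_odd' (orderOf (z * z'))
        · exfalso
          have hl0 : 0 < l := by have := orderOf_pos (z * z'); omega
          set x := (z * z') ^ l with hx
          have h1 : x ≠ 1 := pow_ne_one_of_lt_orderOf hl0.ne' (by omega)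
          have h2 : x * x = 1 := by rw [hx, ← pow_add, ← two_mul, ← hl, pow_orderOf_eq_one]
          have hxz : Commute x z := by
            have h3 := conj_mul_pow d.hub.sq hz'2 l
            rw [← hx, inv_eq_of_mul_eq_one_right h2] at h3
            calc x * z = z * x * z * z := by rw [h3]
              _ = z * x := by rw [mul_assoc, d.hub.sq, mul_one]
          have hxi : Commute (z * x) i.1 := hiz.symm.mul_left ((hiz.symm.mul_left hz'i).pow_left l)
          have hzx : IsConj z (z * x) := by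
            obtain ⟨m, hm | hm⟩ := Nat.even_or_odd' l
            · exact isConj_iff.mpr ⟨((z * z') ^ m)⁻¹, by
                rw [inv_inv, pow_conj_left d.hub.sq hz'2 m, ← hm]⟩
            · exact (isConj_iff.mpr ⟨c, rfl⟩ : IsConj z z').trans (isConj_iff.mpr ⟨((z * z') ^ m)⁻¹, by
                rw [inv_inv, pow_conj_right d.hub.sq hz'2 m, ← hm]⟩)
          have h3 := hF.eq_z_of_commute_pt hj e hzx ((Commute.refl z).mul_left hxz) (hje.symm ▸ hxi)
          exact h1 (mul_eq_left.mp h3)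
        · refine mem_zpowers_iff.mpr ⟨(2 * l + 1 : ℕ), ?_⟩
          have hcm : Commute (z * z') i.1 := hiz.symm.mul_left hz'i
          rw [zpow_natCast, ← mul_assoc, hcm.mul_pow, ← hl, pow_orderOf_eq_one, one_mul, hl, pow_succ,
            pow_mul, pow_two, hi2, one_pow, one_mul]
      · show z' * i.1 * i.1 = z'
        rw [mul_assoc, hi2, mul_one]
  -- summation
  haveI : Fintype I := Fintype.ofFinite _
  rw [← Nat.card_congr (Equiv.sigmaFiberEquiv f), Nat.card_sigma]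
  have hdisj : ∀ i : G, IsConj z i ∧ Commute i z ∧ i ≠ z → ¬ (IsConj a i ∧ Commute i z) :=
    fun i h h' => hzne i h'.1 h.1
  rw [← Finset.sum_filter_add_sum_filter_not Finset.univ (fun i : I => IsConj z i.1 ∧ Commute i.1 z ∧ i.1 ≠ z)]
  rw [Finset.sum_congr rfl fun i hi => hfib_z i (Finset.mem_filter.mp hi).2,
    Finset.sum_congr rfl fun i hi => hfib_a i (i.2.resolve_left (Finset.mem_filter.mp hi).2)]
  rw [Finset.sum_const, Finset.sum_const, smul_eq_mul, smul_eq_mul, ← Fintype.card_subtype,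
    ← Fintype.card_subtype, ← Nat.card_eq_fintype_card, ← Nat.card_eq_fintype_card]
  congr 1
  · rw [mul_comm]
    congr 1
    exact Nat.card_congr ⟨fun i => ⟨i.1.1, i.2⟩, fun u => ⟨⟨u.1, Or.inl u.2⟩, u.2⟩, fun _ => rfl, fun _ => rfl⟩
  · congr 1
    rw [← hF.card_moved]
    refine Nat.card_congr ⟨fun i => ⟨i.1.1, (hpt _).mp (i.1.2.resolve_left i.2)⟩,
      fun t => ⟨⟨t.1, Or.inr ((hpt _).mpr t.2)⟩, fun h => hdisj _ h ((hpt _).mpr t.2)⟩, fun _ => rfl, fun _ => rfl⟩

/-- The order of the group. -/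
theorem card_group (hf : Fused z) :
    Nat.card G = 768 * Nat.card (orb z (F.el (pt 0, false))) *
      (Nat.card {u : G // IsConj z u ∧ Commute u z ∧ u ≠ z} + Nat.card (orb z (F.el (pt 0, false)))) := by
  have h := card_conj_orbit (⊤ : Subgroup G) (F.el (pt 0, false))
  rw [top_inf_eq, hF.card_centralizer_pt (by decide) false, card_top] at h
  have e : Nat.card {y // ∃ k ∈ (⊤ : Subgroup G), k * F.el (pt 0, false) * k⁻¹ = y} =
      Nat.card {v : G // IsConj (F.el (pt 0, false)) v} :=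
    Nat.card_congr (Equiv.subtypeEquivRight fun y =>
      ⟨fun ⟨k, _, e⟩ => isConj_iff.mpr ⟨k, e⟩, fun h => by
        obtain ⟨k, e⟩ := isConj_iff.mp h
        exact ⟨k, mem_top _, e⟩⟩)
  rw [e, hF.card_class hf] at h
  rw [← h]; ring

/-- The size of the orbit is one modulo eight. -/
theorem orb_mod {i : Fin 5} (hi : i ≠ 4) (e : Bool) : Nat.card (orb z (F.el (pt i, e))) % 8 = 1 := by
  classical
  set a := F.el (pt i, e) with ha
  have haz : Commute a z := hF.el_pt_commute i e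
  set X := Q ⊓ centralizer ({a} : Set G) with hX
  have hX16 : Nat.card X = 16 := by
    have h : ∀ p : M, F.el p ∈ centralizer ({a} : Set G) ↔ mB p.1 (pt i) = false := fun p => by
      rw [mem_cz, ← SuzType.fl_eq_false, ha, F.fl_el_el d]
    have h16 : Nat.card {p : M // mB p.1 (pt i) = false} = 16 := by
      rw [Nat.card_eq_fintype_card]
      exact (by decide +kernel : ∀ i : Fin 5, Fintype.card {p : M // mB p.1 (pt i) = false} = 16) i
    rw [← h16]
    refine (Nat.card_eq_of_bijective (fun (p : {p : M // mB p.1 (pt i) = false}) => (⟨F.el p.1, mem_inf.mpr ⟨F.el_mem d p.1, (h p.1).mpr p.2⟩⟩ : X))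
      ⟨fun p q he => Subtype.ext (F.el_injective d (congrArg Subtype.val he :)), fun ⟨x, hx⟩ => ?_⟩).symm
    obtain ⟨p, rfl⟩ := F.el_surjective d (mem_inf.mp hx).1
    exact ⟨⟨p, (h p).mp (mem_inf.mp hx).2⟩, rfl⟩
  let O := {y : G // y ∈ orb z a ∧ y ≠ z}
  letI : MulAction X O :=
  { smul := fun x y => ⟨(x : G) * y.1 * (x : G)⁻¹, by
      obtain ⟨⟨c, hc, hce⟩, hne⟩ := y.2
      refine ⟨⟨x * c, (mem_cz.mp (mem_inf.mp x.2).2).mul_left hc, by rw [← hce]; group⟩, fun e1 => hne ?_⟩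
      have hxz : Commute (x : G) z := d.hub.central _ (mem_inf.mp x.2).1
      calc y.1 = (x : G)⁻¹ * ((x : G) * y.1 * (x : G)⁻¹) * x := by group
        _ = z := by rw [e1, mul_assoc, ← hxz.eq, inv_mul_cancel_left]⟩
    one_smul := fun y => Subtype.ext (show (1 : G) * y.1 * (1 : G)⁻¹ = y.1 by group)
    mul_smul := fun x x' y => Subtype.ext (show (x * x' : G) * y.1 * (x * x' : G)⁻¹ =
      x * (x' * y.1 * (x' : G)⁻¹) * (x : G)⁻¹ by group) }
  have hstab : ∀ y : O, Nat.card (MulAction.stabilizer X y) = 2 := by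
    intro y
    obtain ⟨c, hc, hce⟩ := y.2.1
    have hyc : IsConj z y.1 := isConj_iff.mpr ⟨c, hce⟩
    have hya : Commute y.1 a := hce ▸ (hc.mul_left haz.symm).mul_left hc.inv_left
    have hyz : ¬ Commute y.1 z := fun h => y.2.2 (hF.eq_z_of_commute_pt hi e hyc h hya)
    have haX : a ∈ X := mem_inf.mpr ⟨F.el_mem d _, mem_cz.mpr (Commute.refl a)⟩
    have hmem : ∀ x : X, x ∈ MulAction.stabilizer X y ↔ Commute (x : G) y.1 := fun x => by
      rw [MulAction.mem_stabilizer_iff]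
      exact ⟨fun h => mul_inv_eq_iff_eq_mul.mp (congrArg Subtype.val h),
        fun h => Subtype.ext (mul_inv_eq_iff_eq_mul.mpr h)⟩
    rw [Nat.card_eq_two_iff]
    refine ⟨1, ⟨⟨a, haX⟩, (hmem _).mpr hya.symm⟩, fun h => hF.el_pt_ne_one i e
      (congrArg (fun x : MulAction.stabilizer X y => ((x : X) : G)) h).symm, ?_⟩
    refine Set.eq_univ_of_forall fun ⟨⟨x, hx⟩, hxs⟩ => ?_
    have hxy : Commute x y.1 := (hmem _).mp hxs
    obtain ⟨p, rfl⟩ := F.el_surjective d (mem_inf.mp hx).1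
    have hpa : mB p.1 (pt i) = false := by
      rw [← F.fl_el_el d p (pt i, e)]
      exact SuzType.fl_eq_false.mpr (mem_cz.mp (mem_inf.mp hx).2)
    rcases (by decide +kernel : ∀ (p : M) (i : Fin 5) (e : Bool), mB p.1 (pt i) = false →
        p = m1 ∨ p = (pt i, e) ∨ p = mz ∨ p = mm (pt i, e) mz ∨ mm p p = mz) p i e hpa with h | h | h | h | h
    · exact Or.inl (Subtype.ext (Subtype.ext (by show F.el p = 1; rw [h, F.el_one])))
    · exact Or.inr (Subtype.ext (Subtype.ext (by show F.el p = a; rw [h])))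
    · have e1 : F.el p = z := by rw [h, F.el_z]
      rw [e1] at hxy
      exact absurd hxy.symm hyz
    · refine absurd ?_ hyz
      rw [h, F.el_zmul d] at hxy
      have := hya.symm.inv_left.mul_left hxy
      rw [← ha, inv_mul_cancel_left] at this
      exact this.symm
    · refine absurd ?_ hyz
      have := hxy.mul_left hxy
      rw [← F.el_mm d, h, F.el_z] at this
      exact this.symm
  haveI : Fintype (MulAction.orbitRel.Quotient X O) := Fintype.ofFinite _
  have hO : 8 ∣ Nat.card O := by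
    rw [Nat.card_congr (MulAction.selfEquivSigmaOrbits X O), Nat.card_sigma]
    refine Finset.dvd_sum fun ω _ => ?_
    have h1 := (MulAction.stabilizer X ω.out).card_mul_index
    rw [MulAction.index_stabilizer, hstab, hX16, ← Nat.card_coe_set_eq] at h1
    exact ⟨1, by omega⟩
  have hzO : z ∈ orb z a := ⟨1, Commute.one_left a, by group⟩
  have hsum : Nat.card (orb z a) = 1 + Nat.card O := by
    have : Nat.card (orb z a) = Nat.card {y : orb z a // y.1 = z} + Nat.card {y : orb z a // ¬ y.1 = z} := by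
      rw [← Nat.card_sum]; exact Nat.card_congr (Equiv.sumCompl _).symm
    rw [this]
    congr 1
    · haveI : Unique {y : orb z a // y.1 = z} :=
        ⟨⟨⟨⟨z, hzO⟩, rfl⟩⟩, fun y => Subtype.ext (Subtype.ext y.2)⟩
      exact Nat.card_unique
    · exact Nat.card_congr ⟨fun y => ⟨y.1.1, y.1.2, y.2⟩, fun y => ⟨⟨y.1, y.2.1⟩, y.2.2⟩,
        fun _ => rfl, fun _ => rfl⟩
  omega

/-- The conjugates of `z` in its centralizer. -/
theorem card_fused (hf : Fused z) :
    ((∀ w, IsConj z w → Commute w z → F.InY w) ∧ Nat.card {u : G // IsConj z u ∧ Commute u z ∧ u ≠ z} = 2) ∨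
    ((∀ u, Commute u z → u * u = 1 → u ∉ Q → IsDbl (F.perm d u) → IsConj z u) ∧
      Nat.card {u : G // IsConj z u ∧ Commute u z ∧ u ≠ z} = 26) := by
  classical
  obtain ⟨hy, hyz⟩ := hF.isConj_y hf
  have hne : F.pv 4 ≠ F.pv 4 * z := fun h => d.hub.ne_one (left_eq_mul.mp h)
  have hpair : Nat.card {u : G // u = F.pv 4 ∨ u = F.pv 4 * z} = 2 := by
    rw [Nat.card_eq_two_iff]
    refine ⟨⟨_, Or.inl rfl⟩, ⟨_, Or.inr rfl⟩, fun h => hne (congrArg Subtype.val h), Set.eq_univ_of_forall ?_⟩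
    rintro ⟨u, rfl | rfl⟩
    exacts [Or.inl rfl, Or.inr rfl]
  have hinY : ∀ u, F.InY u → u ≠ 1 → u ≠ z → u = F.pv 4 ∨ u = F.pv 4 * z := fun u h h1 h2 =>
    (h.resolve_left h1).resolve_left h2
  by_cases hS : ∀ w, IsConj z w → Commute w z → F.InY w
  · refine Or.inl ⟨hS, ?_⟩
    rw [← hpair]
    refine Nat.card_congr (Equiv.subtypeEquivRight fun u => ⟨fun ⟨h1, h2, h3⟩ =>
      hinY u (hS u h1 h2) (d.conj_ne_one h1) h3, ?_⟩)
    rintro (rfl | rfl)
    exacts [⟨hy, F.y_comm d, F.y_ne_z d⟩, ⟨hyz, (F.y_comm d).mul_left (Commute.refl z), F.yz_ne_z d⟩]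
  · push Not at hS
    obtain ⟨w, hw, hwz, hwY⟩ := hS
    obtain ⟨hwQ, hwd⟩ := (hF.cases_of_isConj hw hwz).resolve_left hwY
    have hall : ∀ u, Commute u z → u * u = 1 → u ∉ Q → IsDbl (F.perm d u) → IsConj z u :=
      fun u hu h2 hQ hd => by
        obtain ⟨k, -, hk⟩ := hF.isConj_outer hwz (d.sq_conj hw) hwQ hwd hu h2 hQ hd
        exact hw.trans (isConj_iff.mpr ⟨k, hk⟩)
    refine Or.inr ⟨hall, ?_⟩
    rw [show (26 : ℕ) = 2 + 24 from rfl, ← hpair, ← hF.card_outer hy, ← Nat.card_sum,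
      Nat.card_congr (Equiv.sumCompl (fun u : {u : G // IsConj z u ∧ Commute u z ∧ u ≠ z} => u.1 ∈ Q)).symm,
      Nat.card_sum, Nat.card_sum]
    congr 1
    · refine Nat.card_congr ⟨fun u => ⟨u.1.1, hinY _ (hF.inY_of_isConj u.2 u.1.2.1) (d.conj_ne_one u.1.2.1) u.1.2.2.2⟩,
        fun u => ⟨⟨u.1, ?_⟩, ?_⟩, fun _ => rfl, fun _ => rfl⟩
      · rcases u.2 with h | h <;> rw [h]
        exacts [⟨hy, F.y_comm d, F.y_ne_z d⟩, ⟨hyz, (F.y_comm d).mul_left (Commute.refl z), F.yz_ne_z d⟩]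
      · rcases u.2 with h | h <;> show u.1 ∈ Q <;> rw [h]
        exacts [F.el_mem d _, mul_mem (F.el_mem d _) d.hub.mem]
    · refine Nat.card_congr ⟨fun u => ⟨u.1.1, u.1.2.2.1, d.sq_conj u.1.2.1, u.2, ?_⟩,
        fun u => ⟨⟨u.1, hall _ u.2.1 u.2.2.1 u.2.2.2.1 u.2.2.2.2, u.2.1, fun e => u.2.2.2.1 (by rw [e]; exact d.hub.mem)⟩,
          u.2.2.2.1⟩, fun _ => rfl, fun _ => rfl⟩
      exact ((hF.cases_of_isConj u.1.2.1 u.1.2.2.1).resolve_left fun h => u.2 (h.mem F d)).2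

end Based

end Cfsg.Agent.AutL34Recog
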