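import Cfsg.Agent.Lib.AutL34Recog.ThreeCent
import Cfsg.Agent.Lib.AutL34Recog.Count
import Cfsg.Agent.Lib.ZStar.Main
import Cfsg.Agent.Lib.PCore.Basic

/-!
# The core of the centralizer of a moved point

By the Z*-theorem `C(a) = J·C(a, z)` with `J` odd, abelian and inverted by `z`.
-/

set_option autoImplicit false
set_option maxHeartbeats 1000000
set_option linter.unusedSectionVars false
set_option synthInstance.maxSize 4096
set_option synthInstance.maxHeartbeats 400000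

namespace Cfsg.Agent.AutL34Recog

open Subgroup
open Cfsg.Agent.LargeExtraspecial (Hub mem_conj_iff)
open Cfsg.Agent.SuzType (pw mem_cz)

variable {G : Type*} [Group G] [Finite G] {z : G} {Q : Subgroup G}

/-- The odd core of `C(a)` and its properties. -/
structure Core (z a : G) (J : Subgroup G) : Prop where
  odd : ∀ x ∈ J, Odd (orderOf x)
  comm : ∀ x ∈ J, Commute x a
  inv : ∀ x ∈ J, z * x * z⁻¹ = x⁻¹
  abel : ∀ x ∈ J, ∀ y ∈ J, Commute x y
  normal : ∀ g, Commute g a → ∀ x ∈ J, g * x * g⁻¹ ∈ J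
  split : ∀ g, Commute g a → ∃ j ∈ J, ∃ h, Commute h z ∧ Commute h a ∧ g = j * h
  mem : ∀ x, Commute x a → Odd (orderOf x) → z * x * z⁻¹ = x⁻¹ → x ∈ J
  card : Nat.card J = Nat.card (orb z a)

namespace Based

variable {d : Data z Q} {F : Frame z Q} (hF : Based d F)
include hF

theorem exists_core {i : Fin 5} (hi : i ≠ 4) (e : Bool) : ∃ J, Core z (F.el (pt i, e)) J := by
  classical
  set a := F.el (pt i, e) with ha
  have haz : Commute a z := hF.el_pt_commute i e
  set C := centralizer ({a} : Set G) with hC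
  let zC : C := ⟨z, mem_cz.mpr haz.symm⟩
  have hzC2 : zC * zC = 1 := Subtype.ext d.hub.sq
  have hiso : Cfsg.IsIsolatedInvolution zC := by
    refine ⟨orderOf_eq_prime (by rw [pow_two]; exact hzC2) fun h => d.hub.ne_one (congrArg Subtype.val h),
      fun g hg => Subtype.ext ?_⟩
    show (g : G) * z * (g : G)⁻¹ = z
    refine hF.eq_z_of_commute_pt hi e (isConj_iff.mpr ⟨(g : G), rfl⟩) (Commute.symm ?_) ?_
    · exact congrArg Subtype.val hg.eq
    · exact ((mem_cz.mp g.2).mul_left haz.symm).mul_left (mem_cz.mp g.2).inv_left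
  have hZ := ZStar.inZStar hiso
  set O := Cfsg.oddCore C with hO
  have hOn : O.Normal := PCore.oddCore_normal
  have hOodd : ∀ o ∈ O, Odd (orderOf o) := fun o ho =>
    PCore.odd_card_oddCore.of_dvd_nat (Subgroup.orderOf_dvd_natCard O ho)
  -- no fixed points
  have hfix : ∀ o ∈ O, Commute (o : G) z → o = 1 := by
    intro o ho hoz
    have hcent : ∀ q ∈ Q, Commute q a → Commute (o : G) q := by
      intro q hq hqa
      let qC : C := ⟨q, mem_cz.mpr hqa⟩
      have h1 : o * qC * o⁻¹ * qC⁻¹ ∈ O := by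
        rw [show o * qC * o⁻¹ * qC⁻¹ = o * (qC * o⁻¹ * qC⁻¹) by group]
        exact mul_mem ho (hOn.conj_mem _ (inv_mem ho) qC)
      have h2 : (((o * qC * o⁻¹ * qC⁻¹ : C)) : G) ∈ Q := by
        simp only [Subgroup.coe_mul, InvMemClass.coe_inv, qC]
        exact mul_mem (d.hub.normalizes _ hoz q hq) (inv_mem hq)
      have h4 := F.pow_four d h2
      set x := o * qC * o⁻¹ * qC⁻¹
      have hx1 : x = 1 := by
        refine eq_one_of_sq_odd (eq_one_of_sq_odd (Subtype.ext h4) ?_) (hOodd x h1)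
        exact (hOodd x h1).of_dvd_nat (orderOf_dvd_of_pow_eq_one (by
          rw [← pow_two, ← pow_mul, mul_comm, pow_mul, pow_orderOf_eq_one, one_pow]))
      have h5 : (o : G) * q * (o : G)⁻¹ * q⁻¹ = 1 := congrArg Subtype.val hx1
      exact mul_inv_eq_iff_eq_mul.mp (mul_inv_eq_one.mp h5)
    have ho3 : orderOf (o : G) ∣ 3 := by
      have hd : orderOf (o : G) ∣ 96 := hF.card_centralizer_pt_inf hi e ▸
        Subgroup.orderOf_dvd_natCard _ (mem_inf.mpr ⟨mem_cz.mpr hoz, o.2⟩)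
      have hodd : Odd (orderOf (o : G)) := by rw [Subgroup.orderOf_coe]; exact hOodd o ho
      exact ((Nat.coprime_two_right.mpr hodd).pow_right 5).dvd_of_dvd_mul_left (show orderOf (o : G) ∣ 2 ^ 5 * 3 from hd)
    have hcube : (o : G) * (o : G) * (o : G) = 1 := by
      rw [← pow_two, ← pow_succ]; exact orderOf_dvd_iff_pow_eq_one.mp ho3
    have hp : F.perm d (o : G) = 1 := by
      refine (by decide +kernel : ∀ (π : Equiv.Perm (Fin 5)) (c : Fin 4 → Bool) (i : Fin 5), i ≠ 4 → π 4 = 4 →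
        π * π * π = 1 → (∀ p : M, mB p.1 (pt i) = false → act π c p = p) → π = 1) _ (F.sgn d (o : G)) i hi
        (hF _ hoz) ?_ ?_
      · rw [← F.perm_mul d hoz hoz, ← F.perm_mul d (hoz.mul_left hoz) hoz, hcube, F.perm_one d]
      · intro p hp
        refine F.el_injective d ?_
        rw [← F.conj_eq_act d hoz, (hcent _ (F.el_mem d p) ?_).eq, mul_inv_cancel_right]
        refine SuzType.fl_eq_false.mp ?_
        rw [ha, F.fl_el_el d]; exact hp
    refine Subtype.ext ?_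
    by_contra h1
    exact hF.perm_ne_one_of_cube hcube h1 hoz hp
  let φ : O →* O :=
  { toFun := fun o => ⟨zC * o * zC⁻¹, hOn.conj_mem _ o.2 zC⟩
    map_one' := by ext; simp
    map_mul' := fun x y => by ext; simp [mul_assoc] }
  have hinv : Function.Involutive φ := fun o => Subtype.ext (by
    show zC * (zC * o * zC⁻¹) * zC⁻¹ = o
    calc zC * (zC * (o : C) * zC⁻¹) * zC⁻¹ = zC * zC * o * (zC * zC)⁻¹ := by group
      _ = _ := by rw [hzC2]; group)
  have hfp : MonoidHom.FixedPointFree φ := fun o h => Subtype.ext (hfix o o.2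
    (Commute.symm (mul_inv_eq_iff_eq_mul.mp (congrArg (fun x : O => ((x : C) : G)) h))))
  have hinvO : ∀ o ∈ O, zC * o * zC⁻¹ = o⁻¹ := fun o ho =>
    congrArg Subtype.val (congrFun (hfp.coe_eq_inv_of_involutive hinv) ⟨o, ho⟩)
  have hsqrt : ∀ o ∈ O, ∃ k ∈ O, k * k = o := by
    intro o ho
    obtain ⟨m, hm⟩ := hOodd o ho
    refine ⟨o ^ (m + 1), pow_mem ho _, ?_⟩
    rw [← pow_add, show m + 1 + (m + 1) = orderOf o + 1 by omega, pow_succ, pow_orderOf_eq_one, one_mul]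
  have hsplit : ∀ g : C, ∃ k ∈ O, Commute (((k⁻¹ * g : C)) : G) z := by
    intro g
    obtain ⟨k, hk, hkk⟩ := hsqrt _ (hZ g)
    refine ⟨k, hk, ?_⟩
    have h1 : k * zC * k⁻¹ = g * zC * g⁻¹ := by
      calc k * zC * k⁻¹ = k * (zC * k⁻¹ * zC⁻¹) * zC := by group
        _ = k * k * zC := by
          rw [show zC * k⁻¹ * zC⁻¹ = (zC * k * zC⁻¹)⁻¹ by group, hinvO k hk, inv_inv]
        _ = _ := by rw [hkk]; group
    refine congrArg Subtype.val (show Commute (k⁻¹ * g) zC from mul_inv_eq_iff_eq_mul.mp ?_).eq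
    calc k⁻¹ * g * zC * (k⁻¹ * g)⁻¹ = k⁻¹ * (g * zC * g⁻¹) * k := by group
      _ = zC := by rw [← h1]; group
  have hinvJ : ∀ x ∈ O.map C.subtype, z * x * z⁻¹ = x⁻¹ := by
    rintro _ ⟨o, ho, rfl⟩
    exact congrArg Subtype.val (hinvO o ho)
  refine ⟨O.map C.subtype, ?_, ?_, hinvJ, ?_, ?_, ?_, ?_, ?_⟩
  · rintro _ ⟨o, ho, rfl⟩
    rw [show C.subtype o = (o : G) from rfl, Subgroup.orderOf_coe]; exact hOodd o ho
  · rintro _ ⟨o, -, rfl⟩
    exact mem_cz.mp o.2
  · intro x hx y hy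
    have e1 := hinvJ _ (mul_mem hx hy)
    have e2 : z * (x * y) * z⁻¹ = (z * x * z⁻¹) * (z * y * z⁻¹) := by group
    rw [e2, hinvJ x hx, hinvJ y hy, mul_inv_rev] at e1
    have := congrArg (fun t => t⁻¹) e1
    simp only [mul_inv_rev, inv_inv] at this
    exact this.symm
  · rintro g hg _ ⟨o, ho, rfl⟩
    exact ⟨⟨g, mem_cz.mpr hg⟩ * o * ⟨g, mem_cz.mpr hg⟩⁻¹, hOn.conj_mem _ ho _, rfl⟩
  · intro g hg
    obtain ⟨k, hk, hkz⟩ := hsplit ⟨g, mem_cz.mpr hg⟩
    refine ⟨_, ⟨k, hk, rfl⟩, _, hkz, mem_cz.mp (k⁻¹ * ⟨g, mem_cz.mpr hg⟩ : C).2, ?_⟩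
    simp only [Subgroup.coe_mul, InvMemClass.coe_inv]
    exact (mul_inv_cancel_left _ _).symm
  · intro x hxa hxo hxi
    set g : C := ⟨x, mem_cz.mpr hxa⟩
    have hgo : Odd (orderOf g) := by rwa [← Subgroup.orderOf_coe]
    obtain ⟨k, hk, hkz⟩ := hsplit g
    have h2 : g * g ∈ O := by
      have hgi : zC * g * zC⁻¹ = g⁻¹ := Subtype.ext hxi
      have h := hZ g⁻¹
      have e1 : g⁻¹ * zC * (g⁻¹)⁻¹ * zC⁻¹ = g⁻¹ * g⁻¹ := by
        rw [inv_inv]
        calc g⁻¹ * zC * g * zC⁻¹ = g⁻¹ * (zC * g * zC⁻¹) := by group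
          _ = _ := by rw [hgi]
      rw [e1] at h
      have h' := inv_mem (show g⁻¹ * g⁻¹ ∈ O from h)
      rwa [mul_inv_rev, inv_inv] at h'
    obtain ⟨m, hm⟩ := hgo
    have hg' : g = (g * g) ^ (m + 1) := by
      rw [← pow_two, ← pow_mul, show 2 * (m + 1) = orderOf g + 1 by omega, pow_succ, pow_orderOf_eq_one, one_mul]
    exact ⟨g, hg'.symm ▸ pow_mem h2 _, rfl⟩
  · rw [Nat.card_congr (O.equivMapOfInjective C.subtype Subtype.val_injective).toEquiv.symm]
    refine Nat.card_eq_of_bijective (fun o => (⟨((o : C) : G) * z * ((o : C) : G)⁻¹,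
      ((o : C) : G), mem_cz.mp (o : C).2, rfl⟩ : orb z a)) ⟨?_, ?_⟩
    · intro o o' h
      have h' : ((o : C) : G) * z * ((o : C) : G)⁻¹ = ((o' : C) : G) * z * ((o' : C) : G)⁻¹ :=
        congrArg Subtype.val h
      have hc : Commute ((((o⁻¹ * o' : O)) : C) : G) z := by
        refine mul_inv_eq_iff_eq_mul.mp ?_
        simp only [Subgroup.coe_mul, InvMemClass.coe_inv]
        calc _ = ((o : C) : G)⁻¹ * (((o' : C) : G) * z * ((o' : C) : G)⁻¹) * ((o : C) : G) := by group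
          _ = z := by rw [← h']; group
      exact inv_mul_eq_one.mp (Subtype.ext (hfix _ (o⁻¹ * o' : O).2 hc))
    · rintro ⟨u, c, hc, rfl⟩
      obtain ⟨k, hk, hkz⟩ := hsplit ⟨c, mem_cz.mpr hc⟩
      refine ⟨⟨k, hk⟩, Subtype.ext ?_⟩
      show (k : G) * z * (k : G)⁻¹ = c * z * c⁻¹
      simp only [Subgroup.coe_mul, InvMemClass.coe_inv] at hkz
      calc (k : G) * z * (k : G)⁻¹ = (k : G) * (z * ((k : G)⁻¹ * c)) * c⁻¹ := by group
        _ = _ := by rw [← hkz.eq]; group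

end Based

end Cfsg.Agent.AutL34Recog
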