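import Cfsg.Agent.Lib.AutL34Recog.Frame

/-!
# The action of `C(z)` on the five singular points

`Based d F`: the fifth point of the frame is fixed by `C(z)`. Such frames exist, the kernel of
`perm` is `Q` and its image consists of all permutations fixing the fifth point.
-/

set_option autoImplicit false
set_option maxHeartbeats 1000000
set_option linter.unusedSectionVars false
set_option synthInstance.maxSize 4096
set_option synthInstance.maxHeartbeats 400000

namespace Cfsg.Agent.AutL34Recog

open Subgroup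
open Cfsg.Agent.LargeExtraspecial (Hub)
open Cfsg.Agent.SuzType (pw pw_mem pw_mul pw_inj fl fl_eq fl_eq_false fl_eq_true fl_spec mem_cz)

variable {G : Type*} [Group G] {z : G} {Q : Subgroup G}

theorem shift_mm : ∀ (w : W) (p : M), mm (w, false) p = mm (shift w p) (w, false) := by decide +kernel

theorem act_pt : ∀ (π : Fin 5 → Fin 5) (c : Fin 4 → Bool) (i : Fin 4),
    act π c (mv i.castSucc) = (pt (π i.castSucc), c i) := by
  intro π c i
  have h1 : ∀ p, mm m1 p = p := mm_one_left
  have h2 : ∀ p, mm p m1 = p := mm_one_right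
  fin_cases i <;> simp [act, mv, pt, mpw, h1, h2]

namespace Frame

variable (F : Frame z Q) (d : Data z Q)
include d

theorem el_zmul (p : M) : F.el (mm p mz) = F.el p * z := by rw [F.el_mm d, F.el_z]

theorem conj_el (w : W) (p : M) :
    F.el (w, false) * F.el p * (F.el (w, false))⁻¹ = F.el (shift w p) := by
  rw [← F.el_mm d, shift_mm, F.el_mm d, mul_inv_cancel_right]

theorem fl_el_el (p q : M) : fl (F.el p) (F.el q) = mB p.1 q.1 := by
  refine fl_eq d.hub (F.el_mem d p) (F.el_mem d q) ?_
  have e : ∀ p q : M, mm p q = mm (mm q (((false, false, false, false) : W), mB p.1 q.1)) p := by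
    decide +kernel
  rw [mul_inv_eq_iff_eq_mul, ← F.el_mm d, e, F.el_mm d, F.el_mm d]
  congr 2
  cases mB p.1 q.1 <;> simp [Frame.el]

theorem pv_sq (i : Fin 5) : F.pv i * F.pv i = 1 := by
  rw [pv, ← F.el_mm d, (by decide +kernel : ∀ i : Fin 5, mm (mv i) (mv i) = m1) i, F.el_one]

theorem conj_pv [Finite G] (h : G) (hh : Commute h z) (i : Fin 5) :
    ∃ (j : Fin 5) (e : Bool), h * F.pv i * h⁻¹ = F.el (pt j, e) := by
  have hm : h * F.pv i * h⁻¹ ∈ Q := d.hub.normalizes h hh _ (F.el_mem d _)
  obtain ⟨p, hp⟩ := F.el_surjective d hm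
  have hsq : F.el p * F.el p = 1 := by rw [hp, SuzType.conj_sq (F.pv_sq d i)]
  rw [← F.el_mm d, ← F.el_one] at hsq
  have hne : ∀ e : Bool, h * F.pv i * h⁻¹ ≠ pw z e := by
    intro e he
    have h2 : F.pv i = pw z e := by
      calc F.pv i = h⁻¹ * (h * F.pv i * h⁻¹) * h := by group
        _ = h⁻¹ * (pw z e * h) := by rw [he]; group
        _ = _ := by rw [← (SuzType.pw_commute hh e).eq, inv_mul_cancel_left]
    cases e
    · have h3 : F.el (mv i) = F.el m1 := h2.trans F.el_one.symm
      exact absurd (F.el_injective d h3) ((by decide +kernel : ∀ i, mv i ≠ m1) i)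
    · have h3 : F.el (mv i) = F.el mz := h2.trans F.el_z.symm
      exact absurd (F.el_injective d h3) ((by decide +kernel : ∀ i, mv i ≠ mz) i)
  rcases sq_eq_one p (F.el_injective d hsq) with e | e | ⟨j, hj⟩
  · exact absurd (by rw [← hp, e, F.el_one]; rfl) (hne false)
  · exact absurd (by rw [← hp, e, F.el_z]; rfl) (hne true)
  · exact ⟨j, p.2, by rw [← hp, ← hj]⟩

theorem exists_perm [Finite G] (h : G) (hh : Commute h z) :
    ∃ π : Equiv.Perm (Fin 5), ∀ i, ∃ e, h * F.pv i * h⁻¹ = F.el (pt (π i), e) := by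
  choose j e hje using F.conj_pv d h hh
  have hinj : Function.Injective j := by
    intro a b hab
    have h1 : h * F.pv a * h⁻¹ = h * (F.pv b * pw z (xor (e a) (e b))) * h⁻¹ := by
      rw [hje a, show h * (F.pv b * pw z (xor (e a) (e b))) * h⁻¹ =
        (h * F.pv b * h⁻¹) * (h * pw z (xor (e a) (e b)) * h⁻¹) by group, hje b, ← hab,
        (SuzType.pw_commute hh _).eq, mul_inv_cancel_right]
      have e2 : ∀ (w : W) (x y : Bool), ((w, x) : M) = mm (w, y) ((false, false, false, false), xor x y) := by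
        decide +kernel
      conv_lhs => rw [e2 (pt (j a)) (e a) (e b), F.el_mm d]
      congr 1
      simp [Frame.el]
    have h2 : F.pv a = F.pv b * pw z (xor (e a) (e b)) := mul_left_cancel (mul_right_cancel h1)
    have h3 : F.el (mv a) = F.el (mm (mv b) ((false, false, false, false), xor (e a) (e b))) := by
      rw [F.el_mm d]
      refine h2.trans ?_
      congr 1
      simp [Frame.el]
    exact pt_injective ((congrArg Prod.fst (F.el_injective d h3)).trans
      ((by decide +kernel : ∀ (b : Fin 5) (x : Bool),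
        (mm (mv b) ((false, false, false, false), x)).1 = pt b) b _))
  exact ⟨Equiv.ofBijective j (Finite.injective_iff_bijective.mp hinj), fun i => ⟨e i, hje i⟩⟩

open Classical in
/-- The permutation of the points induced by an element of `C(z)`. -/
noncomputable def perm [Finite G] (h : G) : Equiv.Perm (Fin 5) :=
  if hh : Commute h z then (F.exists_perm d h hh).choose else 1

open Classical in
theorem perm_spec [Finite G] {h : G} (hh : Commute h z) (i : Fin 5) :
    ∃ e, h * F.pv i * h⁻¹ = F.el (pt (F.perm d h i), e) := by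
  rw [perm, dif_pos hh]
  exact (F.exists_perm d h hh).choose_spec i

theorem perm_unique [Finite G] {h : G} (hh : Commute h z) {i j : Fin 5} {e : Bool}
    (he : h * F.pv i * h⁻¹ = F.el (pt j, e)) : F.perm d h i = j := by
  obtain ⟨e', he'⟩ := F.perm_spec d hh i
  exact pt_injective (congrArg Prod.fst (F.el_injective d (he'.symm.trans he)))

theorem conj_point [Finite G] {h : G} (hh : Commute h z) (i : Fin 5) (x : Bool) :
    ∃ e, h * F.el (pt i, x) * h⁻¹ = F.el (pt (F.perm d h i), e) := by
  obtain ⟨e, he⟩ := F.perm_spec d hh i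
  refine ⟨xor e x, ?_⟩
  have e2 : ∀ (w : W) (y x : Bool), ((w, xor y x) : M) = mm (w, y) ((false, false, false, false), x) := by
    decide +kernel
  have hx : (pt i, x) = mm (mv i) ((false, false, false, false), x) :=
    (by decide +kernel : ∀ i x, (pt i, x) = mm (mv i) ((false, false, false, false), x)) i x
  have hpw : F.el ((false, false, false, false), x) = pw z x := by simp [Frame.el]
  rw [hx, F.el_mm d, e2, F.el_mm d, ← he, hpw]
  calc h * (F.el (mv i) * pw z x) * h⁻¹ = h * F.el (mv i) * (pw z x * h⁻¹) := by group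
    _ = h * F.el (mv i) * (h⁻¹ * pw z x) := by rw [(SuzType.pw_commute hh.inv_left x).eq]
    _ = _ := by rw [pv]; group

theorem perm_mul [Finite G] {g h : G} (hg : Commute g z) (hh : Commute h z) :
    F.perm d (g * h) = F.perm d g * F.perm d h := by
  refine Equiv.ext fun i => ?_
  obtain ⟨e, he⟩ := F.perm_spec d hh i
  obtain ⟨e', he'⟩ := F.conj_point d hg (F.perm d h i) e
  exact F.perm_unique d (hg.mul_left hh) (i := i) (e := e') (by
    rw [show g * h * F.pv i * (g * h)⁻¹ = g * (h * F.pv i * h⁻¹) * g⁻¹ by group, he, he']; rfl)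

theorem perm_el [Finite G] (p : M) : F.perm d (F.el p) = 1 := by
  refine Equiv.ext fun i => ?_
  have hc : Commute (F.el p) z := d.hub.central _ (F.el_mem d p)
  obtain ⟨w, c⟩ := p
  refine F.perm_unique d hc (e := mB w (pt i)) ?_
  have hp : F.el (w, c) = F.el (w, false) * pw z c := by simp [Frame.el]
  rw [hp, show F.el (w, false) * pw z c * F.pv i * (F.el (w, false) * pw z c)⁻¹ =
    F.el (w, false) * (pw z c * F.pv i * (pw z c)⁻¹) * (F.el (w, false))⁻¹ by group,
    pv, Frame.z_comm d (F.el_mem d _) c, mul_inv_cancel_right, F.conj_el d]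
  congr 1
  simp [shift, mv]

/-- Signs of an element of `C(z)`. -/
noncomputable def sgn [Finite G] (h : G) (i : Fin 4) : Bool :=
  open Classical in if hh : Commute h z then (F.perm_spec d hh i.castSucc).choose else false

theorem conj_eq_act [Finite G] {h : G} (hh : Commute h z) (p : M) :
    h * F.el p * h⁻¹ = F.el (act (F.perm d h) (F.sgn d h) p) := by
  classical
  have hv : ∀ i : Fin 4, h * F.v i * h⁻¹ = F.el (pt (F.perm d h i.castSucc), F.sgn d h i) := by
    intro i
    rw [sgn, dif_pos hh, ← F.pv_castSucc]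
    exact (F.perm_spec d hh i.castSucc).choose_spec
  have hz' : h * pw z p.2 * h⁻¹ = F.el (mpw mz p.2) := by
    rw [(SuzType.pw_commute hh p.2).eq, mul_inv_cancel_right]
    cases p.2
    · simp [mpw, F.el_one]
    · simp [mpw, F.el_z]
  have hp : ∀ (i : Fin 4) (b : Bool), h * pw (F.v i) b * h⁻¹ =
      F.el (mpw (pt (F.perm d h i.castSucc), F.sgn d h i) b) := by
    intro i b
    cases b
    · simp [mpw, F.el_one]
    · simpa [mpw] using hv i
  rw [act, F.el_mm d, F.el_mm d, F.el_mm d, F.el_mm d]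
  have e0 := hp 0 p.1.1
  have e1 := hp 1 p.1.2.1
  have e2 := hp 2 p.1.2.2.1
  have e3 := hp 3 p.1.2.2.2
  simp only [show (0 : Fin 4).castSucc = (0 : Fin 5) from rfl, show (1 : Fin 4).castSucc = (1 : Fin 5) from rfl,
    show (2 : Fin 4).castSucc = (2 : Fin 5) from rfl, show (3 : Fin 4).castSucc = (3 : Fin 5) from rfl] at e0 e1 e2 e3
  rw [← e0, ← e1, ← e2, ← e3, ← hz']
  conv_lhs => rw [Frame.el]
  group

/-- The kernel of the action is `Q`. -/
theorem mem_of_perm_eq_one [Finite G] {h : G} (hh : Commute h z) (h1 : F.perm d h = 1) : h ∈ Q := by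
  obtain ⟨w, hw⟩ := exists_shift (F.sgn d h)
  have hcm : ∀ q ∈ Q, Commute ((F.el (w, false))⁻¹ * h) q := by
    intro q hq
    obtain ⟨p, rfl⟩ := F.el_surjective d hq
    have key : act (F.perm d h) (F.sgn d h) p = shift w p := by
      rw [h1, Equiv.Perm.coe_one]
      exact (by decide +kernel : ∀ (c : Fin 4 → Bool) (w : W) (p : M),
        (∀ i : Fin 4, mB w (pt i.castSucc) = c i) → act id c p = shift w p) _ w p hw
    have e := F.conj_eq_act d hh p
    rw [key, ← F.conj_el d] at e
    refine mul_inv_eq_iff_eq_mul.mp ?_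
    calc (F.el (w, false))⁻¹ * h * F.el p * ((F.el (w, false))⁻¹ * h)⁻¹
        = (F.el (w, false))⁻¹ * (h * F.el p * h⁻¹) * F.el (w, false) := by group
      _ = F.el p := by rw [e]; group
  rcases d.hub.self _ hcm with e | e
  · rw [inv_mul_eq_one] at e
    exact e ▸ F.el_mem d _
  · rw [inv_mul_eq_iff_eq_mul] at e
    exact e ▸ mul_mem (F.el_mem d _) d.hub.mem

/-- The action as a homomorphism. -/
noncomputable def permHom [Finite G] : centralizer ({z} : Set G) →* Equiv.Perm (Fin 5) :=
  MonoidHom.mk' (fun h => F.perm d (h : G)) fun g h => F.perm_mul d (mem_cz.mp g.2) (mem_cz.mp h.2)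

theorem card_range [Finite G] : Nat.card (F.permHom d).range = 24 := by
  have hk : (F.permHom d).ker = Q.subgroupOf (centralizer ({z} : Set G)) := by
    ext x
    rw [MonoidHom.mem_ker, mem_subgroupOf]
    refine ⟨fun e => F.mem_of_perm_eq_one d (mem_cz.mp x.2) e, fun e => ?_⟩
    obtain ⟨p, hp⟩ := F.el_surjective d e
    show F.perm d (x : G) = 1
    rw [← hp, F.perm_el d]
  have h1 := (F.permHom d).ker.card_mul_index
  rw [index_ker, hk, Nat.card_congr (subgroupOfEquivOfLe d.le).toEquiv, d.cardQ, d.cardC] at h1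
  omega

end Frame

/-- A subgroup of order 24 of `S₅` fixes a point. -/
theorem exists_fixed_point (K : Subgroup (Equiv.Perm (Fin 5))) (hK : Nat.card K = 24) :
    ∃ f, ∀ p ∈ K, p f = f := by
  classical
  let O : Finset (Fin 5) := Finset.univ.filter fun i => ∃ p ∈ K, p 0 = i
  have hO : ∀ p ∈ K, ∀ i, i ∈ O ↔ p i ∈ O := by
    intro p hp i
    simp only [O, Finset.mem_filter, Finset.mem_univ, true_and]
    constructor
    · rintro ⟨q, hq, rfl⟩
      exact ⟨p * q, mul_mem hp hq, rfl⟩
    · rintro ⟨q, hq, e⟩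
      exact ⟨p⁻¹ * q, mul_mem (inv_mem hp) hq, by simp [e]⟩
  have h0 : (0 : Fin 5) ∈ O := Finset.mem_filter.mpr ⟨Finset.mem_univ _, 1, one_mem _, rfl⟩
  have hdvd : O.card ∣ 24 := by
    have h := (MulAction.stabilizer K (0 : Fin 5)).index_mul_card
    rw [MulAction.index_stabilizer, hK] at h
    have he : (MulAction.orbit K (0 : Fin 5)).ncard = O.card := by
      rw [← Set.ncard_coe_finset]
      congr 1
      ext i
      simp only [O, MulAction.mem_orbit_iff, Finset.coe_filter, Finset.mem_univ, true_and, Set.mem_ofPred_eq]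
      exact ⟨fun ⟨q, e⟩ => ⟨q, q.2, e⟩, fun ⟨q, hq, e⟩ => ⟨⟨q, hq⟩, e⟩⟩
    exact he ▸ Dvd.intro _ h
  have hle : O.card ≤ 5 := (Finset.card_le_univ O).trans (by simp)
  have hfix : ∀ f, (∀ i, i ∈ O ↔ i = f) ∨ (∀ i, i ∈ O ↔ i ≠ f) → ∀ p ∈ K, p f = f := by
    intro f hf p hp
    rcases hf with hf | hf
    · exact (hf _).mp ((hO p hp f).mp ((hf f).mpr rfl))
    · by_contra hne
      exact (hf f).mp ((hO p hp f).mpr ((hf _).mpr hne)) rfl
  have hsmall : O.card = 2 ∨ O.card = 3 → False := by
    intro h23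
    have hsub : ∀ p ∈ K, p ∈ (Finset.univ.filter fun p : Equiv.Perm (Fin 5) => ∀ i, i ∈ O ↔ p i ∈ O) :=
      fun p hp => Finset.mem_filter.mpr ⟨Finset.mem_univ _, hO p hp⟩
    have h1 : Nat.card K ≤ (Finset.univ.filter fun p : Equiv.Perm (Fin 5) => ∀ i, i ∈ O ↔ p i ∈ O).card := by
      rw [Nat.card_eq_fintype_card, ← Finset.card_univ]
      exact Finset.card_le_card_of_injOn (fun p => (p : Equiv.Perm (Fin 5))) (fun p _ => hsub p p.2)
        fun p _ q _ e => Subtype.ext e
    have h2 : ∀ s : Finset (Fin 5), s.card = 2 ∨ s.card = 3 →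
        (Finset.univ.filter fun p : Equiv.Perm (Fin 5) => ∀ i, i ∈ s ↔ p i ∈ s).card ≤ 12 := by
      decide +kernel
    have := h2 O h23
    omega
  have hcase : O.card = 1 ∨ O.card = 4 := by
    have h5 : O.card ≠ 0 := Finset.card_ne_zero.mpr ⟨0, h0⟩
    interval_cases hc : O.card
    · exact absurd rfl h5
    · exact Or.inl rfl
    · exact (hsmall (Or.inl rfl)).elim
    · exact (hsmall (Or.inr rfl)).elim
    · exact Or.inr rfl
    · omega
  rcases hcase with h | h
  · obtain ⟨f, hf⟩ := Finset.card_eq_one.mp h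
    exact ⟨f, hfix f (Or.inl fun i => by rw [hf, Finset.mem_singleton])⟩
  · obtain ⟨f, hf⟩ := Finset.card_eq_one.mp (show Oᶜ.card = 1 by rw [Finset.card_compl, h]; rfl)
    refine ⟨f, hfix f (Or.inr fun i => ?_)⟩
    have := congrArg (i ∈ ·) hf
    simp only [Finset.mem_compl, Finset.mem_singleton, eq_iff_iff] at this
    exact ⟨fun hi e => this.mpr e hi, fun hi => not_not.mp fun hn => hi (this.mp hn)⟩

/-- The fifth point of the frame is fixed by `C(z)`. -/
def Based [Finite G] (d : Data z Q) (F : Frame z Q) : Prop :=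
  ∀ h, Commute h z → F.perm d h 4 = 4

theorem exists_based [Finite G] (d : Data z Q) : ∃ F : Frame z Q, Based d F := by
  obtain ⟨F⟩ := exists_frame d
  obtain ⟨f, hf⟩ := exists_fixed_point _ (F.card_range d)
  set σ : Equiv.Perm (Fin 5) := Equiv.swap f 4 with hσ
  have hanti : ∀ i j : Fin 4, i ≠ j → fl (F.pv (σ i.castSucc)) (F.pv (σ j.castSucc)) = true := by
    intro i j hij
    rw [Frame.pv, Frame.pv, F.fl_el_el d, show (mv (σ i.castSucc)).1 = pt (σ i.castSucc) from rfl,
      show (mv (σ j.castSucc)).1 = pt (σ j.castSucc) from rfl, mB_pt]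
    simp [hij]
  let F' : Frame z Q := ⟨fun i => F.pv (σ i.castSucc), fun i => F.el_mem d _, fun i => F.pv_sq d _, hanti⟩
  refine ⟨F', fun h hh => ?_⟩
  -- old coordinates of the new points
  have hnew : ∀ i : Fin 5, ∃ e, F'.pv i = F.el (pt (σ i), e) := by
    intro i
    refine Fin.lastCases ?_ (fun k => ⟨false, F'.pv_castSucc k⟩) i
    obtain ⟨p, hp⟩ := F.el_surjective d (show F'.pv (Fin.last 4) ∈ Q from F'.el_mem d _)
    have hsq : mm p p = m1 := F.el_injective d (by rw [F.el_mm d, hp, F'.pv_sq d, F.el_one])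
    have hfl : ∀ k : Fin 4, mB p.1 (pt (σ k.castSucc)) = true := by
      intro k
      have e1 := F.fl_el_el d p (mv (σ k.castSucc))
      rw [hp] at e1
      have e2 : fl (F'.pv (Fin.last 4)) (F'.pv k.castSucc) = true := by
        rw [Frame.pv, Frame.pv, F'.fl_el_el d]
        exact (by decide +kernel : ∀ k : Fin 4, mB (mv (Fin.last 4)).1 (mv k.castSucc).1 = true) k
      rw [F'.pv_castSucc] at e2
      exact e1.symm.trans e2
    refine ⟨p.2, ?_⟩
    rw [← hp]
    congr 1
    refine Prod.ext ?_ rfl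
    have key : ∀ (f : Fin 5) (p : M), mm p p = m1 →
        (∀ k : Fin 4, mB p.1 (pt (Equiv.swap f 4 k.castSucc)) = true) →
        p.1 = pt (Equiv.swap f 4 (Fin.last 4)) := by decide +kernel
    exact key f p hsq (by rw [← hσ]; exact hfl)
  obtain ⟨e, he⟩ := hnew 4
  obtain ⟨e', he'⟩ := F.conj_point d hh (σ 4) e
  obtain ⟨e'', he''⟩ := F'.perm_spec d hh 4
  have hfix : F.perm d h (σ 4) = σ 4 := by
    rw [hσ, Equiv.swap_apply_right]
    exact hf _ ⟨⟨h, mem_cz.mpr hh⟩, rfl⟩
  obtain ⟨e3, he3⟩ := hnew (F'.perm d h 4)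
  have hpoint : ∀ (i : Fin 5) (x : Bool), ∃ x', F'.el (pt i, x) = F.el (pt (σ i), x') := by
    intro i x
    obtain ⟨y, hy⟩ := hnew i
    refine ⟨xor y x, ?_⟩
    have e2 : ∀ (i : Fin 5) (x : Bool), (pt i, x) = mm (mv i) ((false, false, false, false), x) := by
      decide +kernel
    have e4 : ∀ (w : W) (y x : Bool), ((w, xor y x) : M) = mm (w, y) ((false, false, false, false), x) := by
      decide +kernel
    have hpw : ∀ F₀ : Frame z Q, F₀.el ((false, false, false, false), x) = pw z x := fun F₀ => by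
      simp [Frame.el]
    rw [e2, F'.el_mm d, e4, F.el_mm d, hpw, hpw, ← hy]
    rfl
  obtain ⟨x, hx⟩ := hpoint (F'.perm d h 4) e''
  rw [he, he', hfix, hx] at he''
  exact (σ.injective (pt_injective (congrArg Prod.fst (F.el_injective d he'')).symm))

/-- Every permutation fixing the fifth point is induced. -/
theorem Based.exists_perm_eq [Finite G] {d : Data z Q} {F : Frame z Q} (hF : Based d F)
    (π : Equiv.Perm (Fin 5)) (hπ : π 4 = 4) : ∃ h, Commute h z ∧ F.perm d h = π := by
  classical
  have h24 : Nat.card {p : Equiv.Perm (Fin 5) // p 4 = 4} = 24 := by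
    rw [Nat.card_eq_fintype_card]; decide +kernel
  let ι : (F.permHom d).range → {p : Equiv.Perm (Fin 5) // p 4 = 4} := fun p => ⟨p, by
    obtain ⟨h, hh⟩ := p.2
    rw [← hh]
    exact hF _ (mem_cz.mp h.2)⟩
  have hb : Function.Bijective ι := (Nat.bijective_iff_injective_and_card ι).mpr
    ⟨fun p q e => Subtype.ext (by simpa [ι] using e), by rw [F.card_range d, h24]⟩
  obtain ⟨⟨p, h, hh⟩, hp⟩ := hb.2 ⟨π, hπ⟩
  exact ⟨h, mem_cz.mp h.2, hh.trans (congrArg Subtype.val hp)⟩

end Cfsg.Agent.AutL34Recog
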