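import Cfsg.Agent.Lib.AutPSL.Group
import Cfsg.Agent.Lib.GL.Simple
import Cfsg.Agent.Lib.Mathieu.PlaneStab

/-!
# The automorphism groups of `PSL₃(4)` and `PGL₃(4)`

Both have at most `241920` elements and are isomorphic: `PGL` embeds in `Aut(PSL)` with normal
image, and `PSL` is characteristic in `PGL`.
-/

set_option autoImplicit false
set_option maxHeartbeats 1000000
set_option linter.unusedSectionVars false

open Matrix
open scoped MatrixGroups

namespace Cfsg.Agent.AutL34Recog

universe u

variable {F : Type u} [Field F] [Fintype F]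

local notation "PSL3" => Matrix.ProjectiveSpecialLinearGroup (Fin 3) F
local notation "PGL3" => GL (Fin 3) F ⧸ Subgroup.center (GL (Fin 3) F)

theorem card_ringAut_le (hF : Fintype.card F = 4) : Nat.card (F ≃+* F) ≤ 2 := by
  classical
  obtain ⟨x, hx0, hx1⟩ : ∃ x : F, x ≠ 0 ∧ x ≠ 1 := by
    by_contra h
    push Not at h
    have : (Finset.univ : Finset F) ⊆ {0, 1} := fun x _ => by
      by_cases hx : x = 0
      · simp [hx]
      · simp [h x hx]
    have := Finset.card_le_card this
    rw [Finset.card_univ, hF] at this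
    have := Finset.card_le_two (a := (0 : F)) (b := 1)
    omega
  obtain ⟨y, hy0, hy1, hyx⟩ : ∃ y : F, y ≠ 0 ∧ y ≠ 1 ∧ y ≠ x := by
    by_contra h
    push Not at h
    have : (Finset.univ : Finset F) ⊆ {0, 1, x} := fun y _ => by
      by_cases hy : y = 0
      · simp [hy]
      · by_cases hy' : y = 1
        · simp [hy']
        · simp [h y hy hy']
    have := Finset.card_le_card this
    rw [Finset.card_univ, hF] at this
    have := Finset.card_le_three (a := (0 : F)) (b := 1) (c := x)
    omega
  have hall : ∀ w : F, w = 0 ∨ w = 1 ∨ w = x ∨ w = y := by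
    intro w
    by_contra h
    push Not at h
    obtain ⟨h0, h1, h2, h3⟩ := h
    have := Finset.card_le_univ ({w, 0, 1, x, y} : Finset F)
    rw [hF, Finset.card_insert_of_notMem (by simp [h0, h1, h2, h3]),
      Finset.card_insert_of_notMem (by simp [hx0.symm, hy0.symm]),
      Finset.card_insert_of_notMem (by simp [hx1.symm, hy1.symm]), Finset.card_pair hyx.symm] at this
    omega
  have hinj : Function.Injective fun σ : F ≃+* F => decide (σ x = x) := by
    intro σ τ h
    simp only [decide_eq_decide] at h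
    have key : ∀ σ : F ≃+* F, σ x ≠ x → σ x = y ∧ σ y = x := by
      intro σ hσ
      have e1 : σ x = y := by
        rcases hall (σ x) with e | e | e | e
        · exact absurd (σ.injective (e.trans (map_zero σ).symm)) hx0
        · exact absurd (σ.injective (e.trans (map_one σ).symm)) hx1
        · exact absurd e hσ
        · exact e
      refine ⟨e1, ?_⟩
      rcases hall (σ y) with e | e | e | e
      · exact absurd (σ.injective (e.trans (map_zero σ).symm)) hy0
      · exact absurd (σ.injective (e.trans (map_one σ).symm)) hy1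
      · exact e
      · exact absurd (σ.injective (e.trans e1.symm)) hyx
    have key' : ∀ σ : F ≃+* F, σ x = x → σ y = y := by
      intro σ hσ
      rcases hall (σ y) with e | e | e | e
      · exact absurd (σ.injective (e.trans (map_zero σ).symm)) hy0
      · exact absurd (σ.injective (e.trans (map_one σ).symm)) hy1
      · exact absurd (σ.injective (e.trans hσ.symm)) hyx
      · exact e
    refine RingEquiv.ext fun w => ?_
    by_cases hσ : σ x = x
    · have hτ := h.mp hσ
      rcases hall w with rfl | rfl | rfl | rfl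
      · rw [map_zero, map_zero]
      · rw [map_one, map_one]
      · rw [hσ, hτ]
      · rw [key' σ hσ, key' τ hτ]
    · have hτ : τ x ≠ x := fun e => hσ (h.mpr e)
      rcases hall w with rfl | rfl | rfl | rfl
      · rw [map_zero, map_zero]
      · rw [map_one, map_one]
      · rw [(key σ hσ).1, (key τ hτ).1]
      · rw [(key σ hσ).2, (key τ hτ).2]
  simpa using Nat.card_le_card_of_injective _ hinj

theorem card_center_GL (hF : Fintype.card F = 4) : Nat.card (Subgroup.center (GL (Fin 3) F)) = 3 := by
  rw [Matrix.GeneralLinearGroup.center_eq_range_scalar]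
  have hinj : Function.Injective (Matrix.GeneralLinearGroup.scalar (R := F) (Fin 3)) := by
    intro a b h
    have := congrArg (fun M : GL (Fin 3) F => M.val 0 0) h
    simpa [Matrix.GeneralLinearGroup.coe_scalar, Units.ext_iff] using this
  rw [Nat.card_congr (MonoidHom.ofInjective hinj).toEquiv.symm, Nat.card_units, Nat.card_eq_fintype_card, hF]

theorem card_PGL3 (hF : Fintype.card F = 4) : Nat.card PGL3 = 60480 := by
  have h := (Subgroup.center (GL (Fin 3) F)).card_mul_index
  rw [Subgroup.index_eq_card, card_center_GL hF, Matrix.card_GL_field, hF, Fin.prod_univ_three] at h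
  norm_num at h
  omega

theorem center_le_ker : Subgroup.center (GL (Fin 3) F) ≤
    (AutPSL.conjP : GL (Fin 3) F →* MulAut PSL3).ker := by
  rw [Matrix.GeneralLinearGroup.center_eq_range_scalar]
  rintro _ ⟨c, rfl⟩
  exact AutPSL.conjP_scalar (m := 2) c

/-- `PGL` inside `Aut(PSL)`. -/
def toAut : PGL3 →* MulAut PSL3 :=
  QuotientGroup.lift _ AutPSL.conjP center_le_ker

theorem toAut_mk (g : GL (Fin 3) F) : toAut (QuotientGroup.mk g : PGL3) = AutPSL.conjP g := rfl

theorem toAut_injective : Function.Injective (toAut : PGL3 →* MulAut PSL3) := by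
  refine (injective_iff_map_eq_one _).mpr fun x hx => ?_
  induction x using QuotientGroup.induction_on with
  | _ g =>
    obtain ⟨c, rfl⟩ := (AutPSL.conjP_eq_one_iff (m := 2) (by norm_num) g).mp hx
    rw [QuotientGroup.eq_one_iff, Matrix.GeneralLinearGroup.center_eq_range_scalar]
    exact ⟨c, rfl⟩

theorem card_aut_PSL3_le (hF : Fintype.card F = 4) : Nat.card (MulAut PSL3) ≤ 241920 := by
  classical
  let f : PGL3 × (F ≃+* F) × Bool → MulAut PSL3 := fun p =>
    toAut p.1 * AutPSL.fieldP p.2.1 * cond p.2.2 AutPSL.invP 1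
  haveI : Finite (F ≃+* F) := Finite.of_injective (fun σ => (σ : F → F)) DFunLike.coe_injective
  have hf : Function.Surjective f := by
    intro β
    obtain ⟨g, σ, γ, hγ, rfl⟩ := AutPSL.exists_decomposition (m := 2) (by norm_num) β
    rcases hγ with rfl | rfl
    · exact ⟨(QuotientGroup.mk g, σ, false), rfl⟩
    · exact ⟨(QuotientGroup.mk g, σ, true), rfl⟩
  refine (Nat.card_le_card_of_surjective f hf).trans ?_
  rw [Nat.card_prod, Nat.card_prod, card_PGL3 hF, Nat.card_eq_fintype_card (α := Bool), Fintype.card_bool]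
  have := card_ringAut_le hF
  omega

theorem exists_conj (α : MulAut PSL3) (g : GL (Fin 3) F) :
    ∃ g' : GL (Fin 3) F, α * AutPSL.conjP g * α⁻¹ = AutPSL.conjP g' := by
  obtain ⟨h, σ, γ, hγ, rfl⟩ := AutPSL.exists_decomposition (m := 2) (by norm_num) α
  obtain ⟨g₁, hg₁⟩ : ∃ g₁, γ * AutPSL.conjP g * γ⁻¹ = (AutPSL.conjP g₁ : MulAut PSL3) := by
    rcases hγ with rfl | rfl
    · exact ⟨g, by group⟩
    · exact ⟨_, mul_inv_eq_iff_eq_mul.mpr (AutPSL.invP_mul_conjP g)⟩
  refine ⟨h * FieldExt.glMap σ g₁ * h⁻¹, ?_⟩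
  rw [map_mul, map_mul, map_inv,
    show AutPSL.conjP h * AutPSL.fieldP σ * γ * AutPSL.conjP g * (AutPSL.conjP h * AutPSL.fieldP σ * γ)⁻¹ =
      AutPSL.conjP h * (AutPSL.fieldP σ * (γ * AutPSL.conjP g * γ⁻¹) * (AutPSL.fieldP σ)⁻¹) *
        (AutPSL.conjP h : MulAut PSL3)⁻¹ by group, hg₁, AutPSL.fieldP_mul_conjP, mul_inv_cancel_right]

/-- **`Aut(PSL₃(4)) ≅ Aut(PGL₃(4))`.** -/
theorem aut_equiv (hF : Fintype.card F = 4) : Nonempty (MulAut PSL3 ≃* MulAut PGL3) := by
  classical
  haveI := GL.PSL_isSimpleGroup (F := F) 3 (by norm_num) (by omega)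
  haveI : Finite PSL3 := Nat.finite_of_card_ne_zero (by rw [Mathieu.PlaneStab.card_PSL34 hF]; norm_num)
  haveI : Finite (MulAut PSL3) := Finite.of_injective (fun σ => (σ : PSL3 → PSL3)) DFunLike.coe_injective
  have hcen : ∀ x : PSL3, (∀ y, x * y = y * x) → x = 1 := by
    intro x hx
    rcases (Subgroup.center PSL3).bot_or_exists_ne_one with h | ⟨w, hw, hw1⟩
    · exact Subgroup.mem_bot.mp (h ▸ Subgroup.mem_center_iff.mpr fun y => (hx y).symm)
    · exfalso
      refine GL.PSL_not_comm (F := F) 3 (by norm_num) (by omega) fun a b => ?_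
      have htop : Subgroup.center PSL3 = ⊤ := (Subgroup.Normal.eq_bot_or_eq_top inferInstance).resolve_left
        fun h => hw1 (Subgroup.mem_bot.mp (h ▸ hw))
      exact (Subgroup.mem_center_iff.mp (htop ▸ Subgroup.mem_top a) b).symm
  let θ := MonoidHom.ofInjective (toAut_injective (F := F))
  have hcen2 : ∀ α : MulAut PSL3, (∀ g : GL (Fin 3) F, α * AutPSL.conjP g * α⁻¹ = AutPSL.conjP g) → α = 1 := by
    intro α h
    refine MulEquiv.ext fun x => ?_
    induction x using QuotientGroup.induction_on with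
    | _ s =>
      have hs := h (Matrix.SpecialLinearGroup.toGL s)
      rw [AutPSL.conjP_toGL (n := 3)] at hs
      set x : PSL3 := QuotientGroup.mk s
      have hxx : MulAut.conj (α x) = MulAut.conj x := by
        rw [← hs]
        refine MulEquiv.ext fun y => ?_
        simp only [MulAut.mul_apply, MulAut.conj_apply, map_mul, map_inv, MulAut.apply_inv_self]
      show α x = x
      refine (inv_mul_eq_one.mp (hcen _ fun y => ?_)).symm
      have hy := MulEquiv.congr_fun hxx y
      simp only [MulAut.conj_apply] at hy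
      calc x⁻¹ * α x * y = x⁻¹ * (α x * y * (α x)⁻¹) * α x := by group
        _ = y * (x⁻¹ * α x) := by rw [hy]; group
  have hmem : ∀ (α : MulAut PSL3) (q : PGL3), α * toAut q * α⁻¹ ∈ (toAut (F := F)).range := by
    intro α q
    induction q using QuotientGroup.induction_on with
    | _ g =>
      obtain ⟨g', hg'⟩ := exists_conj α g
      exact ⟨QuotientGroup.mk g', hg'.symm⟩
  let ψ : MulAut PSL3 → PGL3 → PGL3 := fun α q => θ.symm ⟨α * toAut q * α⁻¹, hmem α q⟩
  have hψ : ∀ α q, toAut (ψ α q) = α * toAut q * α⁻¹ := fun α q =>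
    congrArg Subtype.val (θ.apply_symm_apply ⟨α * toAut q * α⁻¹, hmem α q⟩)
  let Φ : MulAut PSL3 →* MulAut PGL3 :=
  { toFun := fun α =>
      { toFun := ψ α
        invFun := ψ α⁻¹
        left_inv := fun q => toAut_injective (by rw [hψ, hψ]; group)
        right_inv := fun q => toAut_injective (by rw [hψ, hψ]; group)
        map_mul' := fun p q => toAut_injective (by rw [map_mul, hψ, hψ, hψ, map_mul]; group) }
    map_one' := MulEquiv.ext fun q => toAut_injective (by
      show toAut (ψ 1 q) = toAut q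
      rw [hψ]; group)
    map_mul' := fun α β => MulEquiv.ext fun q => toAut_injective (by
      show toAut (ψ (α * β) q) = toAut (ψ α (ψ β q))
      rw [hψ, hψ, hψ]; group) }
  have hΦ : Function.Injective Φ := (injective_iff_map_eq_one Φ).mpr fun α h => hcen2 α fun g => by
    have := congrArg toAut (MulEquiv.congr_fun h (QuotientGroup.mk g))
    rw [show (Φ α) (QuotientGroup.mk g) = ψ α (QuotientGroup.mk g) from rfl, hψ] at this
    exact this
  -- `PSL` is characteristic in `PGL`
  let ι : PSL3 →* MulAut PSL3 := MulAut.conj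
  have hι : ∀ x, ∃ q : PGL3, toAut q = ι x := fun x => by
    induction x using QuotientGroup.induction_on with
    | _ s => exact ⟨QuotientGroup.mk (Matrix.SpecialLinearGroup.toGL s), AutPSL.conjP_toGL s⟩
  choose j hj using hι
  let jh : PSL3 →* PGL3 := MonoidHom.mk' j fun a b => toAut_injective (by rw [map_mul, hj, hj, hj, map_mul])
  have hjh : ∀ x, toAut (jh x) = MulAut.conj x := hj
  have hjinj : Function.Injective jh := fun a b h => by
    have h' := congrArg toAut h
    rw [hjh, hjh] at h'
    refine inv_mul_eq_one.mp (hcen _ fun y => ?_)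
    have hy := MulEquiv.congr_fun h' y
    simp only [MulAut.conj_apply] at hy
    calc a⁻¹ * b * y = a⁻¹ * (b * y * b⁻¹) * b := by group
      _ = y * (a⁻¹ * b) := by rw [← hy]; group
  have hequiv : ∀ (q : PGL3) (x : PSL3), q * jh x * q⁻¹ = jh (toAut q x) := fun q x => toAut_injective (by
    rw [map_mul, map_mul, map_inv, hjh, hjh]
    refine MulEquiv.ext fun y => ?_
    simp only [MulAut.mul_apply, MulAut.conj_apply, map_mul, map_inv, MulAut.apply_inv_self])
  haveI hSn : jh.range.Normal := ⟨fun n hn q => by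
    obtain ⟨x, rfl⟩ := hn
    exact ⟨_, (hequiv q x).symm⟩⟩
  have hSsub : ∀ γ : MulAut PGL3, ∀ x, γ (jh x) ∈ jh.range := by
    intro γ
    let γh : PGL3 →* PGL3 := (γ : PGL3 ≃* PGL3).toMonoidHom
    let N := jh.range.map γh
    haveI hNn : N.Normal := Subgroup.Normal.map hSn γh γ.surjective
    let K := N.comap jh
    rcases (Subgroup.Normal.eq_bot_or_eq_top (inferInstance : K.Normal)) with hK | hK
    · exfalso
      obtain ⟨x₀, hx₀⟩ : ∃ x : PSL3, x ≠ 1 := by
        by_contra h
        push Not at h
        exact GL.PSL_not_comm (F := F) 3 (by norm_num) (by omega) fun a b => by rw [h a, h b]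
      have hcm : ∀ x, γ (jh x₀) * jh x = jh x * γ (jh x₀) := by
        intro x
        have hm1 : γ (jh x₀) ∈ N := ⟨jh x₀, ⟨x₀, rfl⟩, rfl⟩
        have h1 : γ (jh x₀) * jh x * (γ (jh x₀))⁻¹ * (jh x)⁻¹ ∈ jh.range :=
          mul_mem (hSn.conj_mem _ ⟨x, rfl⟩ _) (inv_mem ⟨x, rfl⟩)
        have h2 : γ (jh x₀) * jh x * (γ (jh x₀))⁻¹ * (jh x)⁻¹ ∈ N := by
          rw [show γ (jh x₀) * jh x * (γ (jh x₀))⁻¹ * (jh x)⁻¹ =
            γ (jh x₀) * (jh x * (γ (jh x₀))⁻¹ * (jh x)⁻¹) by group]
          exact mul_mem hm1 (hNn.conj_mem _ (inv_mem hm1) _)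
        obtain ⟨w, hw⟩ := h1
        have hw1 : w = 1 := Subgroup.mem_bot.mp (hK ▸ (show w ∈ K by rw [Subgroup.mem_comap, hw]; exact h2))
        rw [hw1, map_one] at hw
        exact mul_inv_eq_iff_eq_mul.mp (mul_inv_eq_one.mp hw.symm)
      refine hx₀ (hjinj ?_)
      rw [map_one]
      refine γ.injective ?_
      rw [map_one]
      refine toAut_injective ?_
      rw [map_one]
      refine MulEquiv.ext fun x => hjinj ?_
      rw [← hequiv, hcm x, mul_inv_cancel_right]
      rfl
    · intro x
      have hsub : jh.range ≤ N := by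
        rintro _ ⟨w, rfl⟩
        exact Subgroup.mem_comap.mp (hK ▸ Subgroup.mem_top w : w ∈ K)
      have : Finite PGL3 := Nat.finite_of_card_ne_zero (by rw [card_PGL3 hF]; norm_num)
      have heq : jh.range = N := Subgroup.eq_of_le_of_card_ge hsub
        (by rw [Subgroup.card_map_of_injective γ.injective])
      exact heq ▸ ⟨jh x, ⟨x, rfl⟩, rfl⟩
  choose r hr using hSsub
  have hbij : ∀ γ, Function.Bijective (r γ) := fun γ => Finite.injective_iff_bijective.mp fun a b h =>
    hjinj (γ.injective (by rw [← hr, ← hr, h]))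
  let R : MulAut PGL3 → MulAut PSL3 := fun γ =>
    MulEquiv.mk' (Equiv.ofBijective _ (hbij γ)) fun a b => hjinj (by
      show jh (r γ (a * b)) = jh (r γ a * r γ b)
      rw [map_mul, hr, hr, hr, map_mul, map_mul])
  have hR : Function.Injective R := by
    intro γ δ h
    have hS : ∀ x, γ (jh x) = δ (jh x) := fun x => by
      rw [← hr γ x, ← hr δ x]
      exact congrArg jh (MulEquiv.congr_fun h x)
    refine MulEquiv.ext fun q => ?_
    refine toAut_injective (MulEquiv.ext fun x => ?_)
    obtain ⟨x', hx'⟩ := (hbij γ).2 x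
    subst hx'
    refine hjinj ?_
    rw [← hequiv, ← hequiv, hr]
    have e1 : γ q * γ (jh x') * (γ q)⁻¹ = γ (jh (toAut q x')) := by rw [← map_mul, ← map_inv, ← map_mul, hequiv]
    have e2 : δ q * δ (jh x') * (δ q)⁻¹ = δ (jh (toAut q x')) := by rw [← map_mul, ← map_inv, ← map_mul, hequiv]
    rw [e1, hS x', e2, hS]
  exact ⟨MulEquiv.ofBijective Φ
    ⟨hΦ, ((Nat.bijective_iff_injective_and_card Φ).mpr
      ⟨hΦ, le_antisymm (@Nat.card_le_card_of_injective _ _ (Finite.of_injective R hR) Φ hΦ)
        (Nat.card_le_card_of_injective R hR)⟩).2⟩⟩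

end Cfsg.Agent.AutL34Recog
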