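import Cfsg.Agent.Lib.AutL34Recog.AJ

/-!
# The orbit of `z` under the centralizer of a moved point

It has one element, or nine when the conjugates of `z` fill the outer involutions of double type.
-/

set_option autoImplicit false
set_option maxHeartbeats 1000000
set_option linter.unusedSectionVars false
set_option synthInstance.maxSize 4096
set_option synthInstance.maxHeartbeats 400000

namespace Cfsg.Agent.AutL34Recog

open Subgroup
open Cfsg.Agent.LargeExtraspecial (Hub mem_conj_iff)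
open Cfsg.Agent.SuzType (pw mem_cz)

variable {G : Type*} [Group G] [Finite G] {z : G} {Q : Subgroup G}

theorem two_dvd_card_fixed {α : Type*} [Finite α] (f : α → α) (hf : ∀ x, f (f x) = x)
    (heven : 2 ∣ Nat.card α) : 2 ∣ Nat.card {x // f x = x} := by
  classical
  haveI : Fact (Nat.Prime 2) := ⟨Nat.prime_two⟩
  haveI := Fintype.ofFinite α
  let σ : Equiv.Perm α := ⟨f, f, hf, hf⟩
  have h := Equiv.Perm.card_compl_support_modEq (p := 2) (n := 1) (σ := σ) (by
    ext x; simp [σ, pow_two, hf])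
  have hc : Nat.card {x // f x = x} = σ.supportᶜ.card := by
    rw [Nat.card_eq_fintype_card, Fintype.card_subtype]
    congr 1
    ext x
    simp [σ]
  rw [Nat.card_eq_fintype_card] at heven
  rw [hc]
  obtain ⟨k, hk⟩ := heven
  exact Nat.dvd_of_mod_eq_zero (by rw [h, hk]; simp)

theorem card_eq_add_one {α : Type*} [Finite α] (a : α) : Nat.card α = 1 + Nat.card {x : α // x ≠ a} := by
  classical
  rw [← Nat.card_congr (Equiv.sumCompl fun x : α => x = a), Nat.card_sum]
  congr 1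
  haveI : Unique {x : α // x = a} := ⟨⟨⟨a, rfl⟩⟩, fun y => Subtype.ext y.2⟩
  exact Nat.card_unique

theorem mem_zpowers_cube {x r : G} (hx : x * x * x = 1) (hr : r ∈ zpowers x) : r = 1 ∨ r = x ∨ r = x * x := by
  obtain ⟨n, rfl⟩ := (mem_powers_iff_mem_zpowers.mpr hr : r ∈ Submonoid.powers x)
  have h3 : x ^ 3 = 1 := by rw [pow_succ, pow_two]; exact hx
  have e : x ^ n = x ^ (n % 3) := by
    conv_lhs => rw [← Nat.mod_add_div n 3, pow_add, pow_mul, h3, one_pow, mul_one]
  simp only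
  rw [e]
  have : n % 3 < 3 := Nat.mod_lt _ (by norm_num)
  interval_cases n % 3
  · exact Or.inl (pow_zero _)
  · exact Or.inr (Or.inl (pow_one _))
  · exact Or.inr (Or.inr (pow_two _))

namespace Based

variable {d : Data z Q} {F : Frame z Q} (hF : Based d F)
include hF

theorem y_conj_a : F.pv 4 * F.el (pt 0, false) * (F.pv 4)⁻¹ = F.el (pt 0, false) * z := by
  rw [show F.pv 4 = F.el (pt 4, false) from rfl, F.el_minv d, ← F.el_mm d, ← F.el_mm d, ← F.el_zmul d]
  exact congrArg F.el (by decide +kernel)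

/-- An element of the core does not commute with its conjugate by `y`. -/
theorem eq_one_of_commute_conj (hf : Fused z) {J : Subgroup G} (hJ : Core z (F.el (pt 0, false)) J) {c : G}
    (hc : c ∈ J) (hcc : Commute c (F.pv 4 * c * (F.pv 4)⁻¹)) : c = 1 := by
  set y := F.pv 4 with hy
  set a := F.el (pt 0, false)
  set c' := y * c * y⁻¹ with hc'
  have hy2 : y * y = 1 := F.pv_sq d 4
  have hyz : Commute y z := F.y_comm d
  have hci : z * c' * z⁻¹ = c'⁻¹ := by
    have hzy : y⁻¹ * z * y = z := by rw [mul_assoc, ← hyz.eq, inv_mul_cancel_left]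
    calc z * c' * z⁻¹ = y * ((y⁻¹ * z * y) * c * (y⁻¹ * z * y)⁻¹) * y⁻¹ := by rw [hc']; group
      _ = c'⁻¹ := by rw [hzy, hJ.inv c hc, hc']; group
  set p := c * c' with hp
  have hco : Odd (orderOf c') := by
    rw [hc', show y * c * y⁻¹ = MulAut.conj y c from rfl, MulEquiv.orderOf_eq]; exact hJ.odd c hc
  have hpo : Odd (orderOf p) := ((hJ.odd c hc).mul hco).of_dvd_nat hcc.orderOf_mul_dvd_mul_orderOf
  have hpy : Commute p y := Commute.symm (mul_inv_eq_iff_eq_mul.mp (by
    calc y * p * y⁻¹ = c' * (y * y * c * (y * y)⁻¹) := by rw [hp, hc']; group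
      _ = p := by rw [hy2, hp, hcc.eq]; group))
  have hpi : z * p * z⁻¹ = p⁻¹ := by
    calc z * p * z⁻¹ = (z * c * z⁻¹) * (z * c' * z⁻¹) := by rw [hp]; group
      _ = p⁻¹ := by rw [hJ.inv c hc, hci, hp]; exact hcc.inv_inv.eq.trans (mul_inv_rev c c').symm
  have hY := hF.inY_of_commute_y hf hpy
  have he : p * z * p⁻¹ = p * p * z := by
    calc p * z * p⁻¹ = p * (z * p * z⁻¹)⁻¹ * z := by group
      _ = _ := by rw [hpi, inv_inv]
  rw [he] at hY
  have h2 : p * p * (p * p) = 1 := by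
    have hm : F.InY (p * p) := by
      have e : p * p = p * p * z * z := by rw [mul_assoc _ z z, d.hub.sq, mul_one]
      rw [e]
      rcases hY with h | h | h | h <;> rw [h]
      · rw [one_mul]; exact Or.inr (Or.inl rfl)
      · rw [d.hub.sq]; exact Or.inl rfl
      · exact Or.inr (Or.inr (Or.inr rfl))
      · rw [mul_assoc, d.hub.sq, mul_one]; exact Or.inr (Or.inr (Or.inl rfl))
    exact hm.sq F d
  have hp1 : p = 1 := eq_one_of_sq_odd (eq_one_of_sq_odd h2 (hpo.of_dvd_nat (orderOf_dvd_of_pow_eq_one (by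
    rw [← pow_two, ← pow_mul, mul_comm, pow_mul, pow_orderOf_eq_one, one_pow])))) hpo
  have hcaz : Commute c' (a * z) := by
    rw [hc', ← hF.y_conj_a]
    exact (hJ.comm c hc).map (MulAut.conj y).toMonoidHom
  rw [show c' = c⁻¹ from eq_inv_of_mul_eq_one_right hp1] at hcaz
  have hcz : Commute c z := by
    have h' : Commute c (a * z) := by simpa using hcaz.inv_left
    have h := (hJ.comm c hc).inv_right.mul_right h'
    rw [inv_mul_cancel_left] at h
    exact h
  have hi := hJ.inv c hc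
  rw [hcz.symm.eq, mul_inv_cancel_right] at hi
  exact eq_one_of_sq_odd (mul_eq_one_iff_eq_inv.mpr hi) (hJ.odd c hc)

theorem res_of_odd {x : G} (hx : Odd (orderOf x)) : x ∈ Cfsg.pResidual 2 G :=
  Transfer.mem_residual_of_coprime (Nat.coprime_two_right.mpr hx)

/-- The centralizer in `O²(G)` of an element of the core has odd order. -/
theorem odd_of_commute (hf : Fused z) {J : Subgroup G} (hJ : Core z (F.el (pt 0, false)) J) {c : G}
    (hc : c ∈ J) (hc1 : c ≠ 1) {x : G} (hx : x ∈ Cfsg.pResidual 2 G) (hxc : Commute x c) :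
    Odd (orderOf x) := by
  classical
  haveI := Transfer.pResidual_normal (G := G) 2
  set a := F.el (pt 0, false) with ha
  have hz0 : (0 : Fin 5) ≠ 4 := by decide
  by_contra hev
  rw [Nat.not_odd_iff_even] at hev
  set L := Cfsg.pResidual 2 G ⊓ centralizer ({c} : Set G)
  have memL : ∀ {x : G}, x ∈ L ↔ x ∈ Cfsg.pResidual 2 G ∧ Commute x c := fun {x} => by
    rw [mem_inf, mem_cz]
  have hL2 : 2 ∣ Nat.card L :=
    (even_iff_two_dvd.mp hev).trans (Subgroup.orderOf_dvd_natCard L (memL.mpr ⟨hx, hxc⟩))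
  have hS := two_dvd_card_fixed (fun w : L => w⁻¹) (fun w => inv_inv w) hL2
  have haL : ∀ w : L, a * (w : G) * a⁻¹ ∈ L := fun w => memL.mpr
    ⟨Subgroup.Normal.conj_mem inferInstance _ (memL.mp w.2).1 a,
      ((hJ.comm c hc).symm.mul_left (memL.mp w.2).2).mul_left (hJ.comm c hc).symm.inv_left⟩
  let f : {w : L // w⁻¹ = w} → {w : L // w⁻¹ = w} := fun w => ⟨⟨a * (w.1 : G) * a⁻¹, haL w.1⟩, Subtype.ext (by
    show (a * (w.1 : G) * a⁻¹)⁻¹ = a * (w.1 : G) * a⁻¹
    calc (a * (w.1 : G) * a⁻¹)⁻¹ = a * (w.1 : G)⁻¹ * a⁻¹ := by group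
      _ = _ := by rw [show (w.1 : G)⁻¹ = w.1 from congrArg Subtype.val w.2])⟩
  have ha2 : a * a = 1 := hF.el_pt_sq 0 false
  obtain ⟨⟨⟨i, hiL⟩, hii⟩, hne, hfi⟩ := exists_fixed_of_even f (fun w => Subtype.ext (Subtype.ext (by
      show a * (a * (w.1 : G) * a⁻¹) * a⁻¹ = w.1
      calc a * (a * (w.1 : G) * a⁻¹) * a⁻¹ = a * a * w.1 * (a * a)⁻¹ := by group
        _ = _ := by rw [ha2]; group))) hS ⟨1, inv_one⟩ (Subtype.ext (Subtype.ext (by
      show a * ((1 : L) : G) * a⁻¹ = ((1 : L) : G)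
      simp)))
  have hi1 : i ≠ 1 := fun e => hne (Subtype.ext (Subtype.ext e))
  have hi2 : i * i = 1 := mul_eq_one_iff_eq_inv.mpr (congrArg Subtype.val hii).symm
  have hia : Commute i a := (mul_inv_eq_iff_eq_mul.mp
    (congrArg (fun w : {w : L // w⁻¹ = w} => ((w.1 : L) : G)) hfi)).symm
  obtain ⟨hiN, hic⟩ := memL.mp hiL
  obtain ⟨j, hj, h, hhz, hha, rfl⟩ := hJ.split i hia
  have hhN : h ∈ Cfsg.pResidual 2 G := by
    have := mul_mem (inv_mem (hF.res_of_odd (hJ.odd j hj))) hiN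
    rwa [inv_mul_cancel_left] at this
  have hh2 : h * h = 1 := by
    have hmem : h * h ∈ J := by
      have e : h * h = (h * j * h⁻¹)⁻¹ * j⁻¹ := by
        calc h * h = (h * j * h⁻¹)⁻¹ * (j⁻¹ * (j * h * (j * h))) := by group
          _ = _ := by rw [hi2, mul_one]
      rw [e]
      exact mul_mem (inv_mem (hJ.normal h hha j hj)) (inv_mem hj)
    have hi := hJ.inv _ hmem
    rw [(hhz.mul_left hhz).symm.eq, mul_inv_cancel_right] at hi
    exact eq_one_of_sq_odd (mul_eq_one_iff_eq_inv.mpr hi) (hJ.odd _ hmem)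
  rcases hF.inY_or_dbl_of_mem_T (hF.mem_T_of_sq hf hhN hhz hh2) hh2 with hY | ⟨-, hd⟩
  · rcases hY with e | e | e
    · subst e
      rw [mul_one] at hi1 hi2
      exact hi1 (eq_one_of_sq_odd hi2 (hJ.odd j hj))
    · subst e
      have hh := mul_inv_eq_iff_eq_mul.mpr hic.eq
      rw [show j * h * c * (j * h)⁻¹ = j * (h * c * h⁻¹) * j⁻¹ by group, hJ.inv c hc,
        ((hJ.abel j hj c hc).inv_right).eq, mul_inv_cancel_right] at hh
      exact hc1 (eq_one_of_sq_odd (mul_eq_one_iff_eq_inv.mpr hh.symm) (hJ.odd c hc))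
    · obtain ⟨e', he'⟩ : ∃ e', F.el (pt 4, e') = h := by
        rcases e with rfl | rfl
        · exact ⟨false, by simp [F.el_pt d]⟩
        · exact ⟨true, by simp [F.el_pt d]⟩
      subst he'
      have h0 := SuzType.fl_eq_false.mpr hha
      rw [ha, F.fl_el_el d, mB_pt] at h0
      simp at h0
  · obtain ⟨e', he'⟩ := F.conj_point d hhz 0 false
    rw [hha.eq, mul_inv_cancel_right] at he'
    exact hz0 (hd 0 (pt_injective (congrArg Prod.fst (F.el_injective d he'))).symm)

/-- Either the centralizer in `O²(G)` of `c` lies in the core, or `c` centralizes an element of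
order three of `C(a, z)`. -/
theorem core_dichotomy (hf : Fused z) {J : Subgroup G} (hJ : Core z (F.el (pt 0, false)) J) {c : G}
    (hc : c ∈ J) (hc1 : c ≠ 1) :
    (∀ x ∈ Cfsg.pResidual 2 G, Commute x c → x ∈ J) ∨
    ∃ ρ, ρ * ρ * ρ = 1 ∧ ρ ≠ 1 ∧ Commute ρ z ∧ Commute ρ (F.el (pt 0, false)) ∧ Commute c ρ := by
  classical
  haveI := Transfer.pResidual_normal (G := G) 2
  set N := Cfsg.pResidual 2 G with hN
  set a := F.el (pt 0, false) with ha
  have haz : Commute a z := hF.el_pt_commute 0 false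
  have hci := hJ.inv c hc
  have hza : ∀ x, x ∈ N → Commute x c → z * x * z⁻¹ ∈ N ∧ Commute (z * x * z⁻¹) c := by
    intro x hx hxc
    refine ⟨Subgroup.Normal.conj_mem inferInstance _ hx z, ?_⟩
    have h := hxc.map (MulAut.conj z).toMonoidHom
    simp only [MulEquiv.toMonoidHom_eq_coe, MonoidHom.coe_coe, MulAut.conj_apply, hci] at h
    simpa using h.inv_right
  by_cases hK : ∃ x ∈ N, Commute x c ∧ Commute x z ∧ x ≠ 1
  · right
    obtain ⟨x, hx, hxc, hxz, hx1⟩ := hK
    set K := (centralizer ({z} : Set G) ⊓ N) ⊓ centralizer ({c} : Set G) with hKdef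
    have memK : ∀ {w : G}, w ∈ K ↔ (Commute w z ∧ w ∈ N) ∧ Commute w c := fun {w} => by
      rw [hKdef, mem_inf, mem_inf, mem_cz, mem_cz]
    have hd : Nat.card K ∣ 192 := (hF.residual_facts hf).2.1 ▸ card_dvd_of_le inf_le_left
    have hodd : ¬ 2 ∣ Nat.card K := fun h => by
      haveI : Fact (Nat.Prime 2) := ⟨Nat.prime_two⟩
      obtain ⟨w, hw⟩ := exists_prime_orderOf_dvd_card' 2 h
      have h' := hF.odd_of_commute hf hJ hc hc1 (memK.mp w.2).1.2 (memK.mp w.2).2
      rw [Subgroup.orderOf_coe, hw] at h'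
      exact absurd h' (by decide)
    have h3 : Nat.card K ∣ 3 :=
      (((Nat.prime_two.coprime_iff_not_dvd.mpr hodd).symm).pow_right 6).dvd_of_dvd_mul_left
        (show Nat.card K ∣ 2 ^ 6 * 3 from hd)
    have hxK : x ∈ K := memK.mpr ⟨⟨hxz, hx⟩, hxc⟩
    have hcube : x * x * x = 1 := by
      rw [← pow_two, ← pow_succ]
      exact orderOf_dvd_iff_pow_eq_one.mp ((Subgroup.orderOf_dvd_natCard K hxK).trans h3)
    have hzx : zpowers x = K := by
      refine Subgroup.eq_of_le_of_card_ge (zpowers_le.mpr hxK) ?_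
      rw [Nat.card_zpowers]
      rcases (Nat.dvd_prime Nat.prime_three).mp ((Subgroup.orderOf_dvd_natCard K hxK).trans h3) with e | e
      · exact absurd (orderOf_eq_one_iff.mp e) hx1
      · rw [e]; exact Nat.le_of_dvd (by norm_num) h3
    refine ⟨x, hcube, hx1, hxz, ?_, hxc.symm⟩
    have hac := (hJ.comm c hc).symm
    have hm : a * x * a⁻¹ ∈ K := memK.mpr ⟨⟨(haz.mul_left hxz).mul_left haz.inv_left,
      Subgroup.Normal.conj_mem inferInstance _ hx a⟩, (hac.mul_left hxc).mul_left hac.inv_left⟩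
    rw [← hzx] at hm
    rcases mem_zpowers_cube hcube hm with e | e | e
    · exact absurd (conj_eq_one_iff.mp e) hx1
    · exact (mul_inv_eq_iff_eq_mul.mp e).symm
    · exfalso
      refine hF.perm_ne_one_of_cube hcube hx1 hxz ?_
      have h := congrArg (F.perm d) e
      rw [F.perm_conj d haz hxz, F.perm_mul d hxz hxz, ha, F.perm_el d, one_mul, inv_one, mul_one] at h
      exact mul_eq_left.mp h.symm
  · left
    push Not at hK
    set L := N ⊓ centralizer ({c} : Set G)
    have memL : ∀ {x : G}, x ∈ L ↔ x ∈ N ∧ Commute x c := fun {x} => by rw [mem_inf, mem_cz]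
    let φ : L →* L :=
    { toFun := fun w => ⟨z * w * z⁻¹, memL.mpr (hza _ (memL.mp w.2).1 (memL.mp w.2).2)⟩
      map_one' := by ext; simp
      map_mul' := fun v w => by ext; simp [mul_assoc] }
    have hinv : Function.Involutive φ := fun w => Subtype.ext (by
      show z * (z * w * z⁻¹) * z⁻¹ = w
      calc z * (z * (w : G) * z⁻¹) * z⁻¹ = z * z * w * (z * z)⁻¹ := by group
        _ = _ := by rw [d.hub.sq]; group)
    have hfp : MonoidHom.FixedPointFree φ := fun w hw => Subtype.ext (hK _ (memL.mp w.2).1 (memL.mp w.2).2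
      (Commute.symm (mul_inv_eq_iff_eq_mul.mp (congrArg Subtype.val hw))))
    have hinvL : ∀ w ∈ L, z * w * z⁻¹ = w⁻¹ := fun w hw =>
      congrArg Subtype.val (congrFun (hfp.coe_eq_inv_of_involutive hinv) ⟨w, hw⟩)
    have habel : ∀ v ∈ L, ∀ w ∈ L, Commute v w := by
      intro v hv w hw
      have e1 := hinvL _ (mul_mem hv hw)
      rw [show z * (v * w) * z⁻¹ = (z * v * z⁻¹) * (z * w * z⁻¹) by group, hinvL v hv, hinvL w hw,
        mul_inv_rev] at e1
      have := congrArg (fun t => t⁻¹) e1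
      simp only [mul_inv_rev, inv_inv] at this
      exact this.symm
    have hJL : ∀ j ∈ J, j ∈ L := fun j hj => memL.mpr ⟨hF.res_of_odd (hJ.odd j hj), hJ.abel j hj c hc⟩
    intro x hx hxc
    have hxL : x ∈ L := memL.mpr ⟨hx, hxc⟩
    have hac := (hJ.comm c hc).symm
    have hax : a * x * a⁻¹ ∈ L := memL.mpr ⟨Subgroup.Normal.conj_mem inferInstance _ hx a,
      (hac.mul_left hxc).mul_left hac.inv_left⟩
    set x2 := x * (a * x * a⁻¹)⁻¹ with hx2
    have hx2L : x2 ∈ L := mul_mem hxL (inv_mem hax)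
    have ha2 : a * a = 1 := hF.el_pt_sq 0 false
    have hcom : Commute x (a * x * a⁻¹) := habel _ hxL _ hax
    have e1 : a * x2 * a⁻¹ = x2⁻¹ := by
      calc a * x2 * a⁻¹ = (a * x * a⁻¹) * ((a * a) * x * (a * a)⁻¹)⁻¹ := by rw [hx2]; group
        _ = _ := by rw [ha2, hx2]; group
    have haz2 : Commute x2 (a * z) := by
      refine Commute.symm (mul_inv_eq_iff_eq_mul.mp ?_)
      calc a * z * x2 * (a * z)⁻¹ = a * (z * x2 * z⁻¹) * a⁻¹ := by group
        _ = (a * x2 * a⁻¹)⁻¹ := by rw [hinvL _ hx2L]; group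
        _ = x2 := by rw [e1, inv_inv]
    -- `x2` is trivial
    set y := F.pv 4 with hy
    have hy2 : y * y = 1 := F.pv_sq d 4
    set c1 := y⁻¹ * x2 * y with hc1def
    have hc1J : c1 ∈ J := by
      refine hJ.mem c1 ?_ ?_ ?_
      · have h := haz2.map (MulAut.conj y⁻¹).toMonoidHom
        have e : a * z = y * a * y⁻¹ := hF.y_conj_a.symm
        rw [e] at h
        simpa [mul_assoc, hc1def] using h
      · rw [hc1def, show y⁻¹ * x2 * y = MulAut.conj y⁻¹ x2 by simp, MulEquiv.orderOf_eq]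
        exact hF.odd_of_commute hf hJ hc hc1 (memL.mp hx2L).1 (memL.mp hx2L).2
      · have hzy : y * z * y⁻¹ = z := by rw [(F.y_comm d).eq, mul_inv_cancel_right]
        calc z * c1 * z⁻¹ = y⁻¹ * ((y * z * y⁻¹) * x2 * (y * z * y⁻¹)⁻¹) * y := by rw [hc1def]; group
          _ = c1⁻¹ := by rw [hzy, hinvL _ hx2L, hc1def]; group
    have hc11 : c1 = 1 := hF.eq_one_of_commute_conj hf hJ hc1J (by
      rw [show y * c1 * y⁻¹ = x2 by rw [hc1def]; group]
      exact habel _ (hJL _ hc1J) _ hx2L)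
    have hx21 : x2 = 1 := by
      rw [hc1def] at hc11
      calc x2 = y * (y⁻¹ * x2 * y) * y⁻¹ := by group
        _ = 1 := by rw [hc11]; group
    have hxa : Commute x a := by
      rw [hx2, mul_inv_eq_one] at hx21
      exact (mul_inv_eq_iff_eq_mul.mp hx21.symm).symm
    exact hJ.mem x hxa (hF.odd_of_commute hf hJ hc hc1 hx hxc) (hinvL x hxL)

theorem card_res_mul (hf : Fused z) : Nat.card (Cfsg.pResidual 2 G) * 4 = Nat.card G := by
  rw [← (hF.residual_facts hf).1]; exact (Cfsg.pResidual 2 G).card_mul_index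

/-- The possible sizes of the orbit of `z` under `C(a)`. -/
theorem orb_values (hf : Fused z) :
    Nat.card (orb z (F.el (pt 0, false))) = 1 ∨
      (Nat.card {u : G // IsConj z u ∧ Commute u z ∧ u ≠ z} = 26 ∧
        Nat.card (orb z (F.el (pt 0, false))) = 9) := by
  classical
  haveI hNn := Transfer.pResidual_normal (G := G) 2
  set a := F.el (pt 0, false) with ha
  have hz0 : (0 : Fin 5) ≠ 4 := by decide
  obtain ⟨J, hJ⟩ := hF.exists_core hz0 false
  set w := Nat.card (orb z a) with hwdef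
  have hwJ : Nat.card J = w := hJ.card
  set Bad : G → Prop := fun c => c ∈ J ∧ c ≠ 1 ∧
    ∃ ρ, ρ * ρ * ρ = 1 ∧ ρ ≠ 1 ∧ Commute ρ z ∧ Commute ρ a ∧ Commute c ρ with hBad
  -- consequences of a bad element
  have hbad : ∀ c ρ, c ∈ J → c ≠ 1 → ρ * ρ * ρ = 1 → ρ ≠ 1 → Commute ρ z → Commute ρ a → Commute c ρ →
      5 ∣ Nat.card (Cfsg.pResidual 2 G) ∧ Nat.card (J ⊓ centralizer ({ρ} : Set G) : Subgroup G) = 3 := by
    intro c ρ hc hc1 h3 h1 hρz hρa hcρ
    refine hF.three_subgroup hf hz0 false h3 h1 hρz hρa _ (fun x hx => ?_) fun h => hc1 ?_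
    · exact ⟨hJ.odd x (mem_inf.mp hx).1, mem_cz.mp (mem_inf.mp hx).2, hJ.comm x (mem_inf.mp hx).1,
        hJ.inv x (mem_inf.mp hx).1⟩
    · exact (eq_bot_iff_forall _).mp h c (mem_inf.mpr ⟨hc, mem_cz.mpr hcρ⟩)
  -- the action on the other conjugates
  let V := {v : {v : G // IsConj a v} // v ≠ ⟨a, IsConj.refl a⟩}
  letI : MulAction J V :=
  { smul := fun j v => ⟨⟨(j : G) * v.1.1 * (j : G)⁻¹, v.1.2.trans (isConj_iff.mpr ⟨j, rfl⟩)⟩, fun h => v.2
      (Subtype.ext (by
        have h' : (j : G) * v.1.1 * (j : G)⁻¹ = a := congrArg Subtype.val h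
        calc v.1.1 = (j : G)⁻¹ * ((j : G) * v.1.1 * (j : G)⁻¹) * j := by group
          _ = a := by rw [h', mul_assoc, ← (hJ.comm j j.2).eq, inv_mul_cancel_left]))⟩
    one_smul := fun v => Subtype.ext (Subtype.ext (show (1 : G) * v.1.1 * (1 : G)⁻¹ = v.1.1 by group))
    mul_smul := fun j j' v => Subtype.ext (Subtype.ext (show (j * j' : G) * v.1.1 * (j * j' : G)⁻¹ =
      j * (j' * v.1.1 * (j' : G)⁻¹) * (j : G)⁻¹ by group)) }
  have hstab : ∀ (v : V) (c : J), c ∈ MulAction.stabilizer J v → c ≠ 1 → Bad c := by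
    intro v c hc hc1
    have hc1' : (c : G) ≠ 1 := fun h => hc1 (Subtype.ext h)
    refine ⟨c.2, hc1', (hF.core_dichotomy hf hJ c.2 hc1').resolve_left fun hgood => v.2 (Subtype.ext ?_)⟩
    have hcv : Commute (c : G) v.1.1 :=
      mul_inv_eq_iff_eq_mul.mp (congrArg (fun u : V => u.1.1) (MulAction.mem_stabilizer_iff.mp hc))
    obtain ⟨g, hg⟩ := isConj_iff.mp v.1.2
    set N := Cfsg.pResidual 2 G
    haveI : Fact (Nat.Prime 2) := ⟨Nat.prime_two⟩
    have hcm : ∀ p q : G ⧸ N, p * q = q * p := IsPGroup.commutative_of_card_eq_prime_sq (p := 2) (by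
      rw [← index_eq_card, (hF.residual_facts hf).1]; rfl)
    have hvaN : v.1.1 * a ∈ N := by
      rw [← QuotientGroup.eq_one_iff, QuotientGroup.mk_mul, ← hg, QuotientGroup.mk_mul, QuotientGroup.mk_mul,
        QuotientGroup.mk_inv, hcm (g : G ⧸ N) (a : G ⧸ N), mul_inv_cancel_right, ← QuotientGroup.mk_mul,
        ha, hF.el_pt_sq, QuotientGroup.mk_one]
    have hm := hgood _ hvaN (hcv.symm.mul_left (hJ.comm c c.2).symm)
    have hv2 : v.1.1 * v.1.1 = 1 := by rw [← hg]; exact SuzType.conj_sq (hF.el_pt_sq 0 false)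
    have hva : Commute v.1.1 a := by
      have := (hJ.comm _ hm).mul_left (Commute.refl a)
      rwa [mul_assoc, show a * a = 1 from hF.el_pt_sq 0 false, mul_one] at this
    have h1 : v.1.1 * a = 1 := eq_one_of_sq_odd (by
      calc v.1.1 * a * (v.1.1 * a) = v.1.1 * (a * v.1.1) * a := by group
        _ = v.1.1 * v.1.1 * (a * a) := by rw [← hva.eq]; group
        _ = 1 := by rw [hv2, ha, hF.el_pt_sq, one_mul]) (hJ.odd _ hm)
    exact (eq_inv_of_mul_eq_one_left h1).trans (inv_eq_of_mul_eq_one_right (hF.el_pt_sq 0 false))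
  -- the number of other conjugates
  set f := Nat.card {u : G // IsConj z u ∧ Commute u z ∧ u ≠ z} with hfdef
  have hV : Nat.card V + 1 = 8 * f + 8 * w := by
    rw [← hF.card_class hf, card_eq_add_one (⟨a, IsConj.refl a⟩ : {v : G // IsConj a v}), add_comm]
  haveI : Fintype (MulAction.orbitRel.Quotient J V) := Fintype.ofFinite _
  have hdvd : ∀ s : ℕ, (∀ v : V, Nat.card (MulAction.stabilizer J v) ∣ s) → w ∣ s * Nat.card V := by
    intro s hs
    rw [Nat.card_congr (MulAction.selfEquivSigmaOrbits J V), Nat.card_sigma, Finset.mul_sum]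
    refine Finset.dvd_sum fun ω _ => ?_
    have h1 := (MulAction.stabilizer J ω.out).card_mul_index
    rw [MulAction.index_stabilizer, ← Nat.card_coe_set_eq, hwJ] at h1
    rw [← h1]
    exact Nat.mul_dvd_mul_right (hs ω.out) _
  have hmod := hF.orb_mod hz0 false
  rw [← ha, ← hwdef] at hmod
  have hf26 : f = 2 ∨ f = 26 := (hF.card_fused hf).imp (fun h => h.2) fun h => h.2
  have hw0 : w ≠ 0 := by omega
  have hsimp : ∀ s : ℕ, w ∣ s * Nat.card V → w ∣ s * (8 * f - 1) := by
    intro s hs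
    have e : Nat.card V = (8 * f - 1) + 8 * w := by omega
    rw [e, mul_add] at hs
    exact (Nat.dvd_add_left (Dvd.intro_left _ (by ring : s * 8 * w = s * (8 * w)))).mp hs
  by_cases hex : ∃ c, Bad c
  · obtain ⟨c₀, hc₀, hc₀1, ρ₀, hρ₀, hρ₀1, hρ₀z, hρ₀a, hc₀ρ⟩ := hex
    obtain ⟨h5, -⟩ := hbad c₀ ρ₀ hc₀ hc₀1 hρ₀ hρ₀1 hρ₀z hρ₀a hc₀ρ
    have hw1 : w ≠ 1 := fun h => hc₀1 (by
      rw [← hwJ] at h
      exact (eq_bot_iff_forall _).mp (Subgroup.card_eq_one.mp h) c₀ hc₀)
    have h5G : 5 ∣ w * (f + w) := by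
      have h' : 5 ∣ 768 * w * (f + w) := by
        rw [← hF.card_group hf, ← hF.card_res_mul hf]; exact h5.mul_right 4
      rw [mul_assoc] at h'
      exact (Nat.Coprime.dvd_of_dvd_mul_left (by norm_num) h')
    -- elements of order three over a fixed permutation
    set τ : Equiv.Perm (Fin 5) := Equiv.swap 1 2 * Equiv.swap 2 3 with hτ
    let R3 := {x : G // x * x * x = 1 ∧ Commute x z ∧ Commute x a ∧ F.perm d x = τ}
    have hR3 : Nat.card R3 ≤ 8 := by
      have h8 : Nat.card {p : M // mB p.1 (pt 0) = false ∧ mB p.1 (pt 4) = false} = 8 := by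
        rw [Nat.card_eq_fintype_card]; decide +kernel
      rcases isEmpty_or_nonempty R3 with hE | ⟨⟨x₀, hx₀⟩⟩
      · simp
      have hmem : ∀ x : R3, ∃ p : {p : M // mB p.1 (pt 0) = false ∧ mB p.1 (pt 4) = false},
          F.el p.1 = x.1 * x₀⁻¹ := by
        intro x
        have hz' := x.2.2.1.mul_left hx₀.2.1.inv_left
        obtain ⟨p, hp⟩ := F.el_surjective d (F.mem_of_perm_eq_one d hz' (by
          rw [F.perm_mul d x.2.2.1 hx₀.2.1.inv_left, F.perm_inv d hx₀.2.1, x.2.2.2.2, hx₀.2.2.2,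
            mul_inv_cancel]))
        refine ⟨⟨p, ?_, (F.commute_y_iff d p).mp ?_⟩, hp⟩
        · rw [← F.fl_el_el d p (pt 0, false), hp]
          exact SuzType.fl_eq_false.mpr (x.2.2.2.1.mul_left hx₀.2.2.1.inv_left)
        · rw [hp]
          exact (hF.cube_commute_y x.2.1 x.2.2.1 hf).mul_left (hF.cube_commute_y hx₀.1 hx₀.2.1 hf).inv_left
      choose g hg using hmem
      exact h8 ▸ Nat.card_le_card_of_injective g fun x x' h =>
        Subtype.ext (mul_right_cancel ((hg x).symm.trans (by rw [h, hg x'])))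
    have hchoose : ∀ c : {c : G // Bad c}, ∃ x : R3, Commute c.1 x.1 := by
      rintro ⟨c, hc, hc1, ρ, h3, h1, hρz, hρa, hcρ⟩
      obtain ⟨e', he'⟩ := F.conj_point d hρz 0 false
      rw [hρa.eq, mul_inv_cancel_right] at he'
      have hp0 : F.perm d ρ 0 = 0 := (pt_injective (congrArg Prod.fst (F.el_injective d he'))).symm
      have hp3 : F.perm d ρ * F.perm d ρ * F.perm d ρ = 1 := by
        rw [← hF.perm_cube hρz, h3, F.perm_one d]
      rcases (by decide +kernel : ∀ π : Equiv.Perm (Fin 5), π 4 = 4 → π 0 = 0 → π * π * π = 1 → π ≠ 1 →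
          π = Equiv.swap 1 2 * Equiv.swap 2 3 ∨ π * π = Equiv.swap 1 2 * Equiv.swap 2 3)
        _ (hF ρ hρz) hp0 hp3 (hF.perm_ne_one_of_cube h3 h1 hρz) with h | h
      · exact ⟨⟨ρ, h3, hρz, hρa, h⟩, hcρ⟩
      · refine ⟨⟨ρ * ρ, ?_, hρz.mul_left hρz, hρa.mul_left hρa, by rw [F.perm_mul d hρz hρz]; exact h⟩,
          hcρ.mul_right hcρ⟩
        calc ρ * ρ * (ρ * ρ) * (ρ * ρ) = (ρ * ρ * ρ) * (ρ * ρ * ρ) := by group
          _ = 1 := by rw [h3, one_mul]
    choose g hg using hchoose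
    haveI : Fintype {c : G // Bad c} := Fintype.ofFinite _
    haveI : Fintype R3 := Fintype.ofFinite _
    have hτ1 : τ ≠ 1 := by rw [hτ]; decide +kernel
    have hfib : ∀ x : R3, Nat.card {c : {c : G // Bad c} // g c = x} ≤ 2 := by
      intro x
      by_cases hE : IsEmpty {c : {c : G // Bad c} // g c = x}
      · simp
      obtain ⟨⟨c₁, hc₁⟩⟩ := not_isEmpty_iff.mp hE
      subst hc₁
      have hx1 : (g c₁).1 ≠ 1 := fun h => by
        have h' := (g c₁).2.2.2.2
        rw [h, F.perm_one d] at h'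
        exact hτ1 h'.symm
      have h3 := (hbad c₁.1 (g c₁).1 c₁.2.1 c₁.2.2.1 (g c₁).2.1 hx1 (g c₁).2.2.1 (g c₁).2.2.2.1 (hg c₁)).2
      set A := J ⊓ centralizer ({(g c₁).1} : Set G)
      have h2 : Nat.card {u : A // u ≠ 1} = 2 := by
        have := card_eq_add_one (1 : A); omega
      rw [← h2]
      refine Nat.card_le_card_of_injective (fun c => (⟨⟨c.1.1, mem_inf.mpr ⟨c.1.2.1,
        mem_cz.mpr (by have h := hg c.1; rw [c.2] at h; exact h)⟩⟩, fun h => c.1.2.2.1 (congrArg Subtype.val h)⟩ : {u : A // u ≠ 1})) ?_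
      intro c c' h
      exact Subtype.ext (Subtype.ext (congrArg (fun u : {u : A // u ≠ 1} => ((u.1 : A) : G)) h))
    have hB : Nat.card {c : G // Bad c} ≤ 16 := by
      rw [← Nat.card_congr (Equiv.sigmaFiberEquiv g), Nat.card_sigma]
      calc _ ≤ Finset.univ.card * 2 := Finset.sum_le_card_nsmul _ _ 2 fun x _ => hfib x
        _ ≤ 16 := by rw [Finset.card_univ, ← Nat.card_eq_fintype_card]; omega
    have hs9 : ∀ v : V, Nat.card (MulAction.stabilizer J v) ∣ 9 := by
      intro v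
      set S := MulAction.stabilizer J v
      have hcube : ∀ c ∈ S, c ^ 3 = 1 := by
        intro c hc
        by_cases h1 : c = 1
        · rw [h1, one_pow]
        obtain ⟨hcJ, hc1, ρ, h3, hρ1, hρz, hρa, hcρ⟩ := hstab v c hc h1
        have h3' := (hbad _ ρ hcJ hc1 h3 hρ1 hρz hρa hcρ).2
        have hpow := pow_card_eq_one' (x := (⟨(c : G), mem_inf.mpr ⟨hcJ, mem_cz.mpr hcρ⟩⟩ :
          (J ⊓ centralizer ({ρ} : Set G) : Subgroup G)))
        rw [h3'] at hpow
        have h' := congrArg Subtype.val hpow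
        exact Subtype.ext (by simpa using h')
      have hp : IsPGroup 3 S := fun x => ⟨1, Subtype.ext (by
        rw [pow_one]; exact hcube _ x.2)⟩
      haveI : Fact (Nat.Prime 3) := ⟨Nat.prime_three⟩
      obtain ⟨k, hk⟩ := hp.exists_card_eq
      have hle : Nat.card S ≤ 17 := by
        rw [card_eq_add_one (1 : S)]
        have : Nat.card {u : S // u ≠ 1} ≤ Nat.card {c : G // Bad c} :=
          Nat.card_le_card_of_injective (fun u => ⟨((u.1 : J) : G),
            hstab v u.1 u.1.2 fun h => u.2 (Subtype.ext h)⟩) fun u u' h =>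
            Subtype.ext (Subtype.ext (Subtype.ext (congrArg (fun c : {c : G // Bad c} => c.1) h)))
        omega
      rw [hk] at hle ⊢
      have hk2 : k ≤ 2 := by
        by_contra h
        have := Nat.pow_le_pow_right (show 1 ≤ 3 by norm_num) (show 3 ≤ k by omega)
        omega
      exact pow_dvd_pow 3 hk2
    have hd := hsimp 9 (hdvd 9 hs9)
    have key : ∀ f w : ℕ, f = 2 ∨ f = 26 → w ∣ 9 * (8 * f - 1) → w % 8 = 1 → w ≠ 1 → 5 ∣ w * (f + w) →
        f = 26 ∧ w = 9 := by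
      rintro f w (rfl | rfl) hd hm h1 h5
      · have hl : w ∈ Nat.divisors 135 := Nat.mem_divisors.mpr ⟨hd, by norm_num⟩
        have := (by decide +kernel : ∀ w ∈ Nat.divisors 135, w % 8 = 1 → w ≠ 1 → ¬ 5 ∣ w * (2 + w)) w hl hm h1
        exact absurd h5 this
      · have hl : w ∈ Nat.divisors 1863 := Nat.mem_divisors.mpr ⟨hd, by norm_num⟩
        exact ⟨rfl, (by decide +kernel : ∀ w ∈ Nat.divisors 1863, w % 8 = 1 → w ≠ 1 → 5 ∣ w * (26 + w) → w = 9)
          w hl hm h1 h5⟩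
    exact Or.inr (key f w hf26 hd hmod hw1 h5G)
  · have hs1 : ∀ v : V, Nat.card (MulAction.stabilizer J v) ∣ 1 := fun v => by
      rw [Nat.dvd_one, Subgroup.card_eq_one, eq_bot_iff_forall]
      intro c hc
      by_contra h1
      exact hex ⟨c, hstab v c hc h1⟩
    have hd := hsimp 1 (hdvd 1 hs1)
    rw [one_mul] at hd
    have key : ∀ f w : ℕ, f = 2 ∨ f = 26 → w ∣ 8 * f - 1 → w % 8 = 1 → w = 1 ∨ (f = 26 ∧ w = 9) := by
      rintro f w (rfl | rfl) hd hm
      · have hl : w ∈ Nat.divisors 15 := Nat.mem_divisors.mpr ⟨hd, by norm_num⟩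
        exact Or.inl ((by decide +kernel : ∀ w ∈ Nat.divisors 15, w % 8 = 1 → w = 1) w hl hm)
      · have hl : w ∈ Nat.divisors 207 := Nat.mem_divisors.mpr ⟨hd, by norm_num⟩
        exact ((by decide +kernel : ∀ w ∈ Nat.divisors 207, w % 8 = 1 → w = 1 ∨ w = 9) w hl hm).imp id
          fun h => ⟨rfl, h⟩
    exact key f w hf26 hd hmod

end Based

end Cfsg.Agent.AutL34Recog
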