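import Cfsg.Agent.Lib.AutL34Recog.Model
import Cfsg.Agent.Lib.SuzType.Basic

/-!
# Centralizer of shape `2^{1+4}_-.S₄`: frames

`Frame z Q` is a set of four pairwise noncommuting involutions of `Q`; it gives coordinates
`el : M → G` on `Q`.
-/

set_option autoImplicit false
set_option maxHeartbeats 1000000
set_option linter.unusedSimpArgs false

namespace Cfsg.Agent.AutL34Recog

open Subgroup
open Cfsg.Agent.LargeExtraspecial (Hub)
open Cfsg.Agent.SuzType (pw pw_false pw_true pw_mem pw_mul pw_inj fl fl_eq_false fl_eq_true fl_symm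
  fl_spec fl_eq fl_mul fl_z fl_pw fl_self fl_one_left sq_mul exists_sq)

variable {G : Type*} [Group G] {z : G} {Q : Subgroup G}

/-- The hypotheses on the centralizer of `z`. -/
structure Data (z : G) (Q : Subgroup G) : Prop where
  hub : Hub Q z
  le : Q ≤ centralizer ({z} : Set G)
  cardQ : Nat.card Q = 32
  cardC : Nat.card (centralizer ({z} : Set G)) = 768
  minus : ∀ p ∈ Q, ∀ q ∈ Q, p * p = 1 → q * q = 1 → Commute p q → p ≠ 1 → p ≠ z →
    q = 1 ∨ q = z ∨ q = p ∨ q = p * z

/-- Four pairwise noncommuting involutions of `Q`. -/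
structure Frame (z : G) (Q : Subgroup G) where
  v : Fin 4 → G
  mem : ∀ i, v i ∈ Q
  sq : ∀ i, v i * v i = 1
  anti : ∀ i j, i ≠ j → fl (v i) (v j) = true

namespace Frame

variable (F : Frame z Q)

/-- The element with the given coordinates. -/
def el (p : M) : G :=
  pw (F.v 0) p.1.1 * pw (F.v 1) p.1.2.1 * pw (F.v 2) p.1.2.2.1 * pw (F.v 3) p.1.2.2.2 * pw z p.2

variable (d : Data z Q)
include d

theorem z_comm {x : G} (hx : x ∈ Q) (b : Bool) : pw z b * x = x * pw z b :=
  (SuzType.pw_commute (d.hub.central x hx) b).eq.symm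

theorem el_mem (p : M) : F.el p ∈ Q :=
  mul_mem (mul_mem (mul_mem (mul_mem (pw_mem (F.mem 0) _) (pw_mem (F.mem 1) _)) (pw_mem (F.mem 2) _))
    (pw_mem (F.mem 3) _)) (pw_mem d.hub.mem _)

omit d in
theorem fl_v (i j : Fin 4) : fl (F.v i) (F.v j) = decide (i ≠ j) := by
  by_cases h : i = j
  · subst h; simp [fl_self]
  · rw [F.anti i j h]; simp [h]

theorem fl_el (p : M) (i : Fin 4) : fl (F.el p) (F.v i) = mB p.1 (pt i.castSucc) := by
  obtain ⟨⟨a, b, c, e⟩, f⟩ := p
  have h := d.hub
  have m := fun j => pw_mem (H := Q) (F.mem j)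
  rw [el, fl_mul h (mul_mem (mul_mem (mul_mem (m 0 _) (m 1 _)) (m 2 _)) (m 3 _)) (pw_mem h.mem _) (F.mem i),
    fl_mul h (mul_mem (mul_mem (m 0 _) (m 1 _)) (m 2 _)) (m 3 _) (F.mem i),
    fl_mul h (mul_mem (m 0 _) (m 1 _)) (m 2 _) (F.mem i), fl_mul h (m 0 _) (m 1 _) (F.mem i)]
  simp only [fl_pw, fl_z h (F.mem i), F.fl_v]
  revert i a b c e f
  decide +kernel

omit d in
theorem el_one : F.el m1 = 1 := by simp [el, m1]

omit d in
theorem el_z : F.el mz = z := by simp [el, mz]

theorem el_injective : Function.Injective F.el := by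
  intro p q e
  have hw : p.1 = q.1 := by
    have h : ∀ i : Fin 4, mB p.1 (pt i.castSucc) = mB q.1 (pt i.castSucc) := fun i => by
      rw [← F.fl_el d p i, ← F.fl_el d q i, e]
    revert h; generalize p.1 = v; generalize q.1 = w
    revert v w; decide +kernel
  have h2 : pw z p.2 = pw z q.2 := by
    simp only [el, hw] at e
    exact mul_left_cancel e
  exact Prod.ext hw (pw_inj d.hub.ne_one h2)

theorem el_surjective [Finite G] {x : G} (hx : x ∈ Q) : ∃ p, F.el p = x := by
  let φ : M → Q := fun p => ⟨F.el p, F.el_mem d p⟩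
  have hb : Function.Bijective φ := (Nat.bijective_iff_injective_and_card φ).mpr
    ⟨fun p q e => F.el_injective d (congrArg Subtype.val e), by
      rw [d.cardQ, Nat.card_eq_fintype_card]; rfl⟩
  obtain ⟨p, hp⟩ := hb.2 ⟨x, hx⟩
  exact ⟨p, congrArg Subtype.val hp⟩

/-- Moving `pw (v j) b` leftwards past `pw (v i) a`. -/
theorem swap (i j : Fin 4) (a b : Bool) :
    pw (F.v i) a * pw (F.v j) b = pw (F.v j) b * pw (F.v i) a * pw z (a && b && decide (i ≠ j)) := by
  have h := d.hub
  have s := fl_spec h (pw_mem (F.mem i) a) (pw_mem (F.mem j) b)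
  rw [fl_pw, fl_symm (F.v i), fl_pw, F.fl_v j i] at s
  have e : (a && (b && decide (j ≠ i))) = (a && b && decide (i ≠ j)) := by
    cases a <;> cases b <;> simp [ne_comm]
  rw [e] at s
  calc pw (F.v i) a * pw (F.v j) b = pw (F.v i) a * pw (F.v j) b * (pw (F.v i) a)⁻¹ * pw (F.v i) a := by group
    _ = pw (F.v j) b * (pw z (a && b && decide (i ≠ j)) * pw (F.v i) a) := by rw [s]; group
    _ = _ := by rw [z_comm d (pw_mem (F.mem i) a)]; group

theorem el_mm (p q : M) : F.el (mm p q) = F.el p * F.el q := by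
  obtain ⟨⟨a, b, c, e⟩, f⟩ := p
  obtain ⟨⟨a', b', c', e'⟩, f'⟩ := q
  have hz : ∀ (i : Fin 4) (x s : Bool) (w : G), pw z s * (pw (F.v i) x * w) = pw (F.v i) x * (pw z s * w) :=
    fun i x s w => by rw [← mul_assoc, z_comm d (pw_mem (F.mem i) x), mul_assoc]
  have hzz : ∀ (s t : Bool) (w : G), pw z s * (pw z t * w) = pw z (xor s t) * w := fun s t w => by
    rw [← mul_assoc, pw_mul d.hub.sq]
  have hv : ∀ (i : Fin 4) (s t : Bool) (w : G), pw (F.v i) s * (pw (F.v i) t * w) = pw (F.v i) (xor s t) * w :=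
    fun i s t w => by rw [← mul_assoc, pw_mul (F.sq i)]
  have sw : ∀ (i j : Fin 4) (x y : Bool) (w : G), i ≠ j → pw (F.v i) x * (pw (F.v j) y * w) =
      pw (F.v j) y * (pw (F.v i) x * (pw z (x && y) * w)) := fun i j x y w hij => by
    rw [← mul_assoc, F.swap d i j, show (decide (i ≠ j)) = true by simp [hij], Bool.and_true]
    simp only [mul_assoc]
  symm
  simp only [el, mm, wadd, mul_assoc, hz]
  rw [sw 3 0 _ _ _ (by decide), sw 2 0 _ _ _ (by decide), sw 1 0 _ _ _ (by decide)]
  simp only [hz, hv]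
  rw [sw 3 1 _ _ _ (by decide), sw 2 1 _ _ _ (by decide)]
  simp only [hz, hv]
  rw [sw 3 2 _ _ _ (by decide)]
  simp only [hz, hv, hzz, pw_mul d.hub.sq]
  congr 5
  revert a b c e f a' b' c' e' f'
  decide +kernel

/-- The five standard involutions. -/
def pv (i : Fin 5) : G := F.el (mv i)

omit d in
theorem pv_castSucc (i : Fin 4) : F.pv i.castSucc = F.v i := by
  fin_cases i <;> simp [pv, el, mv, pt]

omit d in
theorem fl_pv (i j : Fin 4) : fl (F.v i) (F.v j) = mB (pt i.castSucc) (pt j.castSucc) := by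
  rw [mB_pt, F.fl_v]; simp

end Frame

theorem exists_frame [Finite G] (d : Data z Q) : Nonempty (Frame z Q) := by
  classical
  have h := d.hub
  have hsmall : ¬ ∀ q ∈ Q, q = 1 ∨ q = z := by
    intro hall
    have : Nat.card Q ≤ 2 := by
      have hf : Function.Injective (fun q : Q => decide ((q : G) = 1)) := fun p q e => by
        simp only [decide_eq_decide] at e
        rcases hall p p.2 with hp | hp <;> rcases hall q q.2 with hq | hq
        · exact Subtype.ext (hp.trans hq.symm)
        · exact Subtype.ext (hp.trans (e.mp hp).symm)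
        · exact Subtype.ext ((e.mpr hq).trans hq.symm)
        · exact Subtype.ext (hp.trans hq.symm)
      simpa using Nat.card_le_card_of_injective _ hf
    rw [d.cardQ] at this; omega
  obtain ⟨a, ha, ha1, haz⟩ : ∃ a ∈ Q, a ≠ 1 ∧ a ≠ z := by
    by_contra hc
    push Not at hc
    exact hsmall fun q hq => or_iff_not_imp_left.mpr (hc q hq)
  obtain ⟨b, hb, hab⟩ : ∃ b ∈ Q, fl a b = true := by
    by_contra hc
    push Not at hc
    rcases h.self a fun q hq => fl_eq_false.mp (by simpa using hc q hq) with e | e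
    exacts [ha1 e, haz e]
  have hba : fl b a = true := by rw [fl_symm, hab]
  have proj : ∀ r ∈ Q, ∃ i j, fl (r * pw a i * pw b j) a = false ∧ fl (r * pw a i * pw b j) b = false := by
    intro r hr
    refine ⟨fl r b, fl r a, ?_, ?_⟩
    · rw [fl_mul h (mul_mem hr (pw_mem ha _)) (pw_mem hb _) ha, fl_mul h hr (pw_mem ha _) ha, fl_pw, fl_pw,
        fl_self, hba]; simp
    · rw [fl_mul h (mul_mem hr (pw_mem ha _)) (pw_mem hb _) hb, fl_mul h hr (pw_mem ha _) hb, fl_pw, fl_pw,
        fl_self, hab]; simp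
  obtain ⟨c, hc, hca, hcb, hc1, hcz⟩ : ∃ c ∈ Q, fl c a = false ∧ fl c b = false ∧ c ≠ 1 ∧ c ≠ z := by
    by_contra hcon
    push Not at hcon
    let f : Bool × Bool × Bool → G := fun t => pw a t.1 * pw b t.2.1 * pw z t.2.2
    have hsub : ∀ q : Q, ∃ t, f t = q := by
      intro q
      obtain ⟨i, j, h1, h2⟩ := proj q q.2
      have hrep : ∀ s, (q : G) * pw a i * pw b j = pw z s → ∃ t, f t = (q : G) := by
        intro s e
        have e2 : (q : G) = pw z s * (pw b j)⁻¹ * (pw a i)⁻¹ := by rw [← e]; group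
        obtain ⟨sa, hsa⟩ := exists_sq h ha
        obtain ⟨sb, hsb⟩ := exists_sq h hb
        have ia : ∃ t, (pw a i)⁻¹ = pw a i * pw z t := by
          cases i
          · exact ⟨false, by simp⟩
          · refine ⟨sa, inv_eq_of_mul_eq_one_right ?_⟩
            rw [pw_true, ← mul_assoc, hsa, pw_mul h.sq]; simp
        have ib : ∃ t, (pw b j)⁻¹ = pw b j * pw z t := by
          cases j
          · exact ⟨false, by simp⟩
          · refine ⟨sb, inv_eq_of_mul_eq_one_right ?_⟩
            rw [pw_true, ← mul_assoc, hsb, pw_mul h.sq]; simp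
        obtain ⟨ta, hta⟩ := ia
        obtain ⟨tb, htb⟩ := ib
        have hsw := fl_spec h (pw_mem hb j) (pw_mem ha i)
        refine ⟨(i, j, xor (xor (xor s tb) ta) (fl (pw b j) (pw a i))), ?_⟩
        rw [e2, hta, htb]
        have hzc : ∀ (u : Bool) (x : G), x ∈ Q → pw z u * x = x * pw z u := fun u x hx =>
          (SuzType.pw_commute (h.central x hx) u).eq.symm
        symm
        calc pw z s * (pw b j * pw z tb) * (pw a i * pw z ta)
            = pw b j * pw z s * pw z tb * pw a i * pw z ta := by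
              rw [← mul_assoc (pw z s) (pw b j), hzc s _ (pw_mem hb j)]; simp only [mul_assoc]
          _ = pw b j * pw z (xor s tb) * pw a i * pw z ta := by rw [mul_assoc (pw b j), pw_mul h.sq]
          _ = pw b j * pw a i * (pw z (xor s tb) * pw z ta) := by
              rw [mul_assoc (pw b j) (pw z _), hzc _ _ (pw_mem ha i)]; simp only [mul_assoc]
          _ = (pw b j * pw a i * (pw b j)⁻¹) * pw b j * pw z (xor (xor s tb) ta) := by
              rw [pw_mul h.sq]; group
          _ = pw a i * pw b j * (pw z (fl (pw b j) (pw a i)) * pw z (xor (xor s tb) ta)) := by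
              rw [hsw, mul_assoc (pw a i), hzc _ _ (pw_mem hb j)]; simp only [mul_assoc]
          _ = _ := by rw [pw_mul h.sq, Bool.xor_comm]
      by_cases hq1 : (q : G) * pw a i * pw b j = 1
      · exact hrep false (by rw [hq1]; rfl)
      · exact hrep true (hcon _ (mul_mem (mul_mem q.2 (pw_mem ha i)) (pw_mem hb j)) h1 h2 hq1)
    choose g hg using hsub
    have := Nat.card_le_card_of_injective g fun p q e => Subtype.ext (by rw [← hg p, ← hg q, e])
    rw [d.cardQ] at this
    simp at this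
  obtain ⟨e, he, hea, heb, hce⟩ : ∃ e ∈ Q, fl e a = false ∧ fl e b = false ∧ fl c e = true := by
    obtain ⟨r, hr, hcr⟩ : ∃ r ∈ Q, fl c r = true := by
      by_contra hcon
      push Not at hcon
      rcases h.self c fun q hq => fl_eq_false.mp (by simpa using hcon q hq) with e | e
      exacts [hc1 e, hcz e]
    obtain ⟨i, j, h1, h2⟩ := proj r hr
    refine ⟨_, mul_mem (mul_mem hr (pw_mem ha i)) (pw_mem hb j), h1, h2, ?_⟩
    rw [fl_symm, fl_mul h (mul_mem hr (pw_mem ha i)) (pw_mem hb j) hc, fl_mul h hr (pw_mem ha i) hc, fl_pw,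
      fl_pw, fl_symm r, fl_symm a, fl_symm b, hcr, hca, hcb]
    simp
  obtain ⟨sa, hsa⟩ := exists_sq h ha
  obtain ⟨sb, hsb⟩ := exists_sq h hb
  obtain ⟨sc, hsc⟩ := exists_sq h hc
  obtain ⟨se, hse⟩ := exists_sq h he
  let el' : W → G := fun w => pw a w.1 * pw b w.2.1 * (pw c w.2.2.1 * pw e w.2.2.2)
  have hm : ∀ w, el' w ∈ Q := fun w =>
    mul_mem (mul_mem (pw_mem ha _) (pw_mem hb _)) (mul_mem (pw_mem hc _) (pw_mem he _))
  have hsq : ∀ w, el' w * el' w = pw z (q0 (sa, sb, sc, se) w) := by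
    intro w
    obtain ⟨i, j, k, l⟩ := w
    have p2 : ∀ {x : G} {s : Bool}, x * x = pw z s → ∀ t, pw x t * pw x t = pw z (t && s) := by
      intro x s hs t; cases t <;> simp [hs]
    have e1 := sq_mul h (pw_mem ha i) (pw_mem hb j) (p2 hsa i) (p2 hsb j)
    have e2 := sq_mul h (pw_mem hc k) (pw_mem he l) (p2 hsc k) (p2 hse l)
    have e3 := sq_mul h (mul_mem (pw_mem ha i) (pw_mem hb j)) (mul_mem (pw_mem hc k) (pw_mem he l)) e1 e2
    rw [show el' (i, j, k, l) = pw a i * pw b j * (pw c k * pw e l) from rfl, e3]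
    refine congrArg (pw z) ?_
    have x1 : fl (pw b j) (pw a i) = (i && j) := by
      rw [fl_pw, fl_symm, fl_pw, hab]; cases i <;> cases j <;> rfl
    have x2 : fl (pw e l) (pw c k) = (k && l) := by
      rw [fl_pw, fl_symm, fl_pw, hce]; cases k <;> cases l <;> rfl
    have x3 : fl (pw c k * pw e l) (pw a i * pw b j) = false := by
      rw [fl_mul h (pw_mem hc k) (pw_mem he l) (mul_mem (pw_mem ha i) (pw_mem hb j)), fl_pw, fl_pw,
        fl_symm c, fl_symm e, fl_mul h (pw_mem ha i) (pw_mem hb j) hc,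
        fl_mul h (pw_mem ha i) (pw_mem hb j) he, fl_pw, fl_pw, fl_pw, fl_pw,
        fl_symm a, fl_symm b, hca, hcb, fl_symm a, fl_symm b, hea, heb]
      simp
    rw [x1, x2, x3]
    simp only [q0]
    cases i <;> cases j <;> cases k <;> cases l <;> cases sa <;> cases sb <;> cases sc <;> cases se <;> rfl
  have hfl : ∀ v w, fl (el' v) (el' w) = B0 v w := by
    intro v w
    obtain ⟨i, j, k, l⟩ := v
    obtain ⟨i', j', k', l'⟩ := w
    have m1 := mul_mem (pw_mem ha i') (pw_mem hb j')
    have m2 := mul_mem (pw_mem hc k') (pw_mem he l')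
    have basic : ∀ x, x ∈ Q → fl x (el' (i', j', k', l')) =
        xor (xor (i' && fl a x) (j' && fl b x)) (xor (k' && fl c x) (l' && fl e x)) := by
      intro x hx
      rw [fl_symm, show el' (i', j', k', l') = pw a i' * pw b j' * (pw c k' * pw e l') from rfl,
        fl_mul h m1 m2 hx, fl_mul h (pw_mem ha i') (pw_mem hb j') hx,
        fl_mul h (pw_mem hc k') (pw_mem he l') hx]
      simp only [fl_pw]
    rw [show el' (i, j, k, l) = pw a i * pw b j * (pw c k * pw e l) from rfl,
      fl_mul h (mul_mem (pw_mem ha i) (pw_mem hb j)) (mul_mem (pw_mem hc k) (pw_mem he l)) (hm _),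
      fl_mul h (pw_mem ha i) (pw_mem hb j) (hm _), fl_mul h (pw_mem hc k) (pw_mem he l) (hm _)]
    simp only [fl_pw, basic a ha, basic b hb, basic c hc, basic e he, fl_self, hab, hba, hce, hca, hcb,
      hea, heb, fl_symm a c, fl_symm a e, fl_symm b c, fl_symm b e, fl_symm e c, B0]
    cases i <;> cases j <;> cases k <;> cases l <;> cases i' <;> cases j' <;> cases k' <;> cases l' <;> rfl
  rcases plus_or_frame (sa, sb, sc, se) with
    ⟨p, q, hp, hq, hpq, hp2, hq2, hpq2⟩ | ⟨p₀, p₁, p₂, p₃, q0', q1', q2', q3', b01, b02, b03, b12, b13, b23⟩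
  · exfalso
    have hker : ∀ w, w ≠ (false, false, false, false) → ∀ s, el' w ≠ pw z s := by
      intro w hw s e0
      have hz0 : ∀ v, fl (el' w) (el' v) = false := fun v => by
        rw [e0, fl_pw, fl_z h (hm v)]; simp
      simp only [hfl] at hz0
      exact hw ((by decide +kernel : ∀ u : W, (∀ v, B0 u v = false) → u = (false, false, false, false)) w hz0)
    have p1 : el' p ≠ 1 := fun e0 => hker p hp false (by simpa using e0)
    have pz : el' p ≠ z := fun e0 => hker p hp true (by simpa using e0)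
    have hcm : Commute (el' p) (el' q) := fl_eq_false.mp (by rw [hfl]; exact hpq2)
    rcases d.minus _ (hm p) _ (hm q) (by rw [hsq, hp2]; rfl) (by rw [hsq, hq2]; rfl) hcm p1 pz with
      e0 | e0 | e0 | e0
    · exact hker q hq false (by simpa using e0)
    · exact hker q hq true (by simpa using e0)
    all_goals
      have he0 : ∀ v, fl (el' q) (el' v) = fl (el' p) (el' v) := fun v => by
        first
          | rw [e0, fl_mul h (hm p) h.mem (hm v), fl_z h (hm v), Bool.xor_false]
          | rw [e0]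
      simp only [hfl] at he0
      exact hpq ((by decide +kernel : ∀ p q : W, (∀ v, B0 q v = B0 p v) → p = q) p q he0)
  · refine ⟨⟨fun i => el' (![p₀, p₁, p₂, p₃] i), fun i => hm _, fun i => ?_, fun i j hij => ?_⟩⟩
    · rw [hsq]; fin_cases i <;> simp [q0', q1', q2', q3']
    · rw [hfl]
      have hs : ∀ v w : W, B0 v w = B0 w v := by decide +kernel
      fin_cases i <;> fin_cases j <;>
        first
        | exact absurd rfl hij
        | simp [b01, b02, b03, b12, b13, b23, hs p₁ p₀, hs p₂ p₀, hs p₃ p₀, hs p₂ p₁, hs p₃ p₁, hs p₃ p₂]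

end Cfsg.Agent.AutL34Recog
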