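import Cfsg.Agent.Lib.AutL34Recog.Rel

/-!
# Fusion of `z` inside `Q`

If `z` is not isolated in its centralizer, then exactly the two classes of the fixed point of the
frame are fused to `z`, and the fused bases share their four-group.
-/

set_option autoImplicit false
set_option maxHeartbeats 1000000
set_option linter.unusedSectionVars false
set_option synthInstance.maxSize 4096
set_option synthInstance.maxHeartbeats 400000

namespace Cfsg.Agent.AutL34Recog

open Subgroup
open Cfsg.Agent.LargeExtraspecial (Hub)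
open Cfsg.Agent.SuzType (pw)

variable {G : Type*} [Group G] {z : G} {Q : Subgroup G}

theorem Data.sq_conj (d : Data z Q) {u : G} (h : IsConj z u) : u * u = 1 := by
  obtain ⟨g, rfl⟩ := isConj_iff.mp h
  exact SuzType.conj_sq d.hub.sq

theorem Data.conj_ne_one (d : Data z Q) {u : G} (h : IsConj z u) : u ≠ 1 := by
  rintro rfl
  obtain ⟨g, hg⟩ := isConj_iff.mp h
  exact d.hub.ne_one (conj_eq_one_iff.mp hg)

namespace Frame

variable (F : Frame z Q)

/-- Membership in the four-group of the fifth point. -/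
def InY (x : G) : Prop := x = 1 ∨ x = z ∨ x = F.pv 4 ∨ x = F.pv 4 * z

variable (d : Data z Q)
include d

theorem el_pt (i : Fin 5) (e : Bool) : F.el (pt i, e) = F.pv i * pw z e := by
  rw [show (pt i, e) = mm (mv i) ((false, false, false, false), e) by revert i e; decide +kernel,
    F.el_mm d]
  simp [Frame.el, Frame.pv]

theorem y_comm : Commute (F.pv 4) z := d.hub.central _ (F.el_mem d _)

theorem y_ne_one : F.pv 4 ≠ 1 := by
  rw [← F.el_one]
  exact fun e => absurd (F.el_injective d e) (by decide +kernel)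

theorem y_ne_z : F.pv 4 ≠ z := by
  intro e
  have h : F.el (mv 4) = F.el mz := e.trans F.el_z.symm
  exact absurd (F.el_injective d h) (by decide +kernel)

theorem yz_ne_one : F.pv 4 * z ≠ 1 := fun e =>
  F.y_ne_z d ((eq_inv_of_mul_eq_one_left e).trans (inv_eq_of_mul_eq_one_right d.hub.sq))

theorem yz_ne_z : F.pv 4 * z ≠ z := fun e => F.y_ne_one d (mul_eq_right.mp e)

theorem InY.mem {x : G} (h : F.InY x) : x ∈ Q := by
  rcases h with rfl | rfl | rfl | rfl
  exacts [one_mem _, d.hub.mem, F.el_mem d _, mul_mem (F.el_mem d _) d.hub.mem]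

theorem InY.sq {x : G} (h : F.InY x) : x * x = 1 := by
  rcases h with rfl | rfl | rfl | rfl
  · exact one_mul _
  · exact d.hub.sq
  · exact F.pv_sq d 4
  · calc F.pv 4 * z * (F.pv 4 * z) = F.pv 4 * (z * F.pv 4) * z := by group
      _ = F.pv 4 * F.pv 4 * (z * z) := by rw [← (F.y_comm d).eq]; group
      _ = 1 := by rw [F.pv_sq d, d.hub.sq, one_mul]

/-- A noncentral involution of `Q` lies over a point. -/
theorem exists_pt [Finite G] {q : G} (hq : q ∈ Q) (h2 : q * q = 1) (h1 : q ≠ 1) (hz : q ≠ z) :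
    ∃ i e, F.el (pt i, e) = q := by
  obtain ⟨p, rfl⟩ := F.el_surjective d hq
  rcases sq_eq_one p (F.el_injective d (by rw [F.el_mm d, h2, F.el_one])) with rfl | rfl | ⟨i, hi⟩
  · exact absurd F.el_one h1
  · exact absurd F.el_z hz
  · exact ⟨i, p.2, by rw [← hi]⟩

theorem inY_iff_el (x : G) :
    F.InY x ↔ x = 1 ∨ x = z ∨ ∃ e, F.el (pt 4, e) = x := by
  refine or_congr Iff.rfl (or_congr Iff.rfl ⟨?_, ?_⟩)
  · rintro (rfl | rfl)
    · exact ⟨false, by simp [F.el_pt d]⟩
    · exact ⟨true, by simp [F.el_pt d]⟩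
  · rintro ⟨e, rfl⟩
    cases e <;> simp [F.el_pt d]

/-- Conjugation by `Q` moves the sign of a point. -/
theorem exists_conj_pt (i : Fin 5) (e e' : Bool) :
    ∃ x ∈ Q, x * F.el (pt i, e) * x⁻¹ = F.el (pt i, e') := by
  obtain ⟨w, hw⟩ := (by decide +kernel : ∀ (i : Fin 5) (e e' : Bool), ∃ w : W,
    shift w (pt i, e) = (pt i, e')) i e e'
  exact ⟨_, F.el_mem d _, by rw [F.conj_el d, hw]⟩

end Frame

namespace Based

variable [Finite G] {d : Data z Q} {F : Frame z Q} (hF : Based d F)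
include hF

/-- Some element of `C(z)` fixing a given point element induces a given permutation. -/
theorem exists_fixing {π : Equiv.Perm (Fin 5)} (hπ : π 4 = 4) {i : Fin 5} (hi : π i = i) (e : Bool) :
    ∃ h, Commute h z ∧ Commute h (F.el (pt i, e)) ∧ F.perm d h = π := by
  obtain ⟨h, hh, hp⟩ := hF.exists_perm_eq π hπ
  obtain ⟨e', he'⟩ := F.conj_point d hh i e
  rw [hp, hi] at he'
  obtain ⟨x, hx, hxc⟩ := F.exists_conj_pt d i e' e
  obtain ⟨p, rfl⟩ := F.el_surjective d hx
  have hxz : Commute (F.el p) z := d.hub.central _ (F.el_mem d p)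
  refine ⟨F.el p * h, hxz.mul_left hh, mul_inv_eq_iff_eq_mul.mp ?_, by
    rw [F.perm_mul d hxz hh, F.perm_el d, one_mul, hp]⟩
  calc F.el p * h * F.el (pt i, e) * (F.el p * h)⁻¹
      = F.el p * (h * F.el (pt i, e) * h⁻¹) * (F.el p)⁻¹ := by group
    _ = _ := by rw [he', hxc]

end Based

/-- No conjugate of `z` in `Q` apart from `z`. -/
def NoFuse (z : G) (Q : Subgroup G) : Prop := ∀ q ∈ Q, IsConj z q → q = z

theorem NoFuse.rel {u : G} {R : Subgroup G} (hn : NoFuse z Q) (h : Rel z Q u R) : NoFuse u R := by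
  obtain ⟨g, rfl, rfl⟩ := h
  intro q hq hc
  have h1 : IsConj z (g * z * g⁻¹) := isConj_iff.mpr ⟨g, rfl⟩
  obtain ⟨x, hx, rfl⟩ := hq
  have h2 : IsConj ((MulAut.conj g).toMonoidHom x) x := isConj_iff.mpr ⟨g⁻¹, by simp [mul_assoc]⟩
  rw [hn x hx ((h1.trans hc).trans h2)]
  rfl

variable [Finite G]

theorem not_dbl_of_noFuse (d : Data z Q) {F : Frame z Q} (hF : Based d F) (hn : NoFuse z Q) {u : G}
    (hu : Commute u z) (hc : IsConj z u) : ¬ IsDbl (F.perm d u) := by
  intro hd
  have hu2 := d.sq_conj hc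
  obtain ⟨hy, -, htr⟩ := hF.dbl hu hu2 hd
  set q := F.pv 4 with hq
  obtain ⟨e, -, he⟩ := htr q (Or.inr (Or.inr (Or.inl rfl)))
  have hq1 : q ≠ 1 := F.y_ne_one d
  have hqz : q ≠ z := F.y_ne_z d
  have hcv : IsConj z (u * q) := hc.trans (isConj_iff.mpr ⟨e, he⟩)
  have contra : ¬ IsConj z q := fun h => hqz (hn q (F.el_mem d _) h)
  set v := u * q with hv
  have hvu : Commute v u := (Commute.refl u).mul_left hy.symm
  have hv2 : v * v = 1 := d.sq_conj hcv
  obtain ⟨R, hR⟩ := exists_rel (Q := Q) hc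
  have du := hR.data d
  obtain ⟨Fu, hFu⟩ := exists_based du
  have hvR : v ∉ R := fun h => hq1 (by
    have := hn.rel hR v h (hc.symm.trans hcv)
    rwa [hv, mul_eq_left] at this)
  have huvq : u * v = q := by rw [hv, ← mul_assoc, hu2, one_mul]
  rcases hFu.dbl_or_sq hvu hv2 hvR with hd' | ⟨x, -, hvx, hxx⟩
  · obtain ⟨-, -, htr'⟩ := hFu.dbl hvu hv2 hd'
    obtain ⟨e', -, he'⟩ := htr' u (Or.inr (Or.inl rfl))
    rw [hvu.eq, huvq] at he'
    exact contra (hcv.trans (isConj_iff.mpr ⟨e', he'⟩))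
  · obtain ⟨S, hS⟩ := exists_rel (Q := Q) hcv
    have dv := hS.data d
    obtain ⟨Fv, hFv⟩ := exists_based dv
    have huS : u ∉ S := fun h => hq1 (by
      have := hn.rel hS u h (hcv.symm.trans hc)
      rwa [hv, eq_comm, mul_eq_left] at this)
    have hd' := hFv.dbl_of_sq hvx.symm hxx hu2 huS
    obtain ⟨-, -, htr'⟩ := hFv.dbl hvu.symm hu2 hd'
    obtain ⟨e', -, he'⟩ := htr' v (Or.inr (Or.inl rfl))
    rw [huvq] at he'
    exact contra (hc.trans (isConj_iff.mpr ⟨e', he'⟩))

/-- If `z` is not isolated it is fused to another element of `Q`. -/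
theorem exists_fused (d : Data z Q) (h : ∃ u, IsConj z u ∧ Commute u z ∧ u ≠ z) :
    ∃ q ∈ Q, IsConj z q ∧ q ≠ z := by
  by_contra hn
  push Not at hn
  obtain ⟨u, hc, hu, huz⟩ := h
  have huQ : u ∉ Q := fun h => huz (hn u h hc)
  obtain ⟨F, hF⟩ := exists_based d
  rcases hF.dbl_or_sq hu (d.sq_conj hc) huQ with hd | ⟨x, -, hux, hxx⟩
  · exact not_dbl_of_noFuse d hF hn hu hc hd
  · obtain ⟨R, hR⟩ := exists_rel (Q := Q) hc
    obtain ⟨Fu, hFu⟩ := exists_based (hR.data d)
    have hzR : z ∉ R := fun h => huz (NoFuse.rel hn hR z h hc.symm).symm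
    exact not_dbl_of_noFuse (hR.data d) hFu (NoFuse.rel hn hR) hu.symm hc.symm
      (hFu.dbl_of_sq hux.symm hxx d.hub.sq hzR)

namespace Based

variable {d : Data z Q} {F : Frame z Q} (hF : Based d F)
include hF

/-- A fused point carries `z` in its own copy of `Q`. -/
theorem z_mem_of_fused {i : Fin 5} {e : Bool} {R : Subgroup G} (hR : Rel z Q (F.el (pt i, e)) R) :
    z ∈ R := by
  set p := F.el (pt i, e)
  have dp := hR.data d
  obtain ⟨Fp, hFp⟩ := exists_based dp
  obtain ⟨x, -, y, -, hx, hy, hxx, hyy, hxy⟩ := hF.exists_quaternion i e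
  have hzp : Commute z p := (d.hub.central _ (F.el_mem d _)).symm
  refine Fp.mem_of_perm_eq_one dp hzp ?_
  have ex : Fp.perm dp z = Fp.perm dp x * Fp.perm dp x := by rw [← hxx, Fp.perm_mul dp hx hx]
  have ey : Fp.perm dp z = Fp.perm dp y * Fp.perm dp y := by rw [← hyy, Fp.perm_mul dp hy hy]
  have exy : Fp.perm dp z = Fp.perm dp x * Fp.perm dp y * (Fp.perm dp x * Fp.perm dp y) := by
    rw [← hxy, Fp.perm_mul dp (hx.mul_left hy) (hx.mul_left hy), Fp.perm_mul dp hx hy]
  have h2 := (hFp.act_invol hzp d.hub.sq).1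
  rw [ex] at h2
  rw [ex]
  exact no_quaternion _ _ (hFp.fix hx) (hFp.fix hy) (ex.symm.trans ey) (exy.symm.trans ex) h2

/-- Only the fixed point can be fused to `z`. -/
theorem not_isConj_pt {i : Fin 5} (hi : i ≠ 4) (e : Bool) : ¬ IsConj z (F.el (pt i, e)) := by
  intro hc
  obtain ⟨R, hR⟩ := exists_rel (Q := Q) hc
  set a := F.el (pt i, e) with ha
  have da := hR.data d
  obtain ⟨Fa, hFa⟩ := exists_based da
  have hzR := hF.z_mem_of_fused hR
  have hza : z ≠ a := fun h => absurd (F.el_injective d (F.el_z.trans h))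
    ((by decide +kernel : ∀ i e, mz ≠ (pt i, e)) i e)
  obtain ⟨j, s, hj⟩ := Fa.exists_pt da hzR d.hub.sq d.hub.ne_one hza
  obtain ⟨r, hr, -, -, hrz, -, hrr, -, -⟩ := hFa.exists_quaternion j s
  rw [hj] at hrz
  have hra : Commute r a := da.hub.central _ hr
  have hfix : F.perm d r i = i := by
    refine F.perm_unique d hrz (e := false) ?_
    have hri : Commute r (F.el (pt i, e)) := hra
    have e1 : F.pv i = F.el (pt i, false) := rfl
    rw [F.el_pt d] at hri
    have hrp : Commute r (F.pv i) := by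
      have := hri.mul_right ((SuzType.pw_commute hrz e).inv_right)
      simpa using this
    rw [hrp.eq, mul_inv_cancel_right, e1]
  have hq : F.perm d r * F.perm d r = 1 := by
    rw [← F.perm_mul d hrz hrz, hrr, ha, F.perm_el d]
  obtain ⟨σ, hσ4, hσi, hσ⟩ := (by decide +kernel : ∀ i : Fin 5, i ≠ 4 → ∃ σ : Equiv.Perm (Fin 5),
    σ 4 = 4 ∧ σ i = i ∧ ∀ π : Equiv.Perm (Fin 5), π 4 = 4 → π i = i → π * π = 1 →
      (π * (σ * π * σ⁻¹)) * (π * (σ * π * σ⁻¹)) * ((π * (σ * π * σ⁻¹)) * (π * (σ * π * σ⁻¹))) = 1 →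
      π = 1) i hi
  obtain ⟨g, hgz, hga, hg⟩ := hF.exists_fixing hσ4 hσi e
  set t := r * (g * r * g⁻¹) with ht
  have hr' : g * r * g⁻¹ ∈ R := da.hub.normalizes g hga _ hr
  have htz : Commute t z := hrz.mul_left ((hgz.mul_left hrz).mul_left hgz.inv_left)
  obtain ⟨p, hp⟩ := Fa.el_surjective da (show t ∈ R from mul_mem hr hr')
  have ht4 : t * t * (t * t) = 1 := by
    rw [← hp, ← Fa.el_mm da, ← Fa.el_mm da,
      (by decide +kernel : ∀ p : M, mm (mm p p) (mm p p) = m1) p, Fa.el_one]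
  have hinv : F.perm d g⁻¹ = σ⁻¹ := eq_inv_of_mul_eq_one_left (by
    rw [← hg, ← F.perm_mul d hgz.inv_left hgz, inv_mul_cancel, show (1 : G) = F.el m1 from F.el_one.symm,
      F.perm_el d])
  have hpt : F.perm d t = F.perm d r * (σ * F.perm d r * σ⁻¹) := by
    rw [ht, F.perm_mul d hrz ((hgz.mul_left hrz).mul_left hgz.inv_left),
      F.perm_mul d (hgz.mul_left hrz) hgz.inv_left, F.perm_mul d hgz hrz, hg, hinv]
  have h4 := congrArg (F.perm d) ht4
  rw [F.perm_mul d (htz.mul_left htz) (htz.mul_left htz), F.perm_mul d htz htz,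
    show (1 : G) = F.el m1 from F.el_one.symm, F.perm_el d, hpt] at h4
  have hrQ := F.mem_of_perm_eq_one d hrz (hσ _ (hF.fix hrz) hfix hq h4)
  obtain ⟨q, hq'⟩ := F.el_surjective d hrQ
  have hqq : mm q q = (pt i, e) := F.el_injective d (by rw [F.el_mm d, hq', hrr])
  exact (by decide +kernel : ∀ (q : M) (i : Fin 5) (e : Bool), mm q q ≠ (pt i, e)) q i e hqq

/-- The conjugates of `z` in `Q`. -/
theorem inY_of_isConj {q : G} (hq : q ∈ Q) (hc : IsConj z q) : F.InY q := by
  by_cases hqz : q = z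
  · exact Or.inr (Or.inl hqz)
  obtain ⟨i, e, rfl⟩ := F.exists_pt d hq (d.sq_conj hc) (d.conj_ne_one hc) hqz
  by_cases hi : i = 4
  · subst hi
    exact (F.inY_iff_el d _).mpr (Or.inr (Or.inr ⟨e, rfl⟩))
  · exact absurd hc (hF.not_isConj_pt hi e)

/-- The fixed point is fused. -/
theorem isConj_y (h : ∃ u, IsConj z u ∧ Commute u z ∧ u ≠ z) :
    IsConj z (F.pv 4) ∧ IsConj z (F.pv 4 * z) := by
  obtain ⟨q, hq, hc, hqz⟩ := exists_fused d h
  obtain ⟨e, rfl⟩ := (((F.inY_iff_el d q).mp (hF.inY_of_isConj hq hc)).resolve_left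
    (d.conj_ne_one hc)).resolve_left hqz
  have key : ∀ e', IsConj z (F.el (pt 4, e')) := fun e' => by
    obtain ⟨x, -, hx⟩ := F.exists_conj_pt d 4 e e'
    exact hc.trans (isConj_iff.mpr ⟨x, hx⟩)
  exact ⟨by simpa [F.el_pt d] using key false, by simpa [F.el_pt d] using key true⟩

/-- The bases over the fixed point have the same four-group. -/
theorem inY_eq {p : G} {R : Subgroup G} (hp : p = F.pv 4 ∨ p = F.pv 4 * z) (hR : Rel z Q p R)
    {dp : Data p R} {Fp : Frame p R} (hFp : Based dp Fp) (x : G) : Fp.InY x ↔ F.InY x := by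
  have hzR : z ∈ R := by
    obtain ⟨e, he⟩ : ∃ e, F.el (pt 4, e) = p := by
      rcases hp with rfl | rfl
      · exact ⟨false, by simp [F.el_pt d]⟩
      · exact ⟨true, by simp [F.el_pt d]⟩
    subst he
    exact hF.z_mem_of_fused hR
  have hyy := F.pv_sq d 4
  have hyz : z * F.pv 4 = F.pv 4 * z := (F.y_comm d).eq.symm
  have hpc : Commute p z := by
    rcases hp with rfl | rfl
    · exact F.y_comm d
    · exact (F.y_comm d).mul_left (Commute.refl z)
  have hzp : z ≠ p := by
    rcases hp with rfl | rfl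
    · exact (F.y_ne_z d).symm
    · exact (F.yz_ne_z d).symm
  rcases ((hFp.inY_of_isConj hzR (hR.isConj.symm)).resolve_left d.hub.ne_one).resolve_left hzp with h | h
  · rcases hp with rfl | rfl
    · simp only [Frame.InY, ← h, hyz]; tauto
    · simp only [Frame.InY, ← h, ← mul_assoc, hyz]
      rw [mul_assoc (F.pv 4), d.hub.sq, mul_one]
      tauto
  · have h' : Fp.pv 4 = z * p := by
      rw [h, mul_assoc, dp.hub.sq, mul_one]
    have hzy : F.pv 4 * z * F.pv 4 = z := by rw [mul_assoc, hyz, ← mul_assoc, hyy, one_mul]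
    rcases hp with rfl | rfl
    · simp only [Frame.InY, h', hyz, hzy]; tauto
    · simp only [Frame.InY, h', ← mul_assoc, hyz]
      rw [mul_assoc (F.pv 4) z z, d.hub.sq, mul_one, hyy, one_mul]
      tauto

end Based

end Cfsg.Agent.AutL34Recog
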