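import Mathlib

/-!
# A model of the extraspecial group `2^{1+4}` of minus type

An element is `(w, c)` standing for `v₀^{w₀} v₁^{w₁} v₂^{w₂} v₃^{w₃} z^c`, where the `vᵢ` are
pairwise noncommuting involutions and `z` is the central involution. The five noncentral
involution pairs are `pt 0, …, pt 4`.
-/

set_option autoImplicit false
set_option synthInstance.maxSize 4096
set_option synthInstance.maxHeartbeats 400000
set_option maxHeartbeats 1000000

namespace Cfsg.Agent.AutL34Recog

/-- Bit vectors. -/
abbrev W := Bool × Bool × Bool × Bool

/-- Model elements. -/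
abbrev M := W × Bool

/-- Addition of bit vectors. -/
def wadd : W → W → W
  | (a, b, c, d), (a', b', c', d') => (xor a a', xor b b', xor c c', xor d d')

/-- The cocycle. -/
def eps : W → W → Bool
  | (_, b, c, d), (a', b', c', _) => xor (xor (b && a') (c && xor a' b')) (d && xor (xor a' b') c')

/-- The product. -/
def mm (p q : M) : M := (wadd p.1 q.1, xor (xor p.2 q.2) (eps p.1 q.1))

/-- The identity. -/
def m1 : M := ((false, false, false, false), false)

/-- The central involution. -/
def mz : M := ((false, false, false, false), true)

/-- The commutator form. -/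
def mB (v w : W) : Bool := xor (eps v w) (eps w v)

/-- The five singular points. -/
def pt : Fin 5 → W :=
  ![(true, false, false, false), (false, true, false, false), (false, false, true, false),
    (false, false, false, true), (true, true, true, true)]

/-- The standard involution over a point. -/
def mv (i : Fin 5) : M := (pt i, false)

/-- A power by a bit. -/
def mpw (p : M) (e : Bool) : M := cond e p m1

/-- The endomorphism given by the images `pt (π i)`, `c i` of the first four points. -/
def act (π : Fin 5 → Fin 5) (c : Fin 4 → Bool) (p : M) : M :=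
  mm (mm (mm (mm (mpw (pt (π 0), c 0) p.1.1) (mpw (pt (π 1), c 1) p.1.2.1))
    (mpw (pt (π 2), c 2) p.1.2.2.1)) (mpw (pt (π 3), c 3) p.1.2.2.2)) (mpw mz p.2)

/-- Conjugation by `(w, _)`: the sign attached to a vector. -/
def shift (w : W) (p : M) : M := (p.1, xor p.2 (mB w p.1))

theorem pt_injective : Function.Injective pt := by decide +kernel

theorem mB_pt : ∀ i j : Fin 5, mB (pt i) (pt j) = decide (i ≠ j) := by decide +kernel

theorem mB_symm : ∀ v w : W, mB v w = mB w v := by decide +kernel

theorem mm_assoc : ∀ p q r : M, mm (mm p q) r = mm p (mm q r) := by decide +kernel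

theorem mm_one_left : ∀ p : M, mm m1 p = p := by decide +kernel

theorem mm_one_right : ∀ p : M, mm p m1 = p := by decide +kernel

theorem mm_z_comm : ∀ p : M, mm mz p = mm p mz := by decide +kernel

/-- Involutions are the points. -/
theorem sq_eq_one : ∀ p : M, mm p p = m1 → p = m1 ∨ p = mz ∨ ∃ i, p.1 = pt i := by decide +kernel

theorem mB_right_injective : ∀ v : W, (∀ i : Fin 4, mB v (pt i.castSucc) = false) →
    v = (false, false, false, false) := by decide +kernel

/-- A sign pattern is a conjugation. -/
theorem exists_shift : ∀ c : Fin 4 → Bool, ∃ w : W, ∀ i : Fin 4, mB w (pt i.castSucc) = c i := by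
  decide +kernel

/-- Squares of the quadratic form given by the squares of a symplectic basis. -/
def q0 (s : W) : W → Bool
  | (a, b, c, d) => xor (xor (xor (a && s.1) (b && s.2.1)) (a && b))
      (xor (xor (c && s.2.2.1) (d && s.2.2.2)) (c && d))

/-- The commutator form of a symplectic basis. -/
def B0 : W → W → Bool
  | (a, b, c, d), (a', b', c', d') => xor (xor (a && b') (b && a')) (xor (c && d') (d && c'))

/-- Plus type has an elementary abelian subgroup of order 8; minus type has four points. -/
theorem plus_or_frame : ∀ s : W,
    (∃ p q : W, p ≠ (false, false, false, false) ∧ q ≠ (false, false, false, false) ∧ p ≠ q ∧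
      q0 s p = false ∧ q0 s q = false ∧ B0 p q = false) ∨
    (∃ p₀ p₁ p₂ p₃ : W, q0 s p₀ = false ∧ q0 s p₁ = false ∧ q0 s p₂ = false ∧ q0 s p₃ = false ∧
      B0 p₀ p₁ = true ∧ B0 p₀ p₂ = true ∧ B0 p₀ p₃ = true ∧ B0 p₁ p₂ = true ∧ B0 p₁ p₃ = true ∧
      B0 p₂ p₃ = true) := by
  decide +kernel

end Cfsg.Agent.AutL34Recog
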