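import Cfsg.Agent.Lib.AutL34Recog.Core
import Cfsg.Agent.Lib.Transfer.HallWielandt

/-!
# The case of nine conjugates of `z` under `C(a)`

The core `J` is a trivial intersection set and weakly closed, so by Hall–Wielandt `O²(G)` has a
normal subgroup of index three, of order `20160`.
-/

set_option autoImplicit false
set_option maxHeartbeats 1000000
set_option linter.unusedSectionVars false
set_option synthInstance.maxSize 4096
set_option synthInstance.maxHeartbeats 400000

namespace Cfsg.Agent.AutL34Recog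

open Subgroup
open Cfsg.Agent.LargeExtraspecial (Hub mem_conj_iff)
open Cfsg.Agent.SuzType (pw mem_cz)

variable {G : Type*} [Group G] [Finite G] {z : G} {Q : Subgroup G}

theorem exists_fixed_of_odd {α : Type*} [Finite α] (f : α → α) (hf : ∀ x, f (f x) = x)
    (hodd : ¬ 2 ∣ Nat.card α) : ¬ 2 ∣ Nat.card {x // f x = x} := by
  classical
  haveI : Fact (Nat.Prime 2) := ⟨Nat.prime_two⟩
  haveI := Fintype.ofFinite α
  let σ : Equiv.Perm α := ⟨f, f, hf, hf⟩
  have h := Equiv.Perm.card_compl_support_modEq (p := 2) (n := 1) (σ := σ) (by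
    ext x; simp [σ, pow_two, hf])
  have hc : Nat.card {x // f x = x} = σ.supportᶜ.card := by
    rw [Nat.card_eq_fintype_card, Fintype.card_subtype]
    congr 1
    ext x
    simp [σ]
  rw [Nat.card_eq_fintype_card] at hodd
  rw [hc]
  intro hd
  have h' : σ.supportᶜ.card % 2 = Fintype.card α % 2 := h
  exact hodd (by omega)

/-- Two commuting involutive maps of a set of odd size have a common fixed point. -/
theorem exists_common_fixed {α : Type*} [Finite α] (f g : α → α) (hf : ∀ x, f (f x) = x)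
    (hg : ∀ x, g (g x) = x) (hfg : ∀ x, f (g x) = g (f x)) (hodd : ¬ 2 ∣ Nat.card α) :
    ∃ x, f x = x ∧ g x = x := by
  let g' : {x // f x = x} → {x // f x = x} := fun x => ⟨g x, by rw [hfg, x.2]⟩
  have h := exists_fixed_of_odd g' (fun x => Subtype.ext (hg x)) (exists_fixed_of_odd f hf hodd)
  obtain ⟨⟨⟨x, hx⟩, hx'⟩⟩ : Nonempty {x // g' x = x} := by
    by_contra hne
    rw [not_nonempty_iff] at hne
    exact h (by simp [Nat.card_eq_zero.mpr (Or.inl hne)])
  exact ⟨x, hx, congrArg Subtype.val hx'⟩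

namespace Based

variable {d : Data z Q} {F : Frame z Q} (hF : Based d F)
include hF

theorem card_centralizer_a (h9 : Nat.card (orb z (F.el (pt 0, false))) = 9) :
    Nat.card (centralizer ({F.el (pt 0, false)} : Set G)) = 864 := by
  rw [hF.card_centralizer_pt (by decide) false, h9]

theorem card_res_nine (hf : Fused z) (h9 : Nat.card (orb z (F.el (pt 0, false))) = 9)
    (h26 : Nat.card {u : G // IsConj z u ∧ Commute u z ∧ u ≠ z} = 26) :
    Nat.card G = 241920 ∧ Nat.card (Cfsg.pResidual 2 G) = 60480 := by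
  have h := hF.card_group hf
  rw [h9, h26] at h
  have h' := hF.card_res_mul hf
  omega

theorem outer_isConj (hf : Fused z) (h26 : Nat.card {u : G // IsConj z u ∧ Commute u z ∧ u ≠ z} = 26)
    {u : G} (hu : Commute u z) (h2 : u * u = 1) (huQ : u ∉ Q) (hd : IsDbl (F.perm d u)) : IsConj z u := by
  rcases hF.card_fused hf with ⟨-, h⟩ | ⟨h, -⟩
  · omega
  · exact h u hu h2 huQ hd

/-- Every involution of `O²(G)` is conjugate to `z`. -/
theorem invol_isConj (hf : Fused z) (h26 : Nat.card {u : G // IsConj z u ∧ Commute u z ∧ u ≠ z} = 26)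
    {x : G} (hx : x ∈ Cfsg.pResidual 2 G) (h2 : x * x = 1) (h1 : x ≠ 1) : IsConj z x := by
  haveI : Fact (Nat.Prime 2) := ⟨Nat.prime_two⟩
  haveI := Transfer.pResidual_normal (G := G) 2
  obtain ⟨P, hPC, -, -, -, -⟩ := hF.exists_sylow (t := 1) (Commute.one_left z) (one_mul 1)
  have hp : IsPGroup 2 (zpowers x) := IsPGroup.iff_orderOf.mpr fun ⟨y, hy⟩ => by
    obtain ⟨n, hn⟩ := (Nat.dvd_prime_pow Nat.prime_two).mp
      ((orderOf_dvd_of_mem_zpowers hy).trans (orderOf_dvd_of_pow_eq_one (n := 2 ^ 1) (by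
        rw [pow_one, pow_two]; exact h2)))
    exact ⟨n, by rw [← orderOf_injective (zpowers x).subtype Subtype.val_injective]; exact hn.2⟩
  obtain ⟨P', hP'⟩ := hp.exists_le_sylow
  obtain ⟨g, hg⟩ := MulAction.exists_smul_eq G P' P
  have hgx : g * x * g⁻¹ ∈ (P : Subgroup G) := by
    rw [← hg]
    exact Subgroup.smul_mem_pointwise_smul _ (MulAut.conj g) _ (hP' (mem_zpowers x))
  have hT := hF.mem_T_of_sq hf (Subgroup.Normal.conj_mem inferInstance _ hx g) (hPC _ hgx) (SuzType.conj_sq h2)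
  have hconj : IsConj z (g * x * g⁻¹) := by
    rcases hF.inY_or_dbl_of_mem_T hT (SuzType.conj_sq h2) with hY | ⟨hQ, hd⟩
    · exact hF.isConj_of_inY hf hY fun e => h1 (conj_eq_one_iff.mp e)
    · exact hF.outer_isConj hf h26 (hPC _ hgx) (SuzType.conj_sq h2) hQ hd
  exact hconj.trans (isConj_iff.mpr ⟨g⁻¹, by group⟩)

/-- The centralizer in `O²(G)` of a nontrivial element of the core centralizes `a`. -/
theorem commute_a_of_commute (hf : Fused z) (h9 : Nat.card (orb z (F.el (pt 0, false))) = 9)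
    (h26 : Nat.card {u : G // IsConj z u ∧ Commute u z ∧ u ≠ z} = 26) {J : Subgroup G}
    (hJ : Core z (F.el (pt 0, false)) J) {c : G} (hc : c ∈ J) (hc1 : c ≠ 1) {x : G}
    (hx : x ∈ Cfsg.pResidual 2 G) (hxc : Commute x c) : Commute x (F.el (pt 0, false)) := by
  classical
  haveI hNn := Transfer.pResidual_normal (G := G) 2
  set a := F.el (pt 0, false) with ha
  rcases hF.core_dichotomy hf hJ hc hc1 with h | ⟨ρ, h3, hρ1, hρz, hρa, hcρ⟩
  · exact hJ.comm x (h x hx hxc)
  set L := Cfsg.pResidual 2 G ⊓ centralizer ({c} : Set G) with hL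
  have memL : ∀ {w : G}, w ∈ L ↔ w ∈ Cfsg.pResidual 2 G ∧ Commute w c := fun {w} => by
    rw [hL, mem_inf, mem_cz]
  have hLodd : ¬ 2 ∣ Nat.card L := fun h => by
    haveI : Fact (Nat.Prime 2) := ⟨Nat.prime_two⟩
    obtain ⟨w, hw⟩ := exists_prime_orderOf_dvd_card' 2 h
    have h' := hF.odd_of_commute hf hJ hc hc1 (memL.mp w.2).1 (memL.mp w.2).2
    rw [Subgroup.orderOf_coe, hw] at h'
    exact absurd h' (by decide)
  have hLdvd : Nat.card L ∣ 945 := by
    have h : Nat.card L ∣ 2 ^ 6 * 945 := by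
      rw [show 2 ^ 6 * 945 = 60480 from rfl, ← (hF.card_res_nine hf h9 h26).2]
      exact card_dvd_of_le inf_le_left
    exact (((Nat.prime_two.coprime_iff_not_dvd.mpr hLodd).symm).pow_right 6).dvd_of_dvd_mul_left h
  have haL : ∀ w ∈ L, a * w * a⁻¹ ∈ L := fun w hw => memL.mpr
    ⟨hNn.conj_mem _ (memL.mp hw).1 a,
      ((hJ.comm c hc).symm.mul_left (memL.mp hw).2).mul_left (hJ.comm c hc).symm.inv_left⟩
  have hzL : ∀ w ∈ L, z * w * z⁻¹ ∈ L := fun w hw => memL.mpr ⟨hNn.conj_mem _ (memL.mp hw).1 z, by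
    have h := (memL.mp hw).2.map (MulAut.conj z).toMonoidHom
    simp only [MulEquiv.toMonoidHom_eq_coe, MonoidHom.coe_coe, MulAut.conj_apply, hJ.inv c hc] at h
    simpa using h.inv_right⟩
  have ha2 : a * a = 1 := hF.el_pt_sq 0 false
  have haz : Commute a z := hF.el_pt_commute 0 false
  have noprime : ∀ q, q.Prime → q ∈ ({5, 7} : Finset ℕ) → ¬ q ∣ Nat.card L := by
    intro q hq hq57 hdvd
    haveI : Fact q.Prime := ⟨hq⟩
    have hsq : ¬ q ^ 2 ∣ Nat.card L := fun h => by
      have := h.trans hLdvd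
      simp only [Finset.mem_insert, Finset.mem_singleton] at hq57
      rcases hq57 with rfl | rfl <;> norm_num at this
    have hcardS : ∀ S : Sylow q L, Nat.card (S : Subgroup L) = q := by
      intro S
      obtain ⟨k, hk⟩ := S.2.exists_card_eq
      have h1 : q ^ 1 ∣ Nat.card (S : Subgroup L) := S.pow_dvd_card_of_pow_dvd_card (by rwa [pow_one])
      rw [hk] at h1 ⊢
      have hk1 : 1 ≤ k := (Nat.pow_dvd_pow_iff_le_right hq.one_lt).mp h1
      have hk2 : k < 2 := by
        by_contra hk2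
        exact hsq ((pow_dvd_pow q (by omega : 2 ≤ k)).trans (hk ▸ Subgroup.card_subgroup_dvd_card _))
      rw [show k = 1 by omega, pow_one]
    let Sq := {S : Subgroup G // S ≤ L ∧ Nat.card S = q}
    have hSq : Nat.card Sq = Nat.card (Sylow q L) := by
      symm
      refine Nat.card_eq_of_bijective (fun S => (⟨(S : Subgroup L).map L.subtype, map_subtype_le _,
        by rw [card_map_of_injective L.subtype_injective, hcardS]⟩ : Sq)) ⟨fun S S' h => Sylow.ext
          (map_injective L.subtype_injective (congrArg Subtype.val h :)), ?_⟩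
      rintro ⟨S, hSL, hS⟩
      obtain ⟨P⟩ : Nonempty (Sylow q L) := inferInstance
      have hc : Nat.card (S.subgroupOf L) = Nat.card (P : Subgroup L) := by
        rw [Nat.card_congr (subgroupOfEquivOfLe hSL).toEquiv, hS, hcardS]
      have hpg : IsPGroup q (S.subgroupOf L) := IsPGroup.of_card (n := 1) (by rw [hc, hcardS, pow_one])
      obtain ⟨P', hP'⟩ := hpg.exists_le_sylow
      refine ⟨P', Subtype.ext ?_⟩
      have : S.subgroupOf L = P' := eq_of_le_of_card_ge hP' (by rw [hc, hcardS, hcardS])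
      show (P' : Subgroup L).map L.subtype = S
      rw [← this, map_subgroupOf_eq_of_le hSL]
    have hodd : ¬ 2 ∣ Nat.card Sq := by
      rw [hSq]
      obtain ⟨P⟩ : Nonempty (Sylow q L) := inferInstance
      exact fun h => hLodd (h.trans ((P.card_dvd_index).trans (Subgroup.index_dvd_card _)))
    let conjS : ∀ g : G, (∀ w ∈ L, g * w * g⁻¹ ∈ L) → Sq → Sq := fun g hg S =>
      ⟨S.1.map (MulAut.conj g).toMonoidHom, (by rintro _ ⟨w, hw, rfl⟩; exact hg w (S.2.1 hw)), by
        rw [card_map_of_injective (MulAut.conj g).injective]; exact S.2.2⟩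
    have hcs : ∀ (g : G) (hg : ∀ w ∈ L, g * w * g⁻¹ ∈ L), g * g = 1 → ∀ S, conjS g hg (conjS g hg S) = S := by
      intro g hg hgg S
      refine Subtype.ext ?_
      show (S.1.map (MulAut.conj g).toMonoidHom).map (MulAut.conj g).toMonoidHom = S.1
      rw [← map_conj_mul, hgg]
      ext w; simp
    obtain ⟨⟨S, hSL, hS⟩, hfa, hfz⟩ := exists_common_fixed (conjS a haL) (conjS z hzL) (hcs a haL ha2)
      (hcs z hzL d.hub.sq) (fun S => Subtype.ext (by
        show (S.1.map (MulAut.conj z).toMonoidHom).map (MulAut.conj a).toMonoidHom =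
          (S.1.map (MulAut.conj a).toMonoidHom).map (MulAut.conj z).toMonoidHom
        rw [← map_conj_mul, ← map_conj_mul, haz.eq])) hodd
    haveI hcyc : IsCyclic S := isCyclic_of_prime_card hS
    obtain ⟨⟨s, hsS⟩, hs1⟩ : ∃ s : S, s ≠ 1 := by
      by_contra h
      push Not at h
      have : Nat.card S ≤ 1 := Finite.card_le_one_iff_subsingleton.mpr ⟨fun u v => by rw [h u, h v]⟩
      have := hq.two_le
      omega
    have hs1' : s ≠ 1 := fun e => hs1 (Subtype.ext e)
    have hcomm : ∀ u ∈ S, ∀ v ∈ S, Commute u v := fun u hu v hv => by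
      obtain ⟨b, hb⟩ := IsCyclic.exists_generator (α := S)
      obtain ⟨i, hi⟩ := mem_zpowers_iff.mp (hb ⟨u, hu⟩)
      obtain ⟨j, hj⟩ := mem_zpowers_iff.mp (hb ⟨v, hv⟩)
      have := ((Commute.refl b).zpow_zpow i j).map S.subtype
      rw [hi, hj] at this
      exact this
    have key : ∀ g : G, g * g = 1 → (∀ u ∈ S, g * u * g⁻¹ ∈ S) → (∀ u ∈ S, Commute u g → u = 1) →
        g * s * g⁻¹ = s⁻¹ := by
      intro g hgg hgS hfree
      have hm := hgS s hsS
      have h : Commute (s * (g * s * g⁻¹)) g := by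
        refine Commute.symm (mul_inv_eq_iff_eq_mul.mp ?_)
        calc g * (s * (g * s * g⁻¹)) * g⁻¹ = (g * s * g⁻¹) * ((g * g) * s * (g * g)⁻¹) := by group
          _ = _ := by rw [hgg, one_mul, inv_one, mul_one, (hcomm s hsS _ hm).eq]
      exact eq_inv_of_mul_eq_one_right (hfree _ (mul_mem hsS hm) h)
    have hSa : ∀ u ∈ S, a * u * a⁻¹ ∈ S := fun u hu => by
      have := congrArg Subtype.val hfa
      exact this.le ⟨u, hu, rfl⟩
    have hSz : ∀ u ∈ S, z * u * z⁻¹ ∈ S := fun u hu => by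
      have := congrArg Subtype.val hfz
      exact this.le ⟨u, hu, rfl⟩
    have hfree : ∀ (v : G), Nat.card (centralizer ({v} : Set G)) = 864 ∨
        Nat.card (centralizer ({v} : Set G)) = 768 → ∀ u ∈ S, Commute u v → u = 1 := by
      intro v hv u hu huv
      have h1 : orderOf u ∣ q := hS ▸ Subgroup.orderOf_dvd_natCard S hu
      have h2 : orderOf u ∣ Nat.card (centralizer ({v} : Set G)) :=
        Subgroup.orderOf_dvd_natCard _ (mem_cz.mpr huv)
      refine orderOf_eq_one_iff.mp ((Nat.dvd_prime hq).mp h1 |>.resolve_right fun e => ?_)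
      rw [e] at h2
      simp only [Finset.mem_insert, Finset.mem_singleton] at hq57
      rcases hv with hv | hv <;> rw [hv] at h2 <;> rcases hq57 with rfl | rfl <;> norm_num at h2
    have ea := key a ha2 hSa (hfree a (Or.inl (hF.card_centralizer_a h9)))
    have ez := key z d.hub.sq hSz (hfree z (Or.inr d.cardC))
    refine hs1' (hfree (a * z) (Or.inl ?_) s hsS ?_)
    · rw [ha, ← F.el_zmul d, show mm (pt 0, false) mz = (pt 0, true) by decide +kernel,
        hF.card_centralizer_pt (by decide) true, ← hF.card_orb_eq (i := 0) (by decide) (by decide) false true, h9]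
    · refine Commute.symm (mul_inv_eq_iff_eq_mul.mp ?_)
      calc a * z * s * (a * z)⁻¹ = a * (z * s * z⁻¹) * a⁻¹ := by group
        _ = (a * s * a⁻¹)⁻¹ := by rw [ez]; group
        _ = s := by rw [ea, inv_inv]
  have hL27 : Nat.card L ∣ 27 := by
    have h5 : Nat.Coprime 5 (Nat.card L) :=
      (Nat.Prime.coprime_iff_not_dvd (by norm_num)).mpr (noprime 5 (by norm_num) (by simp))
    have h7 : Nat.Coprime 7 (Nat.card L) :=
      (Nat.Prime.coprime_iff_not_dvd (by norm_num)).mpr (noprime 7 (by norm_num) (by simp))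
    exact (Nat.Coprime.mul_right h5.symm h7.symm).dvd_of_dvd_mul_left (show Nat.card L ∣ 5 * 7 * 27 from hLdvd)
  set A := L ⊓ centralizer ({a} : Set G) with hA
  have hJA : J ≤ A := fun j hj => mem_inf.mpr
    ⟨memL.mpr ⟨hF.res_of_odd (hJ.odd j hj), hJ.abel j hj c hc⟩, mem_cz.mpr (hJ.comm j hj)⟩
  have hρA : ρ ∈ A := mem_inf.mpr ⟨memL.mpr ⟨mem_res_of_cube h3, hcρ.symm⟩, mem_cz.mpr hρa⟩
  have hρJ : ρ ∉ J := fun h => by
    have hi := hJ.inv ρ h
    rw [hρz.symm.eq, mul_inv_cancel_right] at hi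
    exact hρ1 (eq_one_of_sq_odd (mul_eq_one_iff_eq_inv.mpr hi) (hJ.odd ρ h))
  have hlt : 9 < Nat.card A := by
    refine lt_of_le_of_ne (by rw [← h9, ← hJ.card]; exact card_le_of_le hJA) fun h => hρJ ?_
    rw [eq_of_le_of_card_ge hJA (by rw [hJ.card, h9, ← h])]
    exact hρA
  have hAd : Nat.card A ∈ Nat.divisors 27 :=
    Nat.mem_divisors.mpr ⟨(card_dvd_of_le inf_le_left).trans hL27, by norm_num⟩
  have hA27 : Nat.card A = 27 := by
    have := (by decide +kernel : ∀ n ∈ Nat.divisors 27, 9 < n → n = 27) _ hAd hlt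
    exact this
  have hAL : A = L := eq_of_le_of_card_ge inf_le_left (by
    rw [hA27]; exact Nat.le_of_dvd (by norm_num) hL27)
  exact mem_cz.mp (mem_inf.mp (hAL.symm ▸ memL.mpr ⟨hx, hxc⟩ : x ∈ A)).2

/-- Only `a` in its class commutes with a nontrivial element of its core. -/
theorem eq_a_of_commute (hf : Fused z) (h9 : Nat.card (orb z (F.el (pt 0, false))) = 9)
    (h26 : Nat.card {u : G // IsConj z u ∧ Commute u z ∧ u ≠ z} = 26) {J : Subgroup G}
    (hJ : Core z (F.el (pt 0, false)) J) {c : G} (hc : c ∈ J) (hc1 : c ≠ 1) {v : G}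
    (hv : IsConj (F.el (pt 0, false)) v) (hvc : Commute v c) : v = F.el (pt 0, false) := by
  haveI : Fact (Nat.Prime 2) := ⟨Nat.prime_two⟩
  haveI := Transfer.pResidual_normal (G := G) 2
  set a := F.el (pt 0, false) with ha
  obtain ⟨g, hg⟩ := isConj_iff.mp hv
  set N := Cfsg.pResidual 2 G
  have ha2 : a * a = 1 := hF.el_pt_sq 0 false
  have hcm : ∀ p q : G ⧸ N, p * q = q * p := IsPGroup.commutative_of_card_eq_prime_sq (p := 2) (by
    rw [← index_eq_card, (hF.residual_facts hf).1]; rfl)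
  have hvaN : v * a ∈ N := by
    rw [← QuotientGroup.eq_one_iff, QuotientGroup.mk_mul, ← hg, QuotientGroup.mk_mul, QuotientGroup.mk_mul,
      QuotientGroup.mk_inv, hcm (g : G ⧸ N) (a : G ⧸ N), mul_inv_cancel_right, ← QuotientGroup.mk_mul,
      ha2, QuotientGroup.mk_one]
  have hcva : Commute (v * a) c := hvc.mul_left (hJ.comm c hc).symm
  have hm := hF.commute_a_of_commute hf h9 h26 hJ hc hc1 hvaN hcva
  have hva : Commute v a := by
    have := hm.mul_left (Commute.refl a)
    rwa [mul_assoc, ha2, mul_one] at this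
  have h1 : v * a = 1 := eq_one_of_sq_odd (by
    calc v * a * (v * a) = v * (a * v) * a := by group
      _ = v * v * (a * a) := by rw [← hva.eq]; group
      _ = 1 := by rw [← hg, SuzType.conj_sq ha2, ha2, one_mul]) (hF.odd_of_commute hf hJ hc hc1 hvaN hcva)
  exact (eq_inv_of_mul_eq_one_left h1).trans (inv_eq_of_mul_eq_one_right ha2)

theorem core_unique_split {J : Subgroup G} (hJ : Core z (F.el (pt 0, false)) J) {j j' h h' : G}
    (hj : j ∈ J) (hj' : j' ∈ J) (hh : Commute h z) (hh' : Commute h' z) (he : j * h = j' * h') : h = h' := by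
  have hm : j'⁻¹ * j ∈ J := mul_mem (inv_mem hj') hj
  have e1 : j'⁻¹ * j = h' * h⁻¹ := by
    calc j'⁻¹ * j = j'⁻¹ * (j * h) * h⁻¹ := by group
      _ = _ := by rw [he]; group
  have hc : Commute (j'⁻¹ * j) z := e1 ▸ hh'.mul_left hh.inv_left
  have hi := hJ.inv _ hm
  rw [hc.symm.eq, mul_inv_cancel_right] at hi
  have h1 := eq_one_of_sq_odd (mul_eq_one_iff_eq_inv.mpr hi) (hJ.odd _ hm)
  rw [e1, mul_inv_eq_one] at h1
  exact h1.symm

/-- `O²(G)` has a normal subgroup of index three. -/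
theorem exists_index_three (hf : Fused z) (h9 : Nat.card (orb z (F.el (pt 0, false))) = 9)
    (h26 : Nat.card {u : G // IsConj z u ∧ Commute u z ∧ u ≠ z} = 26) {J : Subgroup G}
    (hJ : Core z (F.el (pt 0, false)) J) :
    ∃ M : Subgroup G, M.Normal ∧ M ≤ Cfsg.pResidual 2 G ∧ Nat.card M = 20160 ∧
      (∀ x, IsConj z x → x ∈ M) ∧ F.T d hF ≤ M ∧ J ≤ M ∧
      Nat.card (centralizer ({z} : Set G) ⊓ M : Subgroup G) = 64 := by
  classical
  haveI hNn := Transfer.pResidual_normal (G := G) 2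
  haveI : Fact (Nat.Prime 3) := ⟨Nat.prime_three⟩
  set a := F.el (pt 0, false) with ha
  set N := Cfsg.pResidual 2 G with hN
  have hJN : J ≤ N := fun j hj => hF.res_of_odd (hJ.odd j hj)
  have hJ9 : Nat.card J = 9 := hJ.card.trans h9
  have hN60 : Nat.card N = 60480 := (hF.card_res_nine hf h9 h26).2
  set Jn := J.subgroupOf N with hJn
  have hJn9 : Nat.card Jn = 9 := by rw [Nat.card_congr (subgroupOfEquivOfLe hJN).toEquiv, hJ9]
  obtain ⟨P, hP⟩ := (IsPGroup.of_card (n := 2) (by rw [hJn9]; norm_num) : IsPGroup 3 Jn).exists_le_sylow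
  have hP27 : Nat.card P ≤ 27 := by
    obtain ⟨k, hk⟩ := P.2.exists_card_eq
    rw [hk]
    have hd : 3 ^ k ∣ 60480 := hk ▸ hN60 ▸ Subgroup.card_subgroup_dvd_card _
    have : k ≤ 3 := by
      by_contra h
      have := (pow_dvd_pow 3 (by omega : 4 ≤ k)).trans hd
      norm_num at this
    calc 3 ^ k ≤ 3 ^ 3 := Nat.pow_le_pow_right (by norm_num) this
      _ = 27 := by norm_num
  have commute_of_conj : ∀ g : N, ∀ c : N, c ∈ Jn → c ≠ 1 → g * c * g⁻¹ ∈ Jn → Commute (g : G) a := by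
    intro g c hc hc1 hgc
    have hv := hF.eq_a_of_commute hf h9 h26 hJ (c := ((g * c * g⁻¹ : N) : G)) (mem_subgroupOf.mp hgc)
      (fun e => hc1 (conj_eq_one_iff.mp (Subtype.ext e))) (v := (g : G) * a * (g : G)⁻¹)
      (isConj_iff.mpr ⟨(g : G), rfl⟩) (by
        have := (hJ.comm _ (mem_subgroupOf.mp hc)).symm.map (MulAut.conj (g : G)).toMonoidHom
        simpa using this)
    exact mul_inv_eq_iff_eq_mul.mp hv
  have conj_mem : ∀ g : N, Commute (g : G) a → ∀ c ∈ Jn, g * c * g⁻¹ ∈ Jn := fun g hg c hc =>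
    mem_subgroupOf.mpr (hJ.normal _ hg _ (mem_subgroupOf.mp hc))
  have hW : Cfsg.IsWeaklyClosed Jn (P : Subgroup N) := by
    refine ⟨hP, fun g hg => ?_⟩
    obtain ⟨c, hc, hc1, hgc⟩ : ∃ c ∈ Jn, c ≠ 1 ∧ g * c * g⁻¹ ∈ Jn := by
      by_contra hcon
      push Not at hcon
      let φ : Jn × Jn → P := fun p => ⟨(p.1 : N) * (g * p.2 * g⁻¹), mul_mem (hP p.1.2) (hg ⟨p.2, p.2.2, rfl⟩)⟩
      have hφ : Function.Injective φ := by
        rintro ⟨u, v⟩ ⟨u', v'⟩ h
        have h' : (u : N) * (g * v * g⁻¹) = u' * (g * v' * g⁻¹) := congrArg Subtype.val h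
        have e1 : g * ((v : N) * (v' : N)⁻¹) * g⁻¹ = (u : N)⁻¹ * u' := by
          calc g * ((v : N) * (v' : N)⁻¹) * g⁻¹ = (u : N)⁻¹ * ((u : N) * (g * v * g⁻¹)) * (g * v' * g⁻¹)⁻¹ := by group
            _ = _ := by rw [h']; group
        have hv : (v : N) * (v' : N)⁻¹ = 1 := by
          by_contra hv
          exact hcon _ (mul_mem v.2 (inv_mem v'.2)) hv (e1 ▸ mul_mem (inv_mem u.2) u'.2)
        rw [hv, mul_one, mul_inv_cancel, eq_comm, inv_mul_eq_one] at e1
        exact Prod.ext (Subtype.ext e1) (Subtype.ext (mul_inv_eq_one.mp hv))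
      have := Nat.card_le_card_of_injective φ hφ
      rw [Nat.card_prod, hJn9] at this
      exact absurd (this.trans hP27) (by norm_num)
    refine eq_of_le_of_card_ge ?_ (by rw [card_map_of_injective (MulAut.conj g).injective])
    rintro _ ⟨w, hw, rfl⟩
    exact conj_mem g (commute_of_conj g c hc hc1 hgc) w hw
  set H := normalizer (Jn : Set N) with hH
  obtain ⟨c₀, hc₀, hc₀1⟩ : ∃ c ∈ Jn, c ≠ 1 := Jn.bot_or_exists_ne_one.resolve_left fun h => by
    rw [h, card_bot] at hJn9; omega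
  have memH : ∀ {g : N}, g ∈ H ↔ Commute (g : G) a := fun {g} => by
    refine ⟨fun h => commute_of_conj g c₀ hc₀ hc₀1 ((mem_normalizer_iff.mp h c₀).mp hc₀), fun h => ?_⟩
    refine mem_normalizer_iff.mpr fun w => ⟨conj_mem g h w, fun hw => ?_⟩
    have := conj_mem g⁻¹ (by simpa using h.inv_left) _ hw
    simpa [mul_assoc] using this
  have hres : Cfsg.pResidualOf 3 H = Cfsg.pResidual 3 N ⊓ H := by
    rcases Transfer.step_or_control P hW with ⟨⟨st⟩⟩ | ⟨h1, -⟩
    · refine absurd ?_ st.chi_bracket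
      have hEngel : ∀ u ∈ (P : Subgroup N), ∀ w ∈ Jn, (fun y : N => y⁻¹ * w⁻¹ * y * w)^[3 - 1] u = 1 := by
        intro u hu w hw
        have hnorm : ∀ x ∈ Jn, ∀ v ∈ (P : Subgroup N), v * x * v⁻¹ ∈ Jn := fun x hx v hv => by
          have h := hW.2 v (by rintro _ ⟨y, hy, rfl⟩; exact mul_mem (mul_mem hv (hP hy)) (inv_mem hv))
          exact h ▸ ⟨x, hx, rfl⟩
        have h1 : u⁻¹ * w⁻¹ * u * w ∈ Jn :=
          mul_mem (by have := hnorm _ (inv_mem hw) u⁻¹ (inv_mem hu); rwa [inv_inv] at this) hw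
        show (u⁻¹ * w⁻¹ * u * w)⁻¹ * w⁻¹ * (u⁻¹ * w⁻¹ * u * w) * w = 1
        set b := u⁻¹ * w⁻¹ * u * w
        have hbw : Commute w⁻¹ b := Subtype.ext
          (hJ.abel _ (mem_subgroupOf.mp (inv_mem hw)) _ (mem_subgroupOf.mp h1))
        rw [mul_assoc b⁻¹ w⁻¹ b, hbw.eq, inv_mul_cancel_left, inv_mul_cancel]
      rw [show st.D^[3 - 1] st.y = 1 from hEngel _ (st.T_le (st.le_T st.y_mem)) _ st.z_mem]
      exact st.addOn.map_one
    · exact h1
  -- the permutation character
  have hsp : ∀ g : H, ∃ h : G, Commute h z ∧ Commute h a ∧ ∃ j ∈ J, ((g : N) : G) = j * h := fun g => by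
    obtain ⟨j, hj, h, hhz, hha, he⟩ := hJ.split _ (memH.mp g.2)
    exact ⟨h, hhz, hha, j, hj, he⟩
  choose hh hhz hha jj hjJ hje using hsp
  let f : H →* Equiv.Perm (Fin 5) := MonoidHom.mk' (fun g => F.perm d (hh g)) fun g g' => by
    rw [← F.perm_mul d (hhz g) (hhz g')]
    congr 1
    refine hF.core_unique_split hJ (hjJ (g * g')) (mul_mem (hjJ g) (hJ.normal _ (hha g) _ (hjJ g'))) (hhz _)
      ((hhz g).mul_left (hhz g')) ?_
    rw [← hje, Subgroup.coe_mul, Subgroup.coe_mul, hje g, hje g']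
    group
  have hf3 : ∀ g : H, f g ^ 3 = 1 := by
    intro g
    have hhN : hh g ∈ N := by
      have h := mul_mem (inv_mem (hJN (hjJ g))) (g : N).2
      rwa [hje g, inv_mul_cancel_left] at h
    obtain ⟨e', he'⟩ := F.conj_point d (hhz g) 0 false
    rw [(hha g).eq, mul_inv_cancel_right] at he'
    have hp0 : F.perm d (hh g) 0 = 0 := (pt_injective (congrArg Prod.fst (F.el_injective d he'))).symm
    show F.perm d (hh g) ^ 3 = 1
    rw [pow_succ, pow_two]
    exact (by decide +kernel : ∀ π : Equiv.Perm (Fin 5), π 4 = 4 → π 0 = 0 → (InV π ∨ π * π * π = 1) →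
      π * π * π = 1) _ (hF _ (hhz g)) hp0 (hF.res_facts hf hhN (hhz g)).2
  set N3 := Cfsg.pResidual 3 N with hN3
  set M := N3.map N.subtype with hM
  have hN3c : N3.Characteristic := Transfer.pResidual_characteristic 3
  have hMn : M.Normal := ConjAct.normal_of_characteristic_of_normal
  have hMN : M ≤ N := map_subtype_le _
  have hmemM : ∀ x : G, (hx : x ∈ N) → ¬ 3 ∣ orderOf x → x ∈ M := fun x hx h3 =>
    ⟨⟨x, hx⟩, Transfer.mem_residual_of_coprime ((Nat.prime_three.coprime_iff_not_dvd.mpr (by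
      rwa [← Subgroup.orderOf_coe])).symm), rfl⟩
  have hDM : ∀ x, IsConj z x → x ∈ M := fun x hx => hmemM x (hF.mem_res_of_isConj hx) (by
    rw [orderOf_eq_prime (p := 2) (by rw [pow_two]; exact d.sq_conj hx) (d.conj_ne_one hx)]
    norm_num)
  have hTM : F.T d hF ≤ M := fun x hx => hmemM x (hF.T_le_res hf hx) fun h => by
    have := h.trans (Subgroup.orderOf_dvd_natCard _ hx)
    rw [hF.card_T] at this
    norm_num at this
  have hJM : J ≤ M := by
    intro j hj
    obtain ⟨m, hm⟩ := hJ.odd j hj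
    have hz : z ∈ M := hDM z (IsConj.refl z)
    have h2 : j * j ∈ M := by
      have h := mul_mem (hMn.conj_mem _ hz j) (inv_mem hz)
      have e : j * z * j⁻¹ * z⁻¹ = j * j := by
        calc j * z * j⁻¹ * z⁻¹ = j * (z * j * z⁻¹)⁻¹ := by group
          _ = j * j := by rw [hJ.inv j hj, inv_inv]
      rwa [e] at h
    have hj' : j = (j * j) ^ (m + 1) := by
      rw [← pow_two, ← pow_mul, show 2 * (m + 1) = orderOf j + 1 by omega, pow_succ, pow_orderOf_eq_one, one_mul]
    rw [hj']; exact pow_mem h2 _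
  -- an element of order three outside
  obtain ⟨ρ, hρ3, hρz, hρa, hρp⟩ : ∃ ρ, ρ * ρ * ρ = 1 ∧ Commute ρ z ∧ Commute ρ a ∧
      F.perm d ρ = Equiv.swap 1 2 * Equiv.swap 2 3 := by
    set τ : Equiv.Perm (Fin 5) := Equiv.swap 1 2 * Equiv.swap 2 3 with hτ
    have hτ3 : τ * τ * τ = 1 := by rw [hτ]; decide +kernel
    obtain ⟨g, hgz, hga, hg⟩ := hF.exists_fixing (π := τ) (by rw [hτ]; decide +kernel) (i := 0)
      (by rw [hτ]; decide +kernel) false
    have h2 := hgz.mul_left hgz
    have h3 : g * g * g ∈ Q := F.mem_of_perm_eq_one d (h2.mul_left hgz)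
      (by rw [F.perm_mul d h2 hgz, F.perm_mul d hgz hgz, hg, hτ3])
    refine ⟨g * g * (g * g), ?_, h2.mul_left h2, (hga.mul_left hga).mul_left (hga.mul_left hga), ?_⟩
    · rw [← F.pow_four d h3]; group
    · rw [F.perm_mul d h2 h2, F.perm_mul d hgz hgz, hg, ← mul_assoc, hτ3, one_mul]
  have hρN : ρ ∈ N := mem_res_of_cube hρ3
  have hρM : ρ ∉ M := by
    rintro ⟨r, hr, hr'⟩
    obtain rfl : r = ⟨ρ, hρN⟩ := Subtype.ext hr'
    have hrH : (⟨ρ, hρN⟩ : N) ∈ H := memH.mpr hρa
    have h := hres.symm ▸ (mem_inf.mpr ⟨hr, hrH⟩ : (⟨ρ, hρN⟩ : N) ∈ N3 ⊓ H)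
    obtain ⟨g, hg, hge⟩ := h
    have hk := Transfer.residual_le_ker f 3 (fun x => ⟨1, by rw [pow_one]; exact hf3 x⟩) hg
    rw [MonoidHom.mem_ker] at hk
    have e1 : hh g = ρ := hF.core_unique_split hJ (hjJ g) (one_mem J) (hhz g) hρz (by
      rw [← hje g, one_mul]; exact congrArg Subtype.val hge)
    have h1 : F.perm d ρ = 1 := e1 ▸ hk
    rw [hρp] at h1
    exact absurd h1 (by decide +kernel)
  have hMcard : Nat.card M = 20160 := by
    obtain ⟨k, hk⟩ := Transfer.index_pResidual_eq_pow (G := N) 3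
    have h := N3.card_mul_index
    have hM' : Nat.card M = Nat.card N3 := card_map_of_injective N.subtype_injective
    rw [hN3, hk, ← hN3, hN60, ← hM'] at h
    have h9' : 9 ∣ Nat.card M := hJ9 ▸ card_dvd_of_le hJM
    have hk1 : k ≤ 1 := by
      by_contra hk1
      have : 9 * 9 ∣ 60480 := h ▸ mul_dvd_mul h9' ((show 9 = 3 ^ 2 by norm_num) ▸ pow_dvd_pow 3 (by omega))
      norm_num at this
    have hk0 : k ≠ 0 := fun e => hρM (by
      have hc : Nat.card M = Nat.card N := by rw [hN60]; simpa [e] using h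
      rw [eq_of_le_of_card_ge hMN hc.ge]; exact hρN)
    obtain rfl : k = 1 := by omega
    omega
  refine ⟨M, hMn, hMN, hMcard, hDM, hTM, hJM, ?_⟩
  set K := centralizer ({z} : Set G) ⊓ N with hK
  have hK192 : Nat.card K = 192 := (hF.residual_facts hf).2.1
  have hle : centralizer ({z} : Set G) ⊓ M ≤ K := inf_le_inf_left _ hMN
  have hTle : F.T d hF ≤ centralizer ({z} : Set G) ⊓ M := le_inf hF.T_le_centralizer hTM
  have h64 := card_dvd_of_le hTle
  have h192 := card_dvd_of_le hle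
  rw [hF.card_T] at h64
  rw [hK192] at h192
  have hne : Nat.card (centralizer ({z} : Set G) ⊓ M : Subgroup G) ≠ 192 := fun h => hρM (by
    have he := eq_of_le_of_card_ge hle (by rw [hK192, h])
    exact (mem_inf.mp (he.symm ▸ mem_inf.mpr ⟨mem_cz.mpr hρz, hρN⟩ :
      ρ ∈ centralizer ({z} : Set G) ⊓ M)).2)
  have hd : Nat.card (centralizer ({z} : Set G) ⊓ M : Subgroup G) ∈ Nat.divisors 192 :=
    Nat.mem_divisors.mpr ⟨h192, by norm_num⟩
  exact (by decide +kernel : ∀ n ∈ Nat.divisors 192, 64 ∣ n → n ≠ 192 → n = 64) _ hd h64 hne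

end Based

end Cfsg.Agent.AutL34Recog
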