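import Cfsg.Agent.Lib.AutL34Recog.Action

/-!
# Conjugate bases, involution types, centralizers of points

`Rel z Q u R`: `R` is the copy of `Q` attached to the conjugate `u` of `z`.
-/

set_option autoImplicit false
set_option maxHeartbeats 1000000
set_option linter.unusedSectionVars false
set_option synthInstance.maxSize 4096
set_option synthInstance.maxHeartbeats 400000

namespace Cfsg.Agent.AutL34Recog

open Subgroup
open Cfsg.Agent.LargeExtraspecial (Hub mem_conj_iff)
open Cfsg.Agent.SuzType (pw mem_cz)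

variable {G : Type*} [Group G] {z : G} {Q : Subgroup G}

/-- `R` belongs to `u` as `Q` to `z`. -/
def Rel (z : G) (Q : Subgroup G) (u : G) (R : Subgroup G) : Prop :=
  ∃ g : G, g * z * g⁻¹ = u ∧ Q.map (MulAut.conj g).toMonoidHom = R

theorem Data.conj (d : Data z Q) (g : G) : Data (g * z * g⁻¹) (Q.map (MulAut.conj g).toMonoidHom) := by
  have hcomm : ∀ {x : G}, Commute x (g * z * g⁻¹) ↔ Commute (g⁻¹ * x * g) z := fun {x} => by
    constructor
    · intro h
      have := h.map (MulAut.conj g⁻¹).toMonoidHom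
      simpa [mul_assoc] using this
    · intro h
      have := h.map (MulAut.conj g).toMonoidHom
      simpa [mul_assoc] using this
  have hC : centralizer ({g * z * g⁻¹} : Set G) =
      (centralizer ({z} : Set G)).map (MulAut.conj g).toMonoidHom := by
    ext x; rw [mem_cz, hcomm, mem_conj_iff, mem_cz]
  refine ⟨d.hub.conj g, ?_, ?_, ?_, ?_⟩
  · rw [hC]; exact map_mono d.le
  · rw [card_map_of_injective (MulAut.conj g).injective, d.cardQ]
  · rw [hC, card_map_of_injective (MulAut.conj g).injective, d.cardC]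
  · intro p hp q hq hp2 hq2 hpq hp1 hpz
    have hp' := mem_conj_iff.mp hp
    have hq' := mem_conj_iff.mp hq
    have back : ∀ {x : G} (w : G), g⁻¹ * x * g = w → x = g * w * g⁻¹ := by
      intro x w e; rw [← e]; group
    have sq : ∀ {x : G}, x * x = 1 → g⁻¹ * x * g * (g⁻¹ * x * g) = 1 := fun {x} e => by
      rw [show g⁻¹ * x * g * (g⁻¹ * x * g) = g⁻¹ * (x * x) * g by group, e]; group
    rcases d.minus _ hp' _ hq' (sq hp2) (sq hq2)
      (by have := hpq.map (MulAut.conj g⁻¹).toMonoidHom; simpa [mul_assoc] using this)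
      (fun e => hp1 (by rw [back _ e]; group)) (fun e => hpz (back _ e)) with e | e | e | e
    · exact Or.inl (by rw [back _ e]; group)
    · exact Or.inr (Or.inl (back _ e))
    · exact Or.inr (Or.inr (Or.inl (by rw [back _ e]; group)))
    · exact Or.inr (Or.inr (Or.inr (by rw [back _ e]; group)))

theorem Rel.data (d : Data z Q) {u : G} {R : Subgroup G} (h : Rel z Q u R) : Data u R := by
  obtain ⟨g, rfl, rfl⟩ := h
  exact d.conj g

theorem exists_rel {u : G} (h : IsConj z u) : ∃ R, Rel z Q u R := by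
  obtain ⟨g, hg⟩ := isConj_iff.mp h
  exact ⟨_, g, hg, rfl⟩

theorem Rel.isConj {u : G} {R : Subgroup G} (h : Rel z Q u R) : IsConj z u := by
  obtain ⟨g, hg, -⟩ := h
  exact isConj_iff.mpr ⟨g, hg⟩

theorem map_conj_mul (Q : Subgroup G) (g h : G) :
    Q.map (MulAut.conj (g * h)).toMonoidHom =
      (Q.map (MulAut.conj h).toMonoidHom).map (MulAut.conj g).toMonoidHom := by
  rw [Subgroup.map_map]
  congr 1
  exact MonoidHom.ext fun x => by simp [mul_assoc]

theorem Rel.trans {u w : G} {R S : Subgroup G} (h : Rel z Q u R) (h' : Rel u R w S) : Rel z Q w S := by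
  obtain ⟨g, rfl, rfl⟩ := h
  obtain ⟨k, rfl, rfl⟩ := h'
  exact ⟨k * g, by group, map_conj_mul _ _ _⟩

theorem Rel.symm {u : G} {R : Subgroup G} (h : Rel z Q u R) : Rel u R z Q := by
  obtain ⟨g, rfl, rfl⟩ := h
  refine ⟨g⁻¹, by group, ?_⟩
  rw [← map_conj_mul, inv_mul_cancel]
  ext x; simp

theorem map_conj_eq (d : Data z Q) {c : G} (hc : Commute c z) :
    Q.map (MulAut.conj c).toMonoidHom = Q := by
  refine le_antisymm ?_ fun x hx => mem_conj_iff.mpr ?_
  · rintro _ ⟨x, hx, rfl⟩
    exact d.hub.normalizes c hc x hx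
  · simpa using d.hub.normalizes c⁻¹ hc.inv_left x hx

theorem Rel.unique (d : Data z Q) {u : G} {R R' : Subgroup G} (h : Rel z Q u R) (h' : Rel z Q u R') : R = R' := by
  obtain ⟨g, hg, rfl⟩ := h
  obtain ⟨g', hg', rfl⟩ := h'
  have hc : Commute (g⁻¹ * g') z := by
    show g⁻¹ * g' * z = z * (g⁻¹ * g')
    calc g⁻¹ * g' * z = g⁻¹ * (g' * z * g'⁻¹) * g' := by group
      _ = g⁻¹ * (g * z * g⁻¹) * g' := by rw [hg', hg]
      _ = z * (g⁻¹ * g') := by group
  conv_rhs => rw [show g' = g * (g⁻¹ * g') by group, map_conj_mul, map_conj_eq d hc]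

/-- The involution induces a double transposition. -/
def IsDbl (π : Equiv.Perm (Fin 5)) : Prop := ∀ i : Fin 5, π i = i → i = 4

instance (π : Equiv.Perm (Fin 5)) : Decidable (IsDbl π) := by unfold IsDbl; infer_instance

theorem act_fix_dbl : ∀ (π : Equiv.Perm (Fin 5)) (c : Fin 4 → Bool), π 4 = 4 → π * π = 1 → IsDbl π →
    (∀ p, act π c (act π c p) = p) →
    (∀ p, act π c p = p → p.1 = (false, false, false, false) ∨ p.1 = pt 4) ∧
    (∀ e, act π c (pt 4, e) = (pt 4, e)) ∧
    (∀ p : M, (p.1 = (false, false, false, false) ∨ p.1 = pt 4) →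
      ∃ w : W, mm (act π c (w, false)) (mm (w, false) (((false, false, false, false) : W), eps w w)) = p) := by
  decide +kernel

theorem act_fix_sgl : ∀ (π : Equiv.Perm (Fin 5)) (c : Fin 4 → Bool), π 4 = 4 → π * π = 1 → π ≠ 1 →
    ¬ IsDbl π → (∀ p, act π c (act π c p) = p) → ∃ p, act π c p = p ∧ mm p p = mz := by
  decide +kernel

theorem sq_dbl : ∀ π : Equiv.Perm (Fin 5), π 4 = 4 → π * π ≠ 1 → (π * π) * (π * π) = 1 → IsDbl (π * π) := by
  decide +kernel

theorem no_quaternion : ∀ p q : Equiv.Perm (Fin 5), p 4 = 4 → q 4 = 4 → p * p = q * q →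
    p * q * (p * q) = p * p → (p * p) * (p * p) = 1 → p * p = 1 := by
  decide +kernel

theorem act_quaternion : ∀ i : Fin 5, ∃ p q : M, mB p.1 (pt i) = false ∧ mB q.1 (pt i) = false ∧
    mm p p = mz ∧ mm q q = mz ∧ mm (mm p q) (mm p q) = mz := by
  decide +kernel

namespace Based

variable [Finite G] {d : Data z Q} {F : Frame z Q} (hF : Based d F)
include hF

theorem fix {h : G} (hh : Commute h z) : F.perm d h 4 = 4 := hF h hh

theorem act_invol {u : G} (hu : Commute u z) (hu2 : u * u = 1) :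
    F.perm d u * F.perm d u = 1 ∧ ∀ p, act (F.perm d u) (F.sgn d u) (act (F.perm d u) (F.sgn d u) p) = p := by
  refine ⟨?_, fun p => F.el_injective d ?_⟩
  · rw [← F.perm_mul d hu hu, hu2, show (1 : G) = F.el m1 from F.el_one.symm, F.perm_el d]
  · rw [← F.conj_eq_act d hu, ← F.conj_eq_act d hu, inv_eq_of_mul_eq_one_right hu2]
    calc u * (u * F.el p * u) * u = u * u * F.el p * (u * u) := by group
      _ = _ := by rw [hu2]; group

/-- An involution of double type commutes exactly with the two fixed pairs and is conjugate to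
all its translates by them. -/
theorem dbl {u : G} (hu : Commute u z) (hu2 : u * u = 1) (hd : IsDbl (F.perm d u)) :
    Commute u (F.pv 4) ∧
    (∀ q ∈ Q, Commute u q → q = 1 ∨ q = z ∨ q = F.pv 4 ∨ q = F.pv 4 * z) ∧
    (∀ q, (q = 1 ∨ q = z ∨ q = F.pv 4 ∨ q = F.pv 4 * z) → ∃ e ∈ Q, e * u * e⁻¹ = u * q) := by
  obtain ⟨h2, hinv⟩ := hF.act_invol hu hu2
  obtain ⟨k1, k2, k3⟩ := act_fix_dbl _ _ (hF.fix hu) h2 hd hinv
  have hy : ∀ e : Bool, F.el (pt 4, e) = F.pv 4 * pw z e := fun e => by
    rw [show (pt 4, e) = mm (mv 4) ((false, false, false, false), e) by revert e; decide +kernel,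
      F.el_mm d]
    simp [Frame.el, Frame.pv]
  refine ⟨?_, ?_, ?_⟩
  · refine mul_inv_eq_iff_eq_mul.mp ?_
    rw [show F.pv 4 = F.el (pt 4, false) from rfl, F.conj_eq_act d hu, k2 false]
  · intro q hq huq
    obtain ⟨⟨w, e⟩, rfl⟩ := F.el_surjective d hq
    have e0 : act (F.perm d u) (F.sgn d u) (w, e) = (w, e) := F.el_injective d (by
      rw [← F.conj_eq_act d hu, huq.eq, mul_inv_cancel_right])
    rcases k1 _ e0 with h | h
    · replace h : w = (false, false, false, false) := h
      subst h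
      cases e
      · exact Or.inl F.el_one
      · exact Or.inr (Or.inl F.el_z)
    · replace h : w = pt 4 := h
      subst h
      rw [hy]
      cases e <;> simp
  · intro q hq
    have hex : ∃ p : M, (p.1 = (false, false, false, false) ∨ p.1 = pt 4) ∧ F.el p = q := by
      rcases hq with rfl | rfl | rfl | rfl
      · exact ⟨m1, Or.inl rfl, F.el_one⟩
      · exact ⟨mz, Or.inl rfl, F.el_z⟩
      · exact ⟨(pt 4, false), Or.inr rfl, by rw [hy]; simp⟩
      · exact ⟨(pt 4, true), Or.inr rfl, by rw [hy]; simp⟩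
    obtain ⟨p, hp, rfl⟩ := hex
    obtain ⟨w, hw⟩ := k3 p hp
    refine ⟨F.el (w, false), F.el_mem d _, ?_⟩
    have hi : (F.el (w, false))⁻¹ = F.el (mm (w, false) ((false, false, false, false), eps w w)) := by
      refine inv_eq_of_mul_eq_one_right ?_
      rw [← F.el_mm d, ← F.el_one]
      congr 1
      exact (by decide +kernel : ∀ w : W, mm (w, false) (mm (w, false) (((false, false, false, false) : W), eps w w)) = m1) w
    rw [← hw, F.el_mm d, ← F.conj_eq_act d hu, ← hi, inv_eq_of_mul_eq_one_right hu2]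
    calc F.el (w, false) * u * (F.el (w, false))⁻¹ = u * u * F.el (w, false) * u * (F.el (w, false))⁻¹ := by
          rw [hu2, one_mul]
      _ = _ := by group

/-- An outer involution is of double type or commutes with an element of `Q` squaring to `z`. -/
theorem dbl_or_sq {u : G} (hu : Commute u z) (hu2 : u * u = 1) (huQ : u ∉ Q) :
    IsDbl (F.perm d u) ∨ ∃ x ∈ Q, Commute u x ∧ x * x = z := by
  by_cases hd : IsDbl (F.perm d u)
  · exact Or.inl hd
  obtain ⟨h2, hinv⟩ := hF.act_invol hu hu2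
  obtain ⟨p, hp, hpp⟩ := act_fix_sgl _ _ (hF.fix hu) h2 (fun e => huQ (F.mem_of_perm_eq_one d hu e)) hd hinv
  refine Or.inr ⟨F.el p, F.el_mem d p, mul_inv_eq_iff_eq_mul.mp ?_, ?_⟩
  · rw [F.conj_eq_act d hu, hp]
  · rw [← F.el_mm d, hpp, F.el_z]

/-- An outer involution which is a square in `C(z)` is of double type. -/
theorem dbl_of_sq {u x : G} (hx : Commute x z) (hxx : x * x = u) (hu2 : u * u = 1) (huQ : u ∉ Q) :
    IsDbl (F.perm d u) := by
  have hu : Commute u z := hxx ▸ hx.mul_left hx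
  have e : F.perm d u = F.perm d x * F.perm d x := by rw [← hxx, F.perm_mul d hx hx]
  have h1 : F.perm d u ≠ 1 := fun e1 => huQ (F.mem_of_perm_eq_one d hu e1)
  have h2 := (hF.act_invol hu hu2).1
  rw [e] at h1 h2 ⊢
  exact sq_dbl _ (hF.fix hx) h1 h2

/-- Every point is the base of a quaternion group commuting with it. -/
theorem exists_quaternion (i : Fin 5) (e : Bool) :
    ∃ x ∈ Q, ∃ y ∈ Q, Commute x (F.el (pt i, e)) ∧ Commute y (F.el (pt i, e)) ∧
      x * x = z ∧ y * y = z ∧ x * y * (x * y) = z := by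
  obtain ⟨p, q, h1, h2, h3, h4, h5⟩ := act_quaternion i
  refine ⟨F.el p, F.el_mem d _, F.el q, F.el_mem d _, ?_, ?_, ?_, ?_, ?_⟩
  · exact SuzType.fl_eq_false.mp (by rw [F.fl_el_el d]; exact h1)
  · exact SuzType.fl_eq_false.mp (by rw [F.fl_el_el d]; exact h2)
  · rw [← F.el_mm d, h3, F.el_z]
  · rw [← F.el_mm d, h4, F.el_z]
  · rw [← F.el_mm d, ← F.el_mm d, h5, F.el_z]

end Based

end Cfsg.Agent.AutL34Recog
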