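import Cfsg.Agent.Lib.AutL34Recog.Residual

/-!
# The centralizer of `z` in `O²(G)`

It is `T` extended by an element of order three.
-/

set_option autoImplicit false
set_option maxHeartbeats 1000000
set_option linter.unusedSectionVars false
set_option synthInstance.maxSize 4096
set_option synthInstance.maxHeartbeats 400000

namespace Cfsg.Agent.AutL34Recog

open Subgroup
open Cfsg.Agent.LargeExtraspecial (Hub mem_conj_iff)
open Cfsg.Agent.SuzType (pw mem_cz)

variable {G : Type*} [Group G] [Finite G] {z : G} {Q : Subgroup G}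

/-- An element fixed by an involutive map besides a given one, in a set of even size. -/
theorem exists_fixed_of_even {α : Type*} [Finite α] (f : α → α) (hf : ∀ x, f (f x) = x)
    (heven : 2 ∣ Nat.card α) (a : α) (ha : f a = a) : ∃ b, b ≠ a ∧ f b = b := by
  classical
  haveI : Fact (Nat.Prime 2) := ⟨Nat.prime_two⟩
  haveI := Fintype.ofFinite α
  let σ : Equiv.Perm α := ⟨f, f, hf, hf⟩
  have h := Equiv.Perm.card_compl_support_modEq (p := 2) (n := 1) (σ := σ) (by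
    ext x; simp [σ, pow_two, hf])
  rw [Nat.card_eq_fintype_card] at heven
  obtain ⟨k, hk⟩ := heven
  have h2 : σ.supportᶜ.card % 2 = 0 := by rw [h, hk]; simp
  have hmem : a ∈ σ.supportᶜ := by simp [σ, ha]
  have h1 : 1 < σ.supportᶜ.card := by
    have := Finset.card_pos.mpr ⟨a, hmem⟩
    omega
  obtain ⟨b, hb, hne⟩ := Finset.exists_mem_ne h1 a
  exact ⟨b, hne, by simpa [σ] using hb⟩

namespace Based

variable {d : Data z Q} {F : Frame z Q} (hF : Based d F)
include hF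

theorem perm_cube {x : G} (hx : Commute x z) :
    F.perm d (x * x * x) = F.perm d x * F.perm d x * F.perm d x := by
  rw [F.perm_mul d (hx.mul_left hx) hx, F.perm_mul d hx hx]

/-- Cubes of elements of `O²(G)` commuting with `z` lie in `T`. -/
theorem cube_mem_T (hf : Fused z) {x : G} (hx : x ∈ Cfsg.pResidual 2 G) (hxz : Commute x z) :
    x * x * x ∈ F.T d hF := by
  set K := centralizer ({z} : Set G) ⊓ Cfsg.pResidual 2 G with hK
  have hTK : F.T d hF ≤ K := le_inf hF.T_le_centralizer (hF.T_le_res hf)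
  haveI : ((F.T d hF).subgroupOf K).Normal := ⟨fun t ht g => mem_subgroupOf.mpr
    (hF.T_conj_mem (mem_cz.mp (mem_inf.mp g.2).1) (mem_subgroupOf.mp ht))⟩
  have hi : Nat.card (↥K ⧸ (F.T d hF).subgroupOf K) = 3 := by
    have h := ((F.T d hF).subgroupOf K).card_mul_index
    rw [Nat.card_congr (subgroupOfEquivOfLe hTK).toEquiv, hF.card_T, (hF.residual_facts hf).2.1,
      index_eq_card] at h
    omega
  have h := pow_card_eq_one' (x := (QuotientGroup.mk ⟨x, mem_inf.mpr ⟨mem_cz.mpr hxz, hx⟩⟩ :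
    ↥K ⧸ (F.T d hF).subgroupOf K))
  rw [hi, ← QuotientGroup.mk_pow, QuotientGroup.eq_one_iff, mem_subgroupOf] at h
  simpa [pow_succ, pow_two] using h

/-- Elements of `O²(G)` commuting with `z`. -/
theorem res_facts (hf : Fused z) {x : G} (hx : x ∈ Cfsg.pResidual 2 G) (hxz : Commute x z) :
    Commute x (F.pv 4) ∧ (InV (F.perm d x) ∨ F.perm d x * F.perm d x * F.perm d x = 1) := by
  obtain ⟨-, hy, hV⟩ := hF.cube_mem_T hf hx hxz
  rw [hF.perm_cube hxz] at hV
  refine ⟨?_, (by decide +kernel : ∀ π : Equiv.Perm (Fin 5), π 4 = 4 → InV (π * π * π) →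
    InV π ∨ π * π * π = 1) _ (hF x hxz) hV⟩
  rcases hF.conj_y hxz with h | h
  · exact mul_inv_eq_iff_eq_mul.mp h
  · exfalso
    have h2 : x * (x * F.pv 4 * x⁻¹) * x⁻¹ = F.pv 4 := by
      rw [h]
      calc x * (F.pv 4 * z) * x⁻¹ = (x * F.pv 4 * x⁻¹) * (x * z * x⁻¹) := by group
        _ = F.pv 4 * z * z := by rw [h, hxz.eq, mul_inv_cancel_right]
        _ = _ := by rw [mul_assoc, d.hub.sq, mul_one]
    have h3 : x * x * x * F.pv 4 * (x * x * x)⁻¹ = F.pv 4 * z := by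
      calc x * x * x * F.pv 4 * (x * x * x)⁻¹ = x * (x * (x * F.pv 4 * x⁻¹) * x⁻¹) * x⁻¹ := by group
        _ = _ := by rw [h2, h]
    rw [hy.eq, mul_inv_cancel_right] at h3
    exact d.hub.ne_one (left_eq_mul.mp h3)

theorem mem_T_of_inV (hf : Fused z) {x : G} (hx : x ∈ Cfsg.pResidual 2 G) (hxz : Commute x z)
    (hV : InV (F.perm d x)) : x ∈ F.T d hF :=
  ⟨hxz, (hF.res_facts hf hx hxz).1, hV⟩

theorem mem_T_of_sq (hf : Fused z) {x : G} (hx : x ∈ Cfsg.pResidual 2 G) (hxz : Commute x z)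
    (h2 : x * x = 1) : x ∈ F.T d hF := by
  have h3 := hF.cube_mem_T hf hx hxz
  rwa [h2, one_mul] at h3

theorem cube_commute_y {ρ : G} (hρ : ρ * ρ * ρ = 1) (hρz : Commute ρ z) (hf : Fused z) :
    Commute ρ (F.pv 4) :=
  (hF.res_facts hf (mem_res_of_cube hρ) hρz).1

/-- Elements of `O²(G)` commuting with `z` and an element of order three. -/
theorem inY_mul_of_commute (hf : Fused z) {ρ : G} (hρ : ρ * ρ * ρ = 1) (h1 : ρ ≠ 1) (hρz : Commute ρ z)
    {x : G} (hx : x ∈ Cfsg.pResidual 2 G) (hxz : Commute x z) (hxρ : Commute x ρ) :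
    ∃ r, (r = 1 ∨ r = ρ ∨ r = ρ * ρ) ∧ F.InY (x * r⁻¹) := by
  have hρy := hF.cube_commute_y hρ hρz hf
  obtain ⟨hxy, hV⟩ := hF.res_facts hf hx hxz
  obtain ⟨ρ₀, hρ₀, hρ₀z, hρ₀y, hρ₀p⟩ := hF.exists_rho (σ := cyc) (by decide +kernel) (by decide +kernel)
  obtain ⟨k, hkz, hky, hk⟩ := hF.exists_conj_rho hρ₀ hρ₀z hρ₀y hρ₀p hρ h1 hρz hρy
  set x' := k * x * k⁻¹ with hx'
  have hx'z : Commute x' z := (hkz.mul_left hxz).mul_left hkz.inv_left
  have hx'y : Commute x' (F.pv 4) := (hky.mul_left hxy).mul_left hky.inv_left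
  have hx'ρ : Commute x' ρ₀ := hk ▸ hxρ.map (MulAut.conj k).toMonoidHom
  have hpe : F.perm d x' * cyc = cyc * F.perm d x' := by
    rw [← hρ₀p, ← F.perm_mul d hx'z hρ₀z, ← F.perm_mul d hρ₀z hx'z, hx'ρ.eq]
  obtain ⟨r, hr, hr', hrp⟩ : ∃ r, (r = 1 ∨ r = ρ ∨ r = ρ * ρ) ∧ Commute (k * r * k⁻¹) ρ₀ ∧
      F.perm d (k * r * k⁻¹) = F.perm d x' := by
    have hρ2 : k * (ρ * ρ) * k⁻¹ = ρ₀ * ρ₀ := by rw [← hk]; group
    rcases (by decide +kernel : ∀ π : Equiv.Perm (Fin 5), π 4 = 4 → π * cyc = cyc * π →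
      π = 1 ∨ π = cyc ∨ π = cyc * cyc) _ (hF x' hx'z) hpe with h | h | h
    · exact ⟨1, Or.inl rfl, by simp, by rw [h, mul_one, mul_inv_cancel, F.perm_one d]⟩
    · exact ⟨ρ, Or.inr (Or.inl rfl), by rw [hk], by rw [h, hk, hρ₀p]⟩
    · exact ⟨ρ * ρ, Or.inr (Or.inr rfl), by rw [hρ2]; exact (Commute.refl ρ₀).mul_left (Commute.refl ρ₀),
        by rw [h, hρ2, F.perm_mul d hρ₀z hρ₀z, hρ₀p]⟩
  refine ⟨r, hr, ?_⟩
  have hrz : Commute r z := by
    rcases hr with rfl | rfl | rfl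
    exacts [Commute.one_left _, hρz, hρz.mul_left hρz]
  have hry : Commute r (F.pv 4) := by
    rcases hr with rfl | rfl | rfl
    exacts [Commute.one_left _, hρy, hρy.mul_left hρy]
  have hkrz : Commute (k * r * k⁻¹) z := (hkz.mul_left hrz).mul_left hkz.inv_left
  have hq : F.InY (x' * (k * r * k⁻¹)⁻¹) := hF.inY_of_commute_rho hρ₀ hρ₀z hρ₀p
    (F.mem_of_perm_eq_one d (hx'z.mul_left hkrz.inv_left)
      (by rw [F.perm_mul d hx'z hkrz.inv_left, F.perm_inv d hkrz, hrp, mul_inv_cancel]))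
    (hx'y.mul_left ((hky.mul_left hry).mul_left hky.inv_left).inv_left)
    (hx'ρ.mul_left hr'.inv_left).symm
  have := hF.inY_conj_inv hf (n := k) (by rw [hkz.eq, mul_inv_cancel_right]; exact Or.inr (Or.inl rfl)) hq
  convert this using 1
  rw [hx']; group

/-- Conjugation by the centralizer of a fused point preserves the four-group. -/
theorem inY_of_commute_y (hf : Fused z) {n : G} (hn : Commute n (F.pv 4)) : F.InY (n * z * n⁻¹) := by
  obtain ⟨hy, -⟩ := hF.isConj_y hf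
  obtain ⟨R, hR⟩ := exists_rel (Q := Q) hy
  have dp := hR.data d
  obtain ⟨Fp, hFp⟩ := exists_based dp
  have hiff := fun x => hF.inY_eq (p := F.pv 4) (Or.inl rfl) hR hFp x
  refine (hiff _).mp ?_
  rcases (hiff z).mpr (Or.inr (Or.inl rfl)) with h | h | h | h
  · exact absurd h d.hub.ne_one
  · exact absurd h (F.y_ne_z d).symm
  all_goals
    have hc := hFp.conj_y hn
    rcases hc with hc | hc
  · rw [show n * z * n⁻¹ = n * Fp.pv 4 * n⁻¹ from congrArg (fun t => n * t * n⁻¹) h, hc]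
    exact Or.inr (Or.inr (Or.inl rfl))
  · rw [show n * z * n⁻¹ = n * Fp.pv 4 * n⁻¹ from congrArg (fun t => n * t * n⁻¹) h, hc]
    exact Or.inr (Or.inr (Or.inr rfl))
  · have e : n * z * n⁻¹ = (n * Fp.pv 4 * n⁻¹) * (n * F.pv 4 * n⁻¹) := by
      conv_lhs => rw [show n * z * n⁻¹ = n * (Fp.pv 4 * F.pv 4) * n⁻¹ from congrArg (fun t => n * t * n⁻¹) h]
      group
    rw [e, hc, hn.eq, mul_inv_cancel_right]
    exact Or.inr (Or.inr (Or.inr rfl))
  · have e : n * z * n⁻¹ = (n * Fp.pv 4 * n⁻¹) * (n * F.pv 4 * n⁻¹) := by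
      conv_lhs => rw [show n * z * n⁻¹ = n * (Fp.pv 4 * F.pv 4) * n⁻¹ from congrArg (fun t => n * t * n⁻¹) h]
      group
    rw [e, hc, hn.eq, mul_inv_cancel_right, mul_assoc, dp.hub.sq, mul_one]
    exact Or.inr (Or.inr (Or.inl rfl))

end Based

end Cfsg.Agent.AutL34Recog
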