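import Cfsg.Agent.Lib.AutL34Recog.Rho
import Cfsg.Agent.Lib.Transfer.Thompson

/-!
# The subgroup `O²(G)`

Two transfers show that `O²(G)` has index four.
-/

set_option autoImplicit false
set_option maxHeartbeats 1000000
set_option linter.unusedSectionVars false
set_option synthInstance.maxSize 4096
set_option synthInstance.maxHeartbeats 400000

namespace Cfsg.Agent.AutL34Recog

open Subgroup
open Cfsg.Agent.LargeExtraspecial (Hub mem_conj_iff)
open Cfsg.Agent.SuzType (pw mem_cz)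

variable {G : Type*} [Group G] {z : G} {Q : Subgroup G}

/-- The inverse in the model. -/
def minv (p : M) : M := (p.1, xor p.2 (eps p.1 p.1))

theorem mm_minv : ∀ p : M, mm p (minv p) = m1 := by decide +kernel

theorem mem_res_of_cube {ρ : G} (h : ρ * ρ * ρ = 1) : ρ ∈ Cfsg.pResidual 2 G := by
  refine Transfer.mem_residual_of_coprime (Nat.Coprime.coprime_dvd_left
    (orderOf_dvd_of_pow_eq_one (n := 3) ?_) (by norm_num))
  rw [pow_succ, pow_two]; exact h

theorem comm_mem_res {ρ : G} (h : ρ * ρ * ρ = 1) (x : G) : ρ * x * ρ⁻¹ * x⁻¹ ∈ Cfsg.pResidual 2 G := by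
  haveI := Transfer.pResidual_normal (G := G) 2
  have h1 := mem_res_of_cube h
  rw [show ρ * x * ρ⁻¹ * x⁻¹ = ρ * (x * ρ⁻¹ * x⁻¹) by group]
  exact mul_mem h1 (Subgroup.Normal.conj_mem inferInstance _ (inv_mem h1) x)

variable [Finite G]

theorem Frame.el_minv (F : Frame z Q) (d : Data z Q) (p : M) : (F.el p)⁻¹ = F.el (minv p) :=
  inv_eq_of_mul_eq_one_right (by rw [← F.el_mm d, mm_minv, F.el_one])

/-- Every conjugate of `z` in `C(z)` lies in the four-group. -/
def Small (F : Frame z Q) : Prop := ∀ w, IsConj z w → Commute w z → F.InY w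

namespace Based

variable {d : Data z Q} {F : Frame z Q} (hF : Based d F)
include hF

theorem comm_el {σ : Equiv.Perm (Fin 5)} {ρ : G} (hρz : Commute ρ z) (hρp : F.perm d ρ = σ) (q : M) :
    ρ * F.el q * ρ⁻¹ * (F.el q)⁻¹ = F.el (mm (act σ (F.sgn d ρ) q) (minv q)) := by
  rw [F.el_mm d, ← F.el_minv d, ← hρp, ← F.conj_eq_act d hρz]

theorem rho_act {ρ : G} (hρ : ρ * ρ * ρ = 1) (hρz : Commute ρ z) (hρy : Commute ρ (F.pv 4))
    (hρp : F.perm d ρ = cyc) :
    (∀ p, act cyc (F.sgn d ρ) (act cyc (F.sgn d ρ) (act cyc (F.sgn d ρ) p)) = p) ∧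
      act cyc (F.sgn d ρ) (mv 4) = mv 4 := by
  have hact : ∀ p, F.el (act cyc (F.sgn d ρ) p) = ρ * F.el p * ρ⁻¹ := fun p => by
    rw [F.conj_eq_act d hρz, hρp]
  refine ⟨fun p => F.el_injective d ?_, F.el_injective d ?_⟩
  · rw [hact, hact, hact]
    calc _ = (ρ * ρ * ρ) * F.el p * (ρ * ρ * ρ)⁻¹ := by group
      _ = _ := by rw [hρ]; group
  · rw [hact]; exact (hρy.eq ▸ mul_inv_cancel_right (F.pv 4) ρ :)

theorem z_mem_res : z ∈ Cfsg.pResidual 2 G := by
  obtain ⟨ρ, hρ, hρz, hρy, hρp⟩ := hF.exists_rho (σ := cyc) (by decide +kernel) (by decide +kernel)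
  obtain ⟨h3, h4⟩ := hF.rho_act hρ hρz hρy hρp
  obtain ⟨q, hq⟩ := (by decide +kernel : ∀ c : Fin 4 → Bool, (∀ p, act cyc c (act cyc c (act cyc c p)) = p) →
    act cyc c (mv 4) = mv 4 → ∃ q, mm (mm (act cyc c q) (minv q)) (mm (act cyc c q) (minv q)) = mz) _ h3 h4
  have h := comm_mem_res hρ (F.el q)
  rw [hF.comm_el hρz hρp] at h
  have := mul_mem h h
  rwa [← F.el_mm d, hq, F.el_z] at this

theorem mem_res_of_isConj {w : G} (hc : IsConj z w) : w ∈ Cfsg.pResidual 2 G := by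
  haveI := Transfer.pResidual_normal (G := G) 2
  obtain ⟨g, rfl⟩ := isConj_iff.mp hc
  exact Subgroup.Normal.conj_mem inferInstance _ hF.z_mem_res g

theorem inY_mem_res (hf : Fused z) {x : G} (hx : F.InY x) : x ∈ Cfsg.pResidual 2 G := by
  by_cases h : x = 1
  · exact h ▸ one_mem _
  · exact hF.mem_res_of_isConj (hF.isConj_of_inY hf hx h)

theorem mem_res_of_mem (hf : Fused z) {x : G} (hx : x ∈ Q) (hxy : Commute x (F.pv 4)) :
    x ∈ Cfsg.pResidual 2 G := by
  obtain ⟨p, rfl⟩ := F.el_surjective d hx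
  obtain ⟨ρ, hρ, hρz, hρy, hρp⟩ := hF.exists_rho (σ := cyc) (by decide +kernel) (by decide +kernel)
  obtain ⟨h3, h4⟩ := hF.rho_act hρ hρz hρy hρp
  obtain ⟨q, hq⟩ := (by decide +kernel : ∀ c : Fin 4 → Bool, (∀ p, act cyc c (act cyc c (act cyc c p)) = p) →
    act cyc c (mv 4) = mv 4 → ∀ p : M, mB p.1 (pt 4) = false →
      ∃ q, mm p (minv (mm (act cyc c q) (minv q))) = m1 ∨ mm p (minv (mm (act cyc c q) (minv q))) = mz ∨
        ∃ e, mm p (minv (mm (act cyc c q) (minv q))) = (pt 4, e)) _ h3 h4 p ((F.commute_y_iff d p).mp hxy)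
  have h := comm_mem_res hρ (F.el q)
  rw [hF.comm_el hρz hρp] at h
  have hY : F.InY (F.el (mm p (minv (mm (act cyc (F.sgn d ρ) q) (minv q))))) := by
    rw [F.inY_iff_el d]
    rcases hq with e | e | ⟨e', e⟩ <;> rw [e]
    exacts [Or.inl F.el_one, Or.inr (Or.inl F.el_z), Or.inr (Or.inr ⟨e', rfl⟩)]
  have h2 := mul_mem (hF.inY_mem_res hf hY) h
  rwa [F.el_mm d p, ← F.el_minv d, inv_mul_cancel_right] at h2

theorem T_le_res (hf : Fused z) : F.T d hF ≤ Cfsg.pResidual 2 G := by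
  intro x hx
  obtain ⟨σ, v', hσ4, hσ3, hv'4, hv', hσv⟩ := (by decide +kernel : ∀ π : Equiv.Perm (Fin 5), π 4 = 4 → InV π →
    ∃ σ v' : Equiv.Perm (Fin 5), σ 4 = 4 ∧ σ * σ * σ = 1 ∧ v' 4 = 4 ∧ InV v' ∧ σ * v' * σ⁻¹ * v'⁻¹ = π)
    _ (hF x hx.1) hx.2.2
  obtain ⟨ρ, hρ, hρz, hρy, hρp⟩ := hF.exists_rho hσ4 hσ3
  obtain ⟨t, htz, hty, htp⟩ := hF.exists_fixing hv'4 hv'4 false
  have hty' : Commute t (F.pv 4) := hty
  set c := ρ * t * ρ⁻¹ * t⁻¹ with hc
  have hcr : c ∈ Cfsg.pResidual 2 G := comm_mem_res hρ t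
  have hcz : Commute c z := ((hρz.mul_left htz).mul_left hρz.inv_left).mul_left htz.inv_left
  have hcy : Commute c (F.pv 4) := ((hρy.mul_left hty').mul_left hρy.inv_left).mul_left hty'.inv_left
  have hcp : F.perm d c = F.perm d x := by
    rw [hc, F.perm_mul d ((hρz.mul_left htz).mul_left hρz.inv_left) htz.inv_left, F.perm_conj d hρz htz,
      F.perm_inv d htz, hρp, htp, hσv]
  have hQ : x * c⁻¹ ∈ Q := F.mem_of_perm_eq_one d (hx.1.mul_left hcz.inv_left)
    (by rw [F.perm_mul d hx.1 hcz.inv_left, F.perm_inv d hcz, hcp, mul_inv_cancel])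
  have h := mul_mem (hF.mem_res_of_mem hf hQ (hx.2.1.mul_left hcy.inv_left)) hcr
  rwa [inv_mul_cancel_right] at h

/-- With small fusion, conjugate elements of `C(z)` are conjugate in the normalizer of the four-group. -/
theorem small_fusion (hf : Fused z) (hS : Small F) {t u : G} (ht : Commute t z) (hu : Commute u z)
    (hc : IsConj t u) : ∃ n, F.InY (n * z * n⁻¹) ∧ n * t * n⁻¹ = u := by
  haveI : Fact (Nat.Prime 2) := ⟨Nat.prime_two⟩
  obtain ⟨g, hg⟩ := isConj_iff.mp hc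
  set C := centralizer ({u} : Set G)
  have hzC : z ∈ C := mem_cz.mpr hu.symm
  set w := g * z * g⁻¹
  have hwC : w ∈ C := mem_cz.mpr (by rw [← hg]; exact ht.symm.map (MulAut.conj g).toMonoidHom)
  have two : ∀ {x : G} (hx : x ∈ C), x * x = 1 → IsPGroup 2 (zpowers (⟨x, hx⟩ : C)) := fun {x} hx h2 =>
    IsPGroup.iff_orderOf.mpr fun ⟨y, hy⟩ => by
      obtain ⟨n, hn⟩ := (Nat.dvd_prime_pow Nat.prime_two).mp
        ((orderOf_dvd_of_mem_zpowers hy).trans (orderOf_dvd_of_pow_eq_one (n := 2 ^ 1) (by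
          rw [pow_one, pow_two]; exact Subtype.ext h2)))
      exact ⟨n, by rw [← orderOf_injective (zpowers (⟨x, hx⟩ : C)).subtype Subtype.val_injective]; exact hn.2⟩
  obtain ⟨P, hP⟩ := (two hzC d.hub.sq).exists_le_sylow
  obtain ⟨P', hP'⟩ := (two hwC (SuzType.conj_sq d.hub.sq)).exists_le_sylow
  obtain ⟨c, hc'⟩ := MulAction.exists_smul_eq C P' P
  have hw' : c * ⟨w, hwC⟩ * c⁻¹ ∈ (P : Subgroup C) := by
    rw [← hc']
    exact Subgroup.smul_mem_pointwise_smul _ (MulAut.conj c) _ (hP' (mem_zpowers _))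
  let B : Subgroup P :=
  { carrier := {x | F.InY (((x : C) : G) * z * ((x : C) : G)⁻¹)}
    one_mem' := by
      simp only [Set.mem_ofPred_eq, OneMemClass.coe_one, one_mul, inv_one, mul_one]
      exact Or.inr (Or.inl rfl)
    mul_mem' := fun {a b} ha hb => by
      simp only [Set.mem_ofPred_eq, Subgroup.coe_mul] at ha hb ⊢
      convert hF.inY_conj hf ha hb using 1
      group
    inv_mem' := fun {a} ha => by
      simp only [Set.mem_ofPred_eq, InvMemClass.coe_inv] at ha ⊢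
      simpa using hF.inY_conj_inv hf ha (Or.inr (Or.inl rfl)) }
  -- conjugates of `z` normalizing the four-group lie in it
  have key : ∀ v, IsConj z v → F.InY (v * z * v⁻¹) → F.InY v := by
    intro v hv hvY
    by_cases hvz : Commute v z
    · exact hS v hv hvz
    have hv2 := d.sq_conj hv
    set p := v * z * v⁻¹ with hp
    have hp1 : p ≠ 1 := d.conj_ne_one (isConj_iff.mpr ⟨v, rfl⟩)
    have hpz : p ≠ z := fun e => hvz (mul_inv_eq_iff_eq_mul.mp e)
    have hcomm : Commute p z := d.hub.central _ (hvY.mem F d)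
    have hvp : v * p * v⁻¹ = z := by
      calc v * p * v⁻¹ = (v * v) * z * (v * v)⁻¹ := by rw [hp]; group
        _ = z := by rw [hv2]; group
    have hq : F.InY (z * p) := by
      rcases hvY with h | h | h | h
      · exact absurd h hp1
      · exact absurd h hpz
      · rw [h, (F.y_comm d).eq.symm]; exact Or.inr (Or.inr (Or.inr rfl))
      · rw [h, ← mul_assoc, (F.y_comm d).eq.symm, mul_assoc, d.hub.sq, mul_one]
        exact Or.inr (Or.inr (Or.inl rfl))
    have hq1 : z * p ≠ 1 := fun e => hpz ((eq_inv_of_mul_eq_one_right e).trans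
      (inv_eq_of_mul_eq_one_right d.hub.sq))
    have hvq : Commute v (z * p) := mul_inv_eq_iff_eq_mul.mp (by
      calc v * (z * p) * v⁻¹ = (v * z * v⁻¹) * (v * p * v⁻¹) := by group
        _ = z * p := by rw [← hp, hvp, hcomm.eq])
    obtain ⟨n, hn⟩ := isConj_iff.mp (hF.isConj_of_inY hf hq hq1)
    have hnY : F.InY (n * z * n⁻¹) := hn ▸ hq
    have h1 : Commute (n⁻¹ * v * n) z := by
      have := hvq.map (MulAut.conj n⁻¹).toMonoidHom
      rw [← hn] at this
      simpa [mul_assoc] using this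
    have := hF.inY_conj hf hnY (hS _ (hv.trans (isConj_iff.mpr ⟨n⁻¹, by group⟩)) h1)
    convert this using 1
    group
  haveI : Group.IsNilpotent P := P.isPGroup'.isNilpotent
  have hle : normalizer (B : Set P) ≤ B := by
    intro n hn
    have h1 : (⟨⟨z, hzC⟩, hP (mem_zpowers _)⟩ : P) ∈ B := by
      show F.InY (z * z * z⁻¹)
      rw [mul_inv_cancel_right]; exact Or.inr (Or.inl rfl)
    have h2 : F.InY (((n : C) : G) * z * ((n : C) : G)⁻¹ * z * (((n : C) : G) * z * ((n : C) : G)⁻¹)⁻¹) :=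
      (mem_normalizer_iff.mp hn _).mp h1
    exact key _ (isConj_iff.mpr ⟨((n : C) : G), rfl⟩) h2
  have htop : B = ⊤ := by
    by_contra h
    exact (Group.normalizerCondition_of_isNilpotent (G := P) B (lt_top_iff_ne_top.mpr h)).not_ge hle
  have hmem : (⟨c * ⟨w, hwC⟩ * c⁻¹, hw'⟩ : P) ∈ B := htop ▸ mem_top _
  have hwY : F.InY ((c : G) * w * (c : G)⁻¹) :=
    key _ ((isConj_iff.mpr ⟨g, rfl⟩ : IsConj z w).trans (isConj_iff.mpr ⟨(c : G), rfl⟩)) hmem
  refine ⟨(c : G) * g, by convert hwY using 1; simp only [w]; group, ?_⟩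
  have hcu : Commute (c : G) u := mem_cz.mp c.2
  calc (c : G) * g * t * ((c : G) * g)⁻¹ = (c : G) * (g * t * g⁻¹) * (c : G)⁻¹ := by group
    _ = u := by rw [hg, hcu.eq, mul_inv_cancel_right]

/-- A Sylow `2`-subgroup inside the centralizer of `z`. -/
theorem exists_sylow {t : G} (htz : Commute t z) (ht : t * t = 1) :
    ∃ P : Sylow 2 G, (∀ x ∈ (P : Subgroup G), Commute x z) ∧ Q ≤ (P : Subgroup G) ∧
      F.T d hF ≤ (P : Subgroup G) ∧ t ∈ (P : Subgroup G) ∧ Nat.card (P : Subgroup G) = 256 := by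
  haveI : Fact (Nat.Prime 2) := ⟨Nat.prime_two⟩
  set C := centralizer ({z} : Set G) with hC
  have pgrp : ∀ {K : Subgroup G} {k : ℕ}, K ≤ C → Nat.card K = 2 ^ k → IsPGroup 2 (K.subgroupOf C) :=
    fun {K k} hK hk => IsPGroup.of_card (n := k) (by rw [Nat.card_congr (subgroupOfEquivOfLe hK).toEquiv, hk])
  haveI hQn : (Q.subgroupOf C).Normal := ⟨fun x hx g => mem_subgroupOf.mpr
    (d.hub.normalizes g (mem_cz.mp g.2) x (mem_subgroupOf.mp hx))⟩
  haveI hTn : ((F.T d hF).subgroupOf C).Normal := ⟨fun x hx g => mem_subgroupOf.mpr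
    (hF.T_conj_mem (mem_cz.mp g.2) (mem_subgroupOf.mp hx))⟩
  have hz1 : IsPGroup 2 (zpowers (⟨t, mem_cz.mpr htz⟩ : C)) :=
    IsPGroup.iff_orderOf.mpr fun ⟨y, hy⟩ => by
      obtain ⟨n, hn⟩ := (Nat.dvd_prime_pow Nat.prime_two).mp
        ((orderOf_dvd_of_mem_zpowers hy).trans (orderOf_dvd_of_pow_eq_one (n := 2 ^ 1) (by
          rw [pow_one, pow_two]; exact Subtype.ext ht)))
      exact ⟨n, by rw [← orderOf_injective (zpowers (⟨t, mem_cz.mpr htz⟩ : C)).subtype
        Subtype.val_injective]; exact hn.2⟩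
  obtain ⟨S, hS⟩ := hz1.exists_le_sylow
  have hQS : Q.subgroupOf C ≤ S := (pgrp (k := 5) d.le d.cardQ).le_sylow_of_normal S
  have hTS : (F.T d hF).subgroupOf C ≤ S :=
    (pgrp (k := 6) hF.T_le_centralizer hF.card_T).le_sylow_of_normal S
  obtain ⟨P, hP⟩ := (S.isPGroup'.map C.subtype).exists_le_sylow
  have hQP : Q ≤ P := fun x hx => hP ⟨⟨x, d.le hx⟩, hQS (mem_subgroupOf.mpr hx), rfl⟩
  haveI : Group.IsNilpotent P := P.isPGroup'.isNilpotent
  have hle : normalizer (C.subgroupOf (P : Subgroup G) : Set P) ≤ C.subgroupOf (P : Subgroup G) := by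
    intro n hn
    have hzP : z ∈ (P : Subgroup G) := hQP d.hub.mem
    have h2 : ∀ q ∈ Q, Commute ((n : G) * z * (n : G)⁻¹) q := by
      intro q hq
      have hqC : (n : G)⁻¹ * q * (n : G) ∈ C := by
        have h := (mem_normalizer_iff.mp hn (n⁻¹ * ⟨q, hQP hq⟩ * n)).mpr
          (by rw [show n * (n⁻¹ * (⟨q, hQP hq⟩ : P) * n) * n⁻¹ = ⟨q, hQP hq⟩ by group]
              exact mem_subgroupOf.mpr (d.le hq))
        exact mem_subgroupOf.mp h
      have := (mem_cz.mp hqC).symm.map (MulAut.conj (n : G)).toMonoidHom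
      simpa [mul_assoc] using this
    rcases d.hub.self _ h2 with e | e
    · exact absurd (conj_eq_one_iff.mp e) d.hub.ne_one
    · exact mem_subgroupOf.mpr (mem_cz.mpr (mul_inv_eq_iff_eq_mul.mp e))
  have htop : C.subgroupOf (P : Subgroup G) = ⊤ := by
    by_contra h
    exact (Group.normalizerCondition_of_isNilpotent (G := P) _ (lt_top_iff_ne_top.mpr h)).not_ge hle
  have hPC : (P : Subgroup G) ≤ C := subgroupOf_eq_top.mp htop
  refine ⟨P, fun x hx => mem_cz.mp (hPC hx), hQP,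
    fun x hx => hP ⟨⟨x, hF.T_le_centralizer hx⟩, hTS (mem_subgroupOf.mpr hx), rfl⟩,
    hP ⟨⟨t, mem_cz.mpr htz⟩, hS (mem_zpowers _), rfl⟩, ?_⟩
  have hSP : (P : Subgroup G).subgroupOf C = S :=
    S.is_maximal' (P.isPGroup'.comap_subtype (K := C)) (fun x hx => mem_subgroupOf.mpr (hP ⟨x, hx, rfl⟩))
  rw [← Nat.card_congr (subgroupOfEquivOfLe hPC).toEquiv, hSP]
  obtain ⟨k, hk⟩ := S.2.exists_card_eq
  have hm := (S : Subgroup C).card_mul_index
  have hc : Nat.card C = 768 := d.cardC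
  rw [hk, hc] at hm
  have hodd : ¬ 2 ∣ (S : Subgroup C).index := S.not_dvd_index
  rw [hk]
  rcases Nat.lt_or_ge k 10 with h | h
  · interval_cases k <;> simp only [Nat.pow_zero, Nat.reducePow] at hm ⊢ <;> omega
  · exfalso
    have h1 : 2 ^ 10 ∣ 768 := (pow_dvd_pow 2 h).trans (hm ▸ dvd_mul_right _ _)
    norm_num at h1

theorem inY_or_dbl_of_mem_T {u : G} (hu : u ∈ F.T d hF) (hu2 : u * u = 1) :
    F.InY u ∨ (u ∉ Q ∧ IsDbl (F.perm d u)) := by
  by_cases hQ : u ∈ Q
  · exact Or.inl (F.inY_of_sq d hQ hu2 hu.2.1)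
  · exact Or.inr ⟨hQ, hu.2.2.2.resolve_left fun e => hQ (F.mem_of_perm_eq_one d hu.1 e)⟩

/-- The facts about `O²(G)`. -/
theorem residual_facts (hf : Fused z) :
    (Cfsg.pResidual 2 G).index = 4 ∧
      Nat.card (centralizer ({z} : Set G) ⊓ Cfsg.pResidual 2 G : Subgroup G) = 192 ∧
      ∀ i e, i ≠ 4 → F.el (pt i, e) ∉ Cfsg.pResidual 2 G := by
  haveI : Fact (Nat.Prime 2) := ⟨Nat.prime_two⟩
  haveI hN := Transfer.pResidual_normal (G := G) 2
  obtain ⟨ρ, hρ, hρz, hρy, hρp⟩ := hF.exists_rho (σ := cyc) (by decide +kernel) (by decide +kernel)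
  obtain ⟨t₀, ht₀z, ht₀y, ht₀2, -, ht₀3, ht₀V⟩ := hF.exists_inverting hf hρ hρz hρy hρp
  obtain ⟨P₀, hP₀C, hP₀Q, hP₀T, -, -⟩ := hF.exists_sylow (t := 1) (Commute.one_left z) (one_mul 1)
  set a := F.el (pt 0, false) with ha
  have haz : Commute a z := hF.el_pt_commute 0 false
  have hay : ∀ (x : G), x * F.pv 4 * x⁻¹ = F.pv 4 * z → Commute x z → Commute (x * a) (F.pv 4) := by
    intro x hx hxz
    refine mul_inv_eq_iff_eq_mul.mp ?_
    have e : a * F.pv 4 * a⁻¹ = F.pv 4 * z := by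
      rw [ha, show F.pv 4 = F.el (pt 4, false) from rfl, F.conj_el d,
        (by decide +kernel : shift (pt 0) (pt 4, false) = mm (pt 4, false) mz), F.el_mm d, F.el_z]
    calc x * a * F.pv 4 * (x * a)⁻¹ = x * (a * F.pv 4 * a⁻¹) * x⁻¹ := by group
      _ = (x * F.pv 4 * x⁻¹) * (x * z * x⁻¹) := by rw [e]; group
      _ = F.pv 4 * z * z := by rw [hx, hxz.eq, mul_inv_cancel_right]
      _ = _ := by rw [mul_assoc, d.hub.sq, mul_one]
  have hnay : ∀ i e, i ≠ 4 → ¬ Commute (F.el (pt i, e)) (F.pv 4) := by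
    intro i e hi h
    have h0 := (F.commute_y_iff d _).mp h
    rw [mB_pt] at h0
    simp [hi] at h0
  -- first transfer
  obtain ⟨M, hMn, hM2, haM⟩ := Transfer.exists_index_two_of_involution P₀
    ((P₀ : Subgroup G) ⊓ centralizer ({F.pv 4} : Set G)) inf_le_left
    (by
      rw [relIndex_eq_two_iff]
      refine ⟨a, hP₀Q (F.el_mem d _), fun b hb => ?_⟩
      rcases hF.conj_y (hP₀C b hb) with h | h
      · refine Or.inr ⟨mem_inf.mpr ⟨hb, mem_cz.mpr (mul_inv_eq_iff_eq_mul.mp h)⟩, fun hba => hnay 0 false (by decide) ?_⟩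
        have hb' : Commute b (F.pv 4) := mul_inv_eq_iff_eq_mul.mp h
        have := hb'.inv_left.mul_left (mem_cz.mp (mem_inf.mp hba).2)
        rwa [inv_mul_cancel_left] at this
      · refine Or.inl ⟨mem_inf.mpr ⟨mul_mem hb (hP₀Q (F.el_mem d _)), mem_cz.mpr (hay b h (hP₀C b hb))⟩,
          fun hb' => F.y_ne_z d ?_⟩
        rw [(mem_cz.mp (mem_inf.mp hb').2).eq, mul_inv_cancel_right] at h
        exact absurd (left_eq_mul.mp h) d.hub.ne_one)
    a (by rw [pow_two]; exact hF.el_pt_sq 0 false) (hP₀Q (F.el_mem d _))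
    (fun h => hnay 0 false (by decide) (mem_cz.mp (mem_inf.mp h).2))
    (fun g hg => by
      obtain ⟨hg1, hg2⟩ := mem_inf.mp hg
      obtain ⟨j, e, hj, hje⟩ := hF.exists_eq_of_isConj_pt hf (i := 0) (by decide) false
        (isConj_iff.mpr ⟨g, rfl⟩) (hP₀C _ hg1)
      exact hnay j e hj (by rw [hje]; exact mem_cz.mp hg2))
  have hres : ∀ {K : Subgroup G}, K.Normal → K.index = 2 → Cfsg.pResidual 2 G ≤ K := fun {K} hK h2 => by
    haveI := hK
    exact Transfer.pResidual_le_of_isPGroup_quotient K (IsPGroup.of_card (n := 1) (by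
      rw [← Subgroup.index_eq_card, h2, pow_one]))
  have hGM := hres hMn hM2
  have hmovedM : ∀ i e, i ≠ 4 → F.el (pt i, e) ∉ M := by
    intro i e hi h
    obtain ⟨g, -, hg⟩ := hF.exists_conj_moved hi (by decide : (0 : Fin 5) ≠ 4) e false
    exact haM (ha ▸ hg ▸ hMn.conj_mem _ h g)
  -- an involution of `M` outside `T`
  obtain ⟨t, htz, ht2, htM, htV⟩ : ∃ t, Commute t z ∧ t * t = 1 ∧ t ∈ M ∧ ¬ InV (F.perm d t) := by
    by_cases h : t₀ ∈ M
    · exact ⟨t₀, ht₀z, ht₀2, h, ht₀V⟩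
    set b := F.el (pt 3, false) with hb
    have hbz : Commute b z := hF.el_pt_commute 3 false
    set u := t₀ * b
    have hu : u ∈ M := (mul_mem_iff_of_index_two hM2).mpr (iff_of_false h (hmovedM 3 false (by decide)))
    have huV : ¬ InV (F.perm d u) := by rwa [F.perm_mul d ht₀z hbz, F.perm_el d, mul_one]
    obtain ⟨e, he⟩ := F.conj_point d ht₀z 3 false
    rw [ht₀3, inv_eq_of_mul_eq_one_right ht₀2] at he
    have huu : u * u = F.el (pt 3, e) * b := by rw [← he]; simp only [u, ← hb]; group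
    cases e
    · exact ⟨u, ht₀z.mul_left hbz, by rw [huu, ← hb, hF.el_pt_sq], hu, huV⟩
    have hzz : u * u = z := by
      rw [huu, hb, ← F.el_mm d, (by decide +kernel : mm (pt 3, true) (pt 3, false) = mz), F.el_z]
    refine ⟨u * F.pv 4, (ht₀z.mul_left hbz).mul_left (F.y_comm d), ?_,
      mul_mem hu (hGM (hF.inY_mem_res hf (Or.inr (Or.inr (Or.inl rfl))))), ?_⟩
    · have hby : b⁻¹ * F.pv 4 * b = F.pv 4 * z := by
        rw [inv_eq_of_mul_eq_one_right (hF.el_pt_sq 3 false), hb, show F.pv 4 = F.el (pt 4, false) from rfl,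
          ← F.el_mm d, ← F.el_mm d, ← F.el_zmul d]
        congr 1
      have huy : u⁻¹ * F.pv 4 * u = F.pv 4 * z := by
        calc u⁻¹ * F.pv 4 * u = b⁻¹ * (t₀⁻¹ * F.pv 4 * t₀) * b := by simp only [u]; group
          _ = _ := by rw [mul_assoc t₀⁻¹, ← ht₀y.eq, inv_mul_cancel_left, hby]
      calc u * F.pv 4 * (u * F.pv 4) = u * u * (u⁻¹ * F.pv 4 * u) * F.pv 4 := by group
        _ = z * (F.pv 4 * z * F.pv 4) := by rw [hzz, huy]; group
        _ = z * (z * (F.pv 4 * F.pv 4)) := by rw [(F.y_comm d).eq, mul_assoc z]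
        _ = 1 := by rw [F.pv_sq d, mul_one, d.hub.sq]
    · rwa [F.perm_mul d (ht₀z.mul_left hbz) (F.y_comm d), show F.pv 4 = F.el (mv 4) from rfl, F.perm_el d,
        mul_one]
  obtain ⟨P, hPC, hPQ, hPT, htP, -⟩ := hF.exists_sylow htz ht2
  let V : Subgroup G :=
  { carrier := {x | Commute x z ∧ InV (F.perm d x)}
    one_mem' := ⟨Commute.one_left z, by rw [F.perm_one d]; decide +kernel⟩
    mul_mem' := fun {x y} hx hy => ⟨hx.1.mul_left hy.1, by
      rw [F.perm_mul d hx.1 hy.1]; exact inV_mul _ _ (hF x hx.1) (hF y hy.1) hx.2 hy.2⟩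
    inv_mem' := fun {x} hx => ⟨hx.1.inv_left, by
      rw [F.perm_inv d hx.1, inV_inv _ hx.2]; exact hx.2⟩ }
  have he8P : ∀ x ∈ (P : Subgroup G), e8 (F.perm d x) = 1 := by
    intro x hx
    obtain ⟨k, hk⟩ := P.isPGroup' ⟨x, hx⟩
    have h : (F.perm d x) ^ 2 ^ k = 1 := by
      have h1 : (⟨x, mem_cz.mpr (hPC x hx)⟩ : centralizer ({z} : Set G)) ^ 2 ^ k = 1 :=
        Subtype.ext (by simpa using congrArg Subtype.val hk)
      have h2 := congrArg (F.permHom d) h1
      rw [map_pow, map_one] at h2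
      exact h2
    obtain ⟨j, -, hj⟩ := (Nat.dvd_prime_pow Nat.prime_two).mp (orderOf_dvd_of_pow_eq_one h)
    have h24 : orderOf (F.perm d x) ∣ 120 := by
      have := orderOf_dvd_natCard (F.perm d x)
      rwa [Nat.card_eq_fintype_card, show Fintype.card (Equiv.Perm (Fin 5)) = 120 by decide +kernel] at this
    have h8 : F.perm d x ^ 8 = 1 := by
      refine orderOf_dvd_iff_pow_eq_one.mp (hj ▸ ?_)
      rcases Nat.lt_or_ge j 4 with hlt | hge
      · exact pow_dvd_pow 2 (Nat.le_of_lt_succ hlt)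
      · exact absurd ((pow_dvd_pow 2 hge).trans (hj ▸ h24)) (by norm_num)
    rw [← h8]; simp only [e8, pow_succ, pow_zero, one_mul]; group
  have htV2 : F.perm d t * F.perm d t = 1 := (hF.act_invol htz ht2).1
  obtain ⟨M', hM'n, hM'2, htM'⟩ := Transfer.exists_index_two_of_involution P ((P : Subgroup G) ⊓ V) inf_le_left
    (by
      rw [relIndex_eq_two_iff]
      refine ⟨t, htP, fun b hb => ?_⟩
      have hbt := he8P _ (mul_mem hb htP)
      rw [F.perm_mul d (hPC b hb) htz] at hbt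
      have hkey := (by decide +kernel : ∀ τ : Equiv.Perm (Fin 5), τ 4 = 4 → τ * τ = 1 → ¬ InV τ →
        ∀ π : Equiv.Perm (Fin 5), π 4 = 4 → e8 π = 1 → e8 (π * τ) = 1 → e8 (π * τ * π⁻¹ * τ) = 1 →
        ((InV π → ¬ InV (π * τ)) ∧ (¬ InV π → InV (π * τ)))) (F.perm d t) (hF t htz) htV2 htV
        (F.perm d b) (hF b (hPC b hb)) (he8P b hb) hbt (by
          have := he8P _ (mul_mem (mul_mem (mul_mem hb htP) (inv_mem hb)) htP)
          rwa [F.perm_mul d (((hPC b hb).mul_left htz).mul_left (hPC b hb).inv_left) htz,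
            F.perm_conj d (hPC b hb) htz] at this)
      by_cases hV : InV (F.perm d b)
      · refine Or.inr ⟨mem_inf.mpr ⟨hb, hPC b hb, hV⟩, fun h => hkey.1 hV ?_⟩
        rw [← F.perm_mul d (hPC b hb) htz]; exact (mem_inf.mp h).2.2
      · refine Or.inl ⟨mem_inf.mpr ⟨mul_mem hb htP, (hPC b hb).mul_left htz, ?_⟩, fun h => hV (mem_inf.mp h).2.2⟩
        rw [F.perm_mul d (hPC b hb) htz]; exact hkey.2 hV)
    t (by rw [pow_two]; exact ht2) htP (fun h => htV (mem_inf.mp h).2.2)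
    (fun g hg => by
      set u := g * t * g⁻¹ with hu
      obtain ⟨-, huz, huV⟩ := mem_inf.mp hg
      have htu : IsConj t u := isConj_iff.mpr ⟨g, rfl⟩
      have huM : u ∈ M := hMn.conj_mem t htM g
      have huT : u ∈ F.T d hF := by
        rcases hF.conj_y huz with h | h
        · exact ⟨huz, mul_inv_eq_iff_eq_mul.mp h, huV⟩
        · exfalso
          have hua : u * a ∈ F.T d hF := ⟨huz.mul_left haz, hay u h huz, by
            rw [F.perm_mul d huz haz, F.perm_el d, mul_one]; exact huV⟩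
          exact haM (((mul_mem_iff_of_index_two hM2).mp (hGM (hF.T_le_res hf hua))).mp huM)
      have hu2 : u * u = 1 := SuzType.conj_sq ht2
      have hfinal : ¬ IsConj z u := fun h => htV (hF.mem_T_of_isConj (h.trans htu.symm) htz).2.2
      rcases hF.inY_or_dbl_of_mem_T huT hu2 with hY | ⟨huQ, hud⟩
      · by_cases h1 : u = 1
        · exact htV (by rw [conj_eq_one_iff.mp h1, F.perm_one d]; decide +kernel)
        · exact hfinal (hF.isConj_of_inY hf hY h1)
      · by_cases hS : Small F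
        · obtain ⟨n, hn, hnt⟩ := hF.small_fusion hf hS htz huz htu
          have hn' : F.InY (n⁻¹ * z * n⁻¹⁻¹) := by
            rw [inv_inv]; exact hF.inY_conj_inv hf hn (Or.inr (Or.inl rfl))
          have h1 := hF.T_conj_normalizer hf hn' huT
          rw [← hnt, show n⁻¹ * (n * t * n⁻¹) * n⁻¹⁻¹ = t by group] at h1
          exact htV h1.2.2
        · simp only [Small, not_forall] at hS
          obtain ⟨w, hw, hwz, hwY⟩ := hS
          obtain ⟨hwQ, hwd⟩ := (hF.cases_of_isConj hw hwz).resolve_left hwY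
          obtain ⟨k, -, hk⟩ := hF.isConj_outer hwz (d.sq_conj hw) hwQ hwd huz hu2 huQ hud
          exact hfinal (hw.trans (isConj_iff.mpr ⟨k, hk⟩)))
  have hGM' := hres hM'n hM'2
  have hmoved : ∀ i e, i ≠ 4 → F.el (pt i, e) ∉ Cfsg.pResidual 2 G := fun i e hi h => hmovedM i e hi (hGM h)
  -- count
  set N := Cfsg.pResidual 2 G
  set C := centralizer ({z} : Set G) with hC
  obtain ⟨k, hk⟩ := Transfer.index_pResidual_eq_pow (G := G) 2
  let φ : (P : Subgroup G) →* G ⧸ N := (QuotientGroup.mk' N).comp (P : Subgroup G).subtype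
  let ψ : C →* G ⧸ N := (QuotientGroup.mk' N).comp C.subtype
  have hφ : φ.range = ⊤ := by
    have hd : φ.range.index ∣ 2 ^ k := hk ▸ (Subgroup.index_eq_card N ▸ φ.range.index_dvd_card)
    obtain ⟨j, -, hj⟩ := (Nat.dvd_prime_pow Nat.prime_two).mp hd
    have hd' : φ.range.index ∣ (P : Subgroup G).index := by
      have : φ.range = (P : Subgroup G).map (QuotientGroup.mk' N) := by
        rw [MonoidHom.range_comp, range_subtype]
      rw [this]
      exact index_map_dvd _ (QuotientGroup.mk'_surjective N)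
    rcases Nat.eq_zero_or_pos j with h0 | h0
    · exact index_eq_one.mp (by rw [hj, h0, pow_zero])
    · exact absurd (dvd_trans (dvd_pow_self 2 h0.ne') (hj ▸ hd')) P.not_dvd_index
  have hψ : ψ.range = ⊤ := top_le_iff.mp (hφ ▸ fun x ⟨p, hp⟩ => ⟨⟨p, mem_cz.mpr (hPC _ p.2)⟩, hp⟩)
  have hcardN : Nat.card (G ⧸ N) = N.index := (Subgroup.index_eq_card N).symm
  have h4 : N.index ∣ 4 := by
    have h1 : φ.ker.index = N.index := by
      rw [index_ker, hφ, ← hcardN, card_top]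
    have h2 : (F.T d hF).subgroupOf (P : Subgroup G) ≤ φ.ker := fun x hx =>
      (QuotientGroup.eq_one_iff _).mpr (hF.T_le_res hf (mem_subgroupOf.mp hx))
    have h3 := index_dvd_of_le h2
    rw [h1] at h3
    have h5 := ((F.T d hF).subgroupOf (P : Subgroup G)).card_mul_index
    obtain ⟨P', hP'C, -, -, -, hP'256⟩ := hF.exists_sylow (t := 1) (Commute.one_left z) (one_mul 1)
    rw [Nat.card_congr (subgroupOfEquivOfLe hPT).toEquiv, hF.card_T, P.card_eq_multiplicity,
      ← P'.card_eq_multiplicity, hP'256] at h5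
    have : ((F.T d hF).subgroupOf (P : Subgroup G)).index = 4 := by omega
    rwa [this] at h3
  have hidx : N.index = 4 := by
    have h3 : 3 ≤ Nat.card (G ⧸ N) := by
      have hne1 : (QuotientGroup.mk a : G ⧸ N) ≠ 1 := fun e =>
        hmoved 0 false (by decide) ((QuotientGroup.eq_one_iff _).mp e)
      have hne2 : (QuotientGroup.mk t : G ⧸ N) ≠ 1 := fun e => htM' (hGM' ((QuotientGroup.eq_one_iff _).mp e))
      have hne3 : (QuotientGroup.mk a : G ⧸ N) ≠ QuotientGroup.mk t := fun e => by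
        have h := hGM (QuotientGroup.eq.mp e)
        exact haM (inv_mem_iff.mp (((mul_mem_iff_of_index_two hM2).mp h).mpr htM))
      classical
      haveI : Fintype (G ⧸ N) := Fintype.ofFinite _
      rw [Nat.card_eq_fintype_card, ← Finset.card_univ]
      calc 3 = ({1, QuotientGroup.mk a, QuotientGroup.mk t} : Finset (G ⧸ N)).card := by
            rw [Finset.card_insert_of_notMem (by simp [hne1.symm, hne2.symm]),
              Finset.card_insert_of_notMem (by simp [hne3]), Finset.card_singleton]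
        _ ≤ _ := Finset.card_le_univ _
    rw [hcardN] at h3
    have := Nat.le_of_dvd (by norm_num) h4
    interval_cases hn : N.index
    · norm_num at h4
    · rfl
  refine ⟨hidx, ?_, hmoved⟩
  have h1 := ψ.ker.card_mul_index
  have hc : Nat.card C = 768 := d.cardC
  rw [index_ker, hψ, card_top, hcardN, hidx, hc] at h1
  have h2 : ψ.ker = N.subgroupOf C := Subgroup.ext fun x => QuotientGroup.eq_one_iff _
  rw [h2, ← inf_subgroupOf_left, Nat.card_congr (subgroupOfEquivOfLe inf_le_left).toEquiv] at h1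
  omega

end Based

end Cfsg.Agent.AutL34Recog
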