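import Cfsg.Agent.Lib.AutL34Recog.AClass

/-!
# The normalizer of the four-group and elements of order three

`T` is normal in the normalizer of the four-group, and the centralizer of the four-group has an
involution outside `T` inverting an element of order three.
-/

set_option autoImplicit false
set_option maxHeartbeats 1000000
set_option linter.unusedSectionVars false
set_option synthInstance.maxSize 4096
set_option synthInstance.maxHeartbeats 400000

namespace Cfsg.Agent.AutL34Recog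

open Subgroup
open Cfsg.Agent.LargeExtraspecial (Hub mem_conj_iff)
open Cfsg.Agent.SuzType (pw mem_cz)

variable {G : Type*} [Group G] [Finite G] {z : G} {Q : Subgroup G}

/-- The eighth power. -/
def e8 {M : Type*} [Mul M] (x : M) : M := x * x * (x * x) * (x * x * (x * x))

/-- The standard three-cycle. -/
def cyc : Equiv.Perm (Fin 5) := Equiv.swap 0 1 * Equiv.swap 1 2

theorem not_inV_witness' : ∀ π : Equiv.Perm (Fin 5), π 4 = 4 → ¬ InV π → e8 π ≠ 1 ∨
    ∃ σ : Equiv.Perm (Fin 5), σ 4 = 4 ∧ e8 (π * (σ * π * σ⁻¹)) ≠ 1 := by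
  decide +kernel

namespace Frame

variable (F : Frame z Q) (d : Data z Q)
include F d

theorem perm_e8 {x : G} (hx : Commute x z) : F.perm d (e8 x) = e8 (F.perm d x) := by
  simp only [e8]
  rw [F.perm_mul d ((hx.mul_left hx).mul_left (hx.mul_left hx)) ((hx.mul_left hx).mul_left (hx.mul_left hx)),
    F.perm_mul d (hx.mul_left hx) (hx.mul_left hx), F.perm_mul d hx hx]

end Frame

namespace Based

variable {d : Data z Q} {F : Frame z Q} (hF : Based d F)
include hF

theorem e8_of_mem_T {x : G} (hx : x ∈ F.T d hF) : e8 x = 1 := by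
  have h : x * x ∈ Q := F.mem_of_perm_eq_one d (hx.1.mul_left hx.1) (by rw [F.perm_mul d hx.1 hx.1]; exact hx.2.2.1)
  exact F.pow_four d h

theorem inY_iff_mem (hf : Fused z) (x : G) : F.InY x ↔ x ∈ Q ∧ (x = 1 ∨ IsConj z x) := by
  refine ⟨fun h => ⟨h.mem F d, or_iff_not_imp_left.mpr (hF.isConj_of_inY hf h)⟩, ?_⟩
  rintro ⟨hx, rfl | hc⟩
  · exact Or.inl rfl
  · exact hF.inY_of_isConj hx hc

/-- An element moving `z` within the four-group normalizes it. -/
theorem inY_conj (hf : Fused z) {n : G} (hn : F.InY (n * z * n⁻¹)) {x : G} (hx : F.InY x) :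
    F.InY (n * x * n⁻¹) := by
  obtain ⟨hxQ, hx1⟩ := (hF.inY_iff_mem hf x).mp hx
  set p := n * z * n⁻¹ with hp
  have hR : Rel z Q p (Q.map (MulAut.conj n).toMonoidHom) := ⟨n, rfl, rfl⟩
  obtain ⟨Fp, hFp⟩ := exists_based (hR.data d)
  have hxR : n * x * n⁻¹ ∈ Q.map (MulAut.conj n).toMonoidHom := ⟨x, hxQ, rfl⟩
  have hxp : Fp.InY (n * x * n⁻¹) := by
    rcases hx1 with rfl | hc
    · exact Or.inl (by group)
    · exact hFp.inY_of_isConj hxR ((hR.isConj.symm.trans hc).trans (isConj_iff.mpr ⟨n, rfl⟩))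
  rcases hn with h | h | h
  · exact absurd h (d.conj_ne_one hR.isConj)
  · have hnz : Commute n z := mul_inv_eq_iff_eq_mul.mp h
    exact (hF.inY_iff_mem hf _).mpr ⟨d.hub.normalizes n hnz x hxQ,
      hx1.imp (fun e => by rw [e]; group) fun hc => hc.trans (isConj_iff.mpr ⟨n, rfl⟩)⟩
  · exact (hF.inY_eq h hR hFp _).mp hxp

theorem inY_conj_inv (hf : Fused z) {n : G} (hn : F.InY (n * z * n⁻¹)) {x : G} (hx : F.InY x) :
    F.InY (n⁻¹ * x * n) := by
  let f : {x : G // F.InY x} → {x : G // F.InY x} := fun x => ⟨n * x * n⁻¹, hF.inY_conj hf hn x.2⟩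
  obtain ⟨⟨y, hy⟩, hfy⟩ := (Finite.injective_iff_surjective.mp (fun a b e => Subtype.ext
    (mul_left_cancel (mul_right_cancel (congrArg Subtype.val e)))) : Function.Surjective f) ⟨x, hx⟩
  have e : n * y * n⁻¹ = x := congrArg Subtype.val hfy
  rw [← e]
  convert hy using 1
  group

/-- Conjugation by the normalizer preserves the centralizer of the four-group. -/
theorem commute_conj (hf : Fused z) {n : G} (hn : F.InY (n * z * n⁻¹)) {x : G} (hxz : Commute x z)
    (hxy : Commute x (F.pv 4)) {p : G} (hp : F.InY p) : Commute (n * x * n⁻¹) p := by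
  have hq := hF.inY_conj_inv hf hn hp
  have hc : Commute x (n⁻¹ * p * n) := by
    rcases hq with h | h | h | h <;> rw [h]
    exacts [Commute.one_right _, hxz, hxy, hxy.mul_right hxz]
  have := hc.map (MulAut.conj n).toMonoidHom
  simpa [mul_assoc] using this

theorem commute_conj_inv (hf : Fused z) {n : G} (hn : F.InY (n * z * n⁻¹)) {x : G} (hxz : Commute x z)
    (hxy : Commute x (F.pv 4)) {p : G} (hp : F.InY p) : Commute (n⁻¹ * x * n) p := by
  have hq := hF.inY_conj hf hn hp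
  have hc : Commute x (n * p * n⁻¹) := by
    rcases hq with h | h | h | h <;> rw [h]
    exacts [Commute.one_right _, hxz, hxy, hxy.mul_right hxz]
  have := hc.map (MulAut.conj n⁻¹).toMonoidHom
  simpa [mul_assoc] using this

/-- `T` is normal in the normalizer of the four-group. -/
theorem T_conj_normalizer (hf : Fused z) {n : G} (hn : F.InY (n * z * n⁻¹)) {x : G}
    (hx : x ∈ F.T d hF) : n * x * n⁻¹ ∈ F.T d hF := by
  have hx' : Commute (n * x * n⁻¹) z := hF.commute_conj hf hn hx.1 hx.2.1 (Or.inr (Or.inl rfl))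
  refine ⟨hx', hF.commute_conj hf hn hx.1 hx.2.1 (Or.inr (Or.inr (Or.inl rfl))), ?_⟩
  by_contra hV
  have e8c : ∀ w : G, e8 (n * w * n⁻¹) = n * e8 w * n⁻¹ := fun w => by simp only [e8]; group
  rcases not_inV_witness' _ (hF _ hx') hV with h | ⟨σ, hσ4, hσ⟩
  · apply h
    rw [← F.perm_e8 d hx', e8c, hF.e8_of_mem_T hx, mul_one, mul_inv_cancel, F.perm_one d]
  obtain ⟨g, hgz, hgy, hg⟩ := hF.exists_fixing hσ4 hσ4 false
  have hgy' : Commute g (F.pv 4) := hgy
  have hg' : Commute (n⁻¹ * g * n) z := hF.commute_conj_inv hf hn hgz hgy' (Or.inr (Or.inl rfl))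
  have hmem := mul_mem hx (hF.T_conj_mem hg' hx)
  have hgx : Commute (g * (n * x * n⁻¹) * g⁻¹) z := (hgz.mul_left hx').mul_left hgz.inv_left
  apply hσ
  rw [← hg, ← F.perm_conj d hgz hx', ← F.perm_mul d hx' hgx, ← F.perm_e8 d (hx'.mul_left hgx),
    show n * x * n⁻¹ * (g * (n * x * n⁻¹) * g⁻¹) = n * (x * (n⁻¹ * g * n * x * (n⁻¹ * g * n)⁻¹)) * n⁻¹ by group,
    e8c, hF.e8_of_mem_T hmem, mul_one, mul_inv_cancel, F.perm_one d]

/-- Elements of order three over a given permutation. -/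
theorem exists_rho {σ : Equiv.Perm (Fin 5)} (hσ4 : σ 4 = 4) (hσ : σ * σ * σ = 1) :
    ∃ ρ, ρ * ρ * ρ = 1 ∧ Commute ρ z ∧ Commute ρ (F.pv 4) ∧ F.perm d ρ = σ := by
  obtain ⟨g, hgz, hgy, hg⟩ := hF.exists_fixing hσ4 hσ4 false
  have hgy' : Commute g (F.pv 4) := hgy
  have h2 := hgz.mul_left hgz
  have h4 := h2.mul_left h2
  refine ⟨g * g * (g * g), ?_, h4, (hgy'.mul_left hgy').mul_left (hgy'.mul_left hgy'), ?_⟩
  · have h3 : g * g * g ∈ Q := F.mem_of_perm_eq_one d (h2.mul_left hgz)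
      (by rw [F.perm_mul d h2 hgz, F.perm_mul d hgz hgz, hg, hσ])
    rw [← F.pow_four d h3]; group
  · rw [F.perm_mul d h2 h2, F.perm_mul d hgz hgz, hg, ← mul_assoc, hσ, one_mul]

theorem perm_ne_one_of_cube {ρ : G} (hρ : ρ * ρ * ρ = 1) (h1 : ρ ≠ 1) (hz : Commute ρ z) :
    F.perm d ρ ≠ 1 := by
  intro h
  refine h1 ?_
  have h4 := F.pow_four d (F.mem_of_perm_eq_one d hz h)
  calc ρ = ρ * ρ * ρ * ρ := by rw [hρ, one_mul]
    _ = ρ * ρ * (ρ * ρ) := by group
    _ = 1 := h4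

/-- The subgroups of order three in the centralizer of the four-group are conjugate there. -/
theorem exists_conj_rho {ρ ρ' : G} (hρ : ρ * ρ * ρ = 1) (hρz : Commute ρ z) (hρy : Commute ρ (F.pv 4))
    (hρp : F.perm d ρ = cyc) (hρ' : ρ' * ρ' * ρ' = 1) (h1 : ρ' ≠ 1) (hρ'z : Commute ρ' z)
    (hρ'y : Commute ρ' (F.pv 4)) :
    ∃ k, Commute k z ∧ Commute k (F.pv 4) ∧ k * ρ' * k⁻¹ = ρ := by
  have hπ3 : F.perm d ρ' * F.perm d ρ' * F.perm d ρ' = 1 := by
    rw [← F.perm_mul d hρ'z hρ'z, ← F.perm_mul d (hρ'z.mul_left hρ'z) hρ'z, hρ', F.perm_one d]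
  obtain ⟨σ, hσ4, hσ⟩ := (by decide +kernel : ∀ π : Equiv.Perm (Fin 5), π 4 = 4 → π * π * π = 1 → π ≠ 1 →
    ∃ σ : Equiv.Perm (Fin 5), σ 4 = 4 ∧ σ * π * σ⁻¹ = cyc) _ (hF ρ' hρ'z) hπ3
    (hF.perm_ne_one_of_cube hρ' h1 hρ'z)
  obtain ⟨g, hgz, hgy, hg⟩ := hF.exists_fixing hσ4 hσ4 false
  have hgy' : Commute g (F.pv 4) := hgy
  set r := g * ρ' * g⁻¹ with hr
  have hrz : Commute r z := (hgz.mul_left hρ'z).mul_left hgz.inv_left
  have hry : Commute r (F.pv 4) := (hgy'.mul_left hρ'y).mul_left hgy'.inv_left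
  have hrp : F.perm d r = cyc := by rw [hr, F.perm_conj d hgz hρ'z, hg, hσ]
  have hr3 : r * r * r = 1 := by
    calc r * r * r = g * (ρ' * ρ' * ρ') * g⁻¹ := by rw [hr]; group
      _ = 1 := by rw [hρ']; group
  have hri : ρ⁻¹ = ρ * ρ := inv_eq_of_mul_eq_one_left hρ
  have hq : r * ρ⁻¹ ∈ Q := F.mem_of_perm_eq_one d (hrz.mul_left hρz.inv_left)
    (by rw [F.perm_mul d hrz hρz.inv_left, F.perm_inv d hρz, hrp, hρp, mul_inv_cancel])
  obtain ⟨q, hq⟩ := F.el_surjective d hq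
  have hact : ∀ p, F.el (act cyc (F.sgn d ρ) p) = ρ * F.el p * ρ⁻¹ := fun p => by
    rw [F.conj_eq_act d hρz, hρp]
  have hqy : mB q.1 (pt 4) = false :=
    (F.commute_y_iff d q).mp (hq ▸ hry.mul_left hρy.inv_left)
  have hcond : mm q (mm (act cyc (F.sgn d ρ) q) (act cyc (F.sgn d ρ) (act cyc (F.sgn d ρ) q))) = m1 := by
    refine F.el_injective d ?_
    rw [F.el_mm d, F.el_mm d, hact, hact, hact, hq, F.el_one, ← hr3]
    calc r * ρ⁻¹ * (ρ * (r * ρ⁻¹) * ρ⁻¹ * (ρ * (ρ * (r * ρ⁻¹) * ρ⁻¹) * ρ⁻¹))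
        = r * r * r * (ρ * ρ * ρ)⁻¹ := by group
      _ = _ := by rw [hρ, inv_one, mul_one]
  have hact3 : ∀ p, act cyc (F.sgn d ρ) (act cyc (F.sgn d ρ) (act cyc (F.sgn d ρ) p)) = p :=
    fun p => F.el_injective d (by
      rw [hact, hact, hact]
      calc _ = (ρ * ρ * ρ) * F.el p * (ρ * ρ * ρ)⁻¹ := by group
        _ = _ := by rw [hρ]; group)
  have hact4 : act cyc (F.sgn d ρ) (mv 4) = mv 4 := F.el_injective d (by
    rw [hact]; exact (hρy.eq ▸ mul_inv_cancel_right (F.pv 4) ρ :))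
  obtain ⟨w, hwy, hw⟩ := (by decide +kernel : ∀ c : Fin 4 → Bool,
    (∀ p, act cyc c (act cyc c (act cyc c p)) = p) → act cyc c (mv 4) = mv 4 →
    ∀ q : M, mB q.1 (pt 4) = false → mm q (mm (act cyc c q) (act cyc c (act cyc c q))) = m1 →
    ∃ w : W, mB w (pt 4) = false ∧
      mm (w, false) (act cyc c (mm (w, false) (((false, false, false, false) : W), eps w w))) = q)
    _ hact3 hact4 q hqy hcond
  set e := F.el (w, false)
  have hi : e⁻¹ = F.el (mm (w, false) ((false, false, false, false), eps w w)) := by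
    refine inv_eq_of_mul_eq_one_right ?_
    rw [← F.el_mm d, ← F.el_one]
    congr 1
    exact (by decide +kernel : ∀ w : W,
      mm (w, false) (mm (w, false) (((false, false, false, false) : W), eps w w)) = m1) w
  rw [← hw, F.el_mm d, hact, ← hi] at hq
  refine ⟨e⁻¹ * g, (d.hub.central _ (F.el_mem d _)).inv_left.mul_left hgz,
    ((F.commute_y_iff d _).mpr hwy).inv_left.mul_left hgy', ?_⟩
  have he : e * ρ * e⁻¹ = r := by
    calc e * ρ * e⁻¹ = (e * (ρ * e⁻¹ * ρ⁻¹)) * ρ := by group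
      _ = r := by rw [hq]; group
  calc e⁻¹ * g * ρ' * (e⁻¹ * g)⁻¹ = e⁻¹ * r * e := by rw [hr]; group
    _ = ρ := by rw [← he]; group

/-- Only the four-group of `y` centralizes an element of order three in its centralizer in `Q`. -/
theorem inY_of_commute_rho {ρ : G} (hρ : ρ * ρ * ρ = 1) (hρz : Commute ρ z)
    (hρp : F.perm d ρ = cyc) {q : G} (hq : q ∈ Q) (hqy : Commute q (F.pv 4)) (hc : Commute ρ q) :
    F.InY q := by
  obtain ⟨p, rfl⟩ := F.el_surjective d hq
  have hfix : act cyc (F.sgn d ρ) p = p := F.el_injective d (by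
    rw [← hρp, ← F.conj_eq_act d hρz, hc.eq, mul_inv_cancel_right])
  have h := (by decide +kernel : ∀ (c : Fin 4 → Bool) (p : M), act cyc c p = p → mB p.1 (pt 4) = false →
    p = m1 ∨ p = mz ∨ ∃ e, p = (pt 4, e)) _ p hfix ((F.commute_y_iff d p).mp hqy)
  rw [F.inY_iff_el d]
  rcases h with rfl | rfl | ⟨e, rfl⟩
  exacts [Or.inl F.el_one, Or.inr (Or.inl F.el_z), Or.inr (Or.inr ⟨e, rfl⟩)]

/-- An involution of the centralizer of the four-group outside `T` inverting an element of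
order three. -/
theorem exists_inverting (hf : Fused z) {ρ : G} (hρ : ρ * ρ * ρ = 1) (hρz : Commute ρ z)
    (hρy : Commute ρ (F.pv 4)) (hρp : F.perm d ρ = cyc) :
    ∃ t, Commute t z ∧ Commute t (F.pv 4) ∧ t * t = 1 ∧ t * ρ * t⁻¹ = ρ⁻¹ ∧
      F.perm d t 3 = 3 ∧ ¬ InV (F.perm d t) := by
  have hri : ρ⁻¹ = ρ * ρ := inv_eq_of_mul_eq_one_left hρ
  have hρne : ρ ≠ 1 := fun e => by
    rw [e, F.perm_one d] at hρp
    exact absurd hρp (by decide +kernel)
  obtain ⟨t, htz, hty, ht⟩ := hF.exists_conj_rho (ρ := ρ) (ρ' := ρ⁻¹) hρ hρz hρy hρp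
    (by
      calc ρ⁻¹ * ρ⁻¹ * ρ⁻¹ = (ρ * ρ * ρ)⁻¹ := by group
        _ = 1 := by rw [hρ, inv_one])
    (inv_ne_one.mpr hρne) hρz.inv_left hρy.inv_left
  have htρ : t * ρ * t⁻¹ = ρ⁻¹ := by
    calc t * ρ * t⁻¹ = (t * ρ⁻¹ * t⁻¹)⁻¹ := by group
      _ = ρ⁻¹ := by rw [ht]
  have perm_facts : ∀ {x : G}, Commute x z → x * ρ * x⁻¹ = ρ⁻¹ →
      F.perm d x * F.perm d x = 1 ∧ F.perm d x 3 = 3 ∧ ¬ InV (F.perm d x) := by
    intro x hx he
    have e := congrArg (F.perm d) he
    rw [F.perm_conj d hx hρz, F.perm_inv d hρz, hρp] at e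
    exact (by decide +kernel : ∀ π : Equiv.Perm (Fin 5), π 4 = 4 → π * cyc * π⁻¹ = cyc⁻¹ →
      π * π = 1 ∧ π 3 = 3 ∧ ¬ InV π) _ (hF x hx) e
  -- the square
  have hsq : ∀ {x : G}, Commute x z → Commute x (F.pv 4) → x * ρ * x⁻¹ = ρ⁻¹ → F.InY (x * x) := by
    intro x hx hxy he
    refine hF.inY_of_commute_rho hρ hρz hρp (F.mem_of_perm_eq_one d (hx.mul_left hx)
      (by rw [F.perm_mul d hx hx]; exact (perm_facts hx he).1)) (hxy.mul_left hxy) ?_
    refine (mul_inv_eq_iff_eq_mul.mp ?_).symm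
    calc x * x * ρ * (x * x)⁻¹ = x * (x * ρ * x⁻¹) * x⁻¹ := by group
      _ = x * ρ⁻¹ * x⁻¹ := by rw [he]
      _ = (x * ρ * x⁻¹)⁻¹ := by group
      _ = ρ := by rw [he, inv_inv]
  have huniq : ∀ {x : G}, Commute x z → Commute x (F.pv 4) → x * ρ * x⁻¹ = ρ⁻¹ → x * x = t * t := by
    intro x hx hxy he
    set e₀ := t⁻¹ * x with he0
    have hez : Commute e₀ z := htz.inv_left.mul_left hx
    have hey : Commute e₀ (F.pv 4) := hty.inv_left.mul_left hxy
    have hec : Commute e₀ ρ := mul_inv_eq_iff_eq_mul.mp (by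
      calc e₀ * ρ * e₀⁻¹ = t⁻¹ * (x * ρ * x⁻¹) * t := by rw [he0]; group
        _ = t⁻¹ * (t * ρ * t⁻¹) * t := by rw [he, htρ]
        _ = ρ := by group)
    have hpe : F.perm d e₀ * cyc = cyc * F.perm d e₀ := by
      rw [← hρp, ← F.perm_mul d hez hρz, ← F.perm_mul d hρz hez, hec.eq]
    obtain ⟨r, hr, hrp⟩ : ∃ r, (r = 1 ∨ r = ρ ∨ r = ρ * ρ) ∧ F.perm d r = F.perm d e₀ := by
      rcases (by decide +kernel : ∀ π : Equiv.Perm (Fin 5), π 4 = 4 → π * cyc = cyc * π →
        π = 1 ∨ π = cyc ∨ π = cyc * cyc) _ (hF e₀ hez) hpe with h | h | h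
      · exact ⟨1, Or.inl rfl, by rw [h, F.perm_one d]⟩
      · exact ⟨ρ, Or.inr (Or.inl rfl), by rw [h, hρp]⟩
      · exact ⟨ρ * ρ, Or.inr (Or.inr rfl), by rw [h, F.perm_mul d hρz hρz, hρp]⟩
    have hrz : Commute r z := by
      rcases hr with rfl | rfl | rfl
      exacts [Commute.one_left _, hρz, hρz.mul_left hρz]
    have hry : Commute r (F.pv 4) := by
      rcases hr with rfl | rfl | rfl
      exacts [Commute.one_left _, hρy, hρy.mul_left hρy]
    have hrρ : Commute r ρ := by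
      rcases hr with rfl | rfl | rfl
      exacts [Commute.one_left _, Commute.refl _, (Commute.refl ρ).mul_left (Commute.refl ρ)]
    have hrt : t * r * t⁻¹ = r⁻¹ := by
      rcases hr with rfl | rfl | rfl
      · group
      · exact htρ
      · calc t * (ρ * ρ) * t⁻¹ = (t * ρ * t⁻¹) * (t * ρ * t⁻¹) := by group
          _ = (ρ * ρ)⁻¹ := by rw [htρ]; group
    set q := r⁻¹ * e₀ with hq
    have hqY : F.InY q := hF.inY_of_commute_rho hρ hρz hρp
      (F.mem_of_perm_eq_one d (hrz.inv_left.mul_left hez)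
        (by rw [F.perm_mul d hrz.inv_left hez, F.perm_inv d hrz, hrp, inv_mul_cancel]))
      (hry.inv_left.mul_left hey) (hrρ.inv_left.mul_left hec).symm
    have hqc : ∀ {w : G}, Commute w z → Commute w (F.pv 4) → Commute w q := fun {w} h1 h2 => by
      rcases hqY with h | h | h | h <;> rw [h]
      exacts [Commute.one_right _, h1, h2, h2.mul_right h1]
    have hx' : x = t * r * q := by rw [hq, he0]; group
    have htr : t * r * (t * r) = t * t := by
      calc t * r * (t * r) = (t * r * t⁻¹) * ((t * t) * r) := by group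
        _ = r⁻¹ * (r * (t * t)) := by
          rw [hrt]
          congr 1
          rcases hsq htz hty htρ with h | h | h | h <;> rw [h]
          exacts [(Commute.one_left r).eq, hrz.eq.symm, hry.eq.symm, (hry.mul_right hrz).eq.symm]
        _ = t * t := by group
    calc x * x = t * r * (t * r) * (q * q) := by
          have hc := hqc (htz.mul_left hrz) (hty.mul_left hry)
          rw [hx', show t * r * q * (t * r * q) = t * r * (q * (t * r)) * q by group, ← hc.eq]; group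
      _ = t * t := by rw [htr, hqY.sq F d, mul_one]
  refine ⟨t, htz, hty, ?_, htρ, (perm_facts htz htρ).2⟩
  -- the square is invariant under the normalizer
  have hcY := hsq htz hty htρ
  have hinv : ∀ n, F.InY (n * z * n⁻¹) → n * (t * t) * n⁻¹ = t * t := by
    intro n hn
    have hρ' : n * ρ * n⁻¹ * (n * ρ * n⁻¹) * (n * ρ * n⁻¹) = 1 := by
      calc _ = n * (ρ * ρ * ρ) * n⁻¹ := by group
        _ = 1 := by rw [hρ]; group
    obtain ⟨k, hkz, hky, hk⟩ := hF.exists_conj_rho hρ hρz hρy hρp hρ'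
      (fun e => hρne (conj_eq_one_iff.mp e))
      (hF.commute_conj hf hn hρz hρy (Or.inr (Or.inl rfl)))
      (hF.commute_conj hf hn hρz hρy (Or.inr (Or.inr (Or.inl rfl))))
    have h1 : Commute (k * (n * t * n⁻¹) * k⁻¹) z :=
      (hkz.mul_left (hF.commute_conj hf hn htz hty (Or.inr (Or.inl rfl)))).mul_left hkz.inv_left
    have h2 : Commute (k * (n * t * n⁻¹) * k⁻¹) (F.pv 4) :=
      (hky.mul_left (hF.commute_conj hf hn htz hty (Or.inr (Or.inr (Or.inl rfl))))).mul_left hky.inv_left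
    have h3 : k * (n * t * n⁻¹) * k⁻¹ * ρ * (k * (n * t * n⁻¹) * k⁻¹)⁻¹ = ρ⁻¹ := by
      conv_lhs => rw [← hk]
      calc _ = k * (n * (t * ρ * t⁻¹) * n⁻¹) * k⁻¹ := by group
        _ = (k * (n * ρ * n⁻¹) * k⁻¹)⁻¹ := by rw [htρ]; group
        _ = _ := by rw [hk]
    have h4 := huniq h1 h2 h3
    have hkc : Commute k (n * (t * t) * n⁻¹) := by
      rcases hF.inY_conj hf hn hcY with h | h | h | h <;> rw [h]
      exacts [Commute.one_right _, hkz, hky, hky.mul_right hkz]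
    calc n * (t * t) * n⁻¹ = k * (n * (t * t) * n⁻¹) * k⁻¹ := by rw [hkc.eq, mul_inv_cancel_right]
      _ = k * (n * t * n⁻¹) * k⁻¹ * (k * (n * t * n⁻¹) * k⁻¹) := by group
      _ = t * t := h4
  rcases hcY with h | h | h
  · exact h
  · exfalso
    obtain ⟨n, hn⟩ := isConj_iff.mp (hF.isConj_y hf).1
    have := hinv n (hn ▸ Or.inr (Or.inr (Or.inl rfl)))
    rw [h, hn] at this
    exact F.y_ne_z d this
  · exfalso
    set a := F.el (pt 0, false) with ha
    have haz : Commute a z := hF.el_pt_commute 0 false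
    have := hinv a (by rw [haz.eq, mul_inv_cancel_right]; exact Or.inr (Or.inl rfl))
    obtain ⟨e, he⟩ : ∃ e, F.el (pt 4, e) = t * t := by
      rcases h with h | h <;> rw [h]
      · exact ⟨false, by simp [F.el_pt d]⟩
      · exact ⟨true, by simp [F.el_pt d]⟩
    rw [← he, ha, F.conj_el d] at this
    exact absurd (F.el_injective d this) ((by decide +kernel : ∀ e, shift (pt 0) (pt 4, e) ≠ (pt 4, e)) e)

end Based

end Cfsg.Agent.AutL34Recog
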