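import Cfsg.Agent.Lib.AutL34Recog.Fusion

/-!
# The subgroup `T` of order 64 and the conjugates of `z` in `C(z)`

`T` is the preimage in the centralizer of the four-group of the even permutations without fixed
points among the first four points.
-/

set_option autoImplicit false
set_option maxHeartbeats 1000000
set_option linter.unusedSectionVars false
set_option synthInstance.maxSize 4096
set_option synthInstance.maxHeartbeats 400000

namespace Cfsg.Agent.AutL34Recog

open Subgroup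
open Cfsg.Agent.LargeExtraspecial (Hub)
open Cfsg.Agent.SuzType (pw)

variable {G : Type*} [Group G] [Finite G] {z : G} {Q : Subgroup G}

/-- The four-group on the four moved points. -/
def InV (π : Equiv.Perm (Fin 5)) : Prop := π * π = 1 ∧ (π = 1 ∨ IsDbl π)

instance (π : Equiv.Perm (Fin 5)) : Decidable (InV π) := by unfold InV; infer_instance

theorem inV_mul : ∀ p q : Equiv.Perm (Fin 5), p 4 = 4 → q 4 = 4 → InV p → InV q → InV (p * q) := by
  decide +kernel

theorem inV_conj : ∀ p q : Equiv.Perm (Fin 5), p 4 = 4 → q 4 = 4 → InV p → InV (q * p * q⁻¹) := by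
  decide +kernel

theorem inV_inv : ∀ p : Equiv.Perm (Fin 5), InV p → p⁻¹ = p := fun p h => inv_eq_of_mul_eq_one_right h.1

theorem not_inV_witness : ∀ π : Equiv.Perm (Fin 5), π 4 = 4 → π * π = 1 → ¬ InV π →
    ∃ σ : Equiv.Perm (Fin 5), σ 4 = 4 ∧
      (π * (σ * π * σ⁻¹)) * (π * (σ * π * σ⁻¹)) * ((π * (σ * π * σ⁻¹)) * (π * (σ * π * σ⁻¹))) ≠ 1 := by
  decide +kernel

namespace Frame

variable (F : Frame z Q) (d : Data z Q)
include F d

theorem perm_one : F.perm d (1 : G) = 1 := by rw [← F.el_one, F.perm_el d]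

theorem perm_inv {h : G} (hh : Commute h z) : F.perm d h⁻¹ = (F.perm d h)⁻¹ :=
  eq_inv_of_mul_eq_one_left (by rw [← F.perm_mul d hh.inv_left hh, inv_mul_cancel, F.perm_one d])

theorem perm_conj {g h : G} (hg : Commute g z) (hh : Commute h z) :
    F.perm d (g * h * g⁻¹) = F.perm d g * F.perm d h * (F.perm d g)⁻¹ := by
  rw [F.perm_mul d (hg.mul_left hh) hg.inv_left, F.perm_mul d hg hh, F.perm_inv d hg]

theorem perm_of_mem {q : G} (hq : q ∈ Q) : F.perm d q = 1 := by
  obtain ⟨p, rfl⟩ := F.el_surjective d hq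
  exact F.perm_el d p

theorem pow_four {q : G} (hq : q ∈ Q) : q * q * (q * q) = 1 := by
  obtain ⟨p, rfl⟩ := F.el_surjective d hq
  rw [← F.el_mm d, ← F.el_mm d, (by decide +kernel : ∀ p : M, mm (mm p p) (mm p p) = m1) p, F.el_one]

theorem sq_cases {q : G} (hq : q ∈ Q) : q * q = 1 ∨ q * q = z := by
  obtain ⟨p, rfl⟩ := F.el_surjective d hq
  rw [← F.el_mm d]
  rcases (by decide +kernel : ∀ p : M, mm p p = m1 ∨ mm p p = mz) p with h | h <;> rw [h]
  · exact Or.inl F.el_one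
  · exact Or.inr F.el_z

/-- Squares in `Q` avoid the points. -/
theorem sq_ne_y {q : G} (hq : q ∈ Q) : q * q ≠ F.pv 4 := by
  intro e
  rcases F.sq_cases d hq with h | h
  · exact F.y_ne_one d (e.symm.trans h)
  · exact F.y_ne_z d (e.symm.trans h)

theorem InY.commute_y {x : G} (h : F.InY x) : Commute x (F.pv 4) := by
  rcases h with rfl | rfl | rfl | rfl
  exacts [Commute.one_left _, (F.y_comm d).symm, Commute.refl _,
    (Commute.refl _).mul_left (F.y_comm d).symm]

/-- The coordinates of the elements commuting with the fifth point. -/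
theorem commute_y_iff (p : M) : Commute (F.el p) (F.pv 4) ↔ mB p.1 (pt 4) = false := by
  rw [← SuzType.fl_eq_false, Frame.pv, F.fl_el_el d]
  rfl

/-- An involution of `Q` commuting with the fifth point lies in its four-group. -/
theorem inY_of_sq {q : G} (hq : q ∈ Q) (h2 : q * q = 1) (hc : Commute q (F.pv 4)) : F.InY q := by
  obtain ⟨p, rfl⟩ := F.el_surjective d hq
  have hp : mm p p = m1 := F.el_injective d (by rw [F.el_mm d, h2, F.el_one])
  have hm := (F.commute_y_iff d p).mp hc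
  rw [F.inY_iff_el d]
  rcases (by decide +kernel : ∀ p : M, mm p p = m1 → mB p.1 (pt 4) = false →
    p = m1 ∨ p = mz ∨ ∃ e, p = (pt 4, e)) p hp hm with rfl | rfl | ⟨e, rfl⟩
  exacts [Or.inl F.el_one, Or.inr (Or.inl F.el_z), Or.inr (Or.inr ⟨e, rfl⟩)]

/-- The subgroup of the centralizer over the four-group. -/
def T (hF : Based d F) : Subgroup G where
  carrier := {x | Commute x z ∧ Commute x (F.pv 4) ∧ InV (F.perm d x)}
  mul_mem' := fun {a b} ha hb => ⟨ha.1.mul_left hb.1, ha.2.1.mul_left hb.2.1, by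
    rw [F.perm_mul d ha.1 hb.1]; exact inV_mul _ _ (hF a ha.1) (hF b hb.1) ha.2.2 hb.2.2⟩
  one_mem' := ⟨Commute.one_left _, Commute.one_left _, by
    rw [F.perm_one d]; decide +kernel⟩
  inv_mem' := fun {a} ha => ⟨ha.1.inv_left, ha.2.1.inv_left, by
    rw [F.perm_inv d ha.1, inV_inv _ ha.2.2]; exact ha.2.2⟩

end Frame

theorem Based.mem_T {d : Data z Q} {F : Frame z Q} (hF : Based d F) {x : G} :
    x ∈ F.T d hF ↔ Commute x z ∧ Commute x (F.pv 4) ∧ InV (F.perm d x) := Iff.rfl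

namespace Based

variable {d : Data z Q} {F : Frame z Q} (hF : Based d F)
include hF

theorem conj_y {h : G} (hh : Commute h z) :
    h * F.pv 4 * h⁻¹ = F.pv 4 ∨ h * F.pv 4 * h⁻¹ = F.pv 4 * z := by
  obtain ⟨e, he⟩ := F.perm_spec d hh 4
  rw [hF h hh, F.el_pt d] at he
  cases e
  · left; simpa using he
  · right; simpa using he

theorem T_conj_mem {h x : G} (hh : Commute h z) (hx : x ∈ F.T d hF) : h * x * h⁻¹ ∈ F.T d hF := by
  obtain ⟨h1, h2, h3⟩ := hx
  have hz' : Commute (h * x * h⁻¹) z := (hh.mul_left h1).mul_left hh.inv_left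
  refine ⟨hz', ?_, by rw [F.perm_conj d hh h1]; exact inV_conj _ _ (hF x h1) (hF h hh) h3⟩
  have hc : Commute (h * x * h⁻¹) (h * F.pv 4 * h⁻¹) := by
    have := h2.map (MulAut.conj h).toMonoidHom
    simpa using this
  rcases hF.conj_y hh with e | e <;> rw [e] at hc
  · exact hc
  · have := hc.mul_right hz'
    rw [mul_assoc (F.pv 4) z z, d.hub.sq, mul_one] at this
    exact this

theorem Y_le_T {x : G} (h : F.InY x) : x ∈ F.T d hF :=
  ⟨d.hub.central _ (h.mem F d), h.commute_y F d, by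
    rw [F.perm_of_mem d (h.mem F d)]; decide +kernel⟩

theorem mem_T_of_dbl {u : G} (hu : Commute u z) (hu2 : u * u = 1) (hd : IsDbl (F.perm d u)) :
    u ∈ F.T d hF :=
  ⟨hu, (hF.dbl hu hu2 hd).1, (hF.act_invol hu hu2).1, Or.inr hd⟩

theorem T_le_centralizer : F.T d hF ≤ centralizer ({z} : Set G) := fun _ hx => SuzType.mem_cz.mpr hx.1

theorem card_T : Nat.card (F.T d hF) = 64 := by
  classical
  let φ : F.T d hF →* Equiv.Perm (Fin 5) :=
    MonoidHom.mk' (fun x => F.perm d (x : G)) fun x y => F.perm_mul d x.2.1 y.2.1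
  have hr : Nat.card φ.range = 4 := by
    have h4 : Nat.card {p : Equiv.Perm (Fin 5) // p 4 = 4 ∧ InV p} = 4 := by
      rw [Nat.card_eq_fintype_card]; decide +kernel
    rw [← h4]
    refine Nat.card_congr (Equiv.subtypeEquivRight fun p => ⟨?_, ?_⟩)
    · rintro ⟨x, rfl⟩
      exact ⟨hF _ x.2.1, x.2.2.2⟩
    · rintro ⟨hp4, hp⟩
      obtain ⟨g, hgz, hgy, hg⟩ := hF.exists_fixing hp4 hp4 false
      refine ⟨⟨g, hgz, ?_, hg ▸ hp⟩, hg⟩
      have e : F.el (pt 4, false) = F.pv 4 := rfl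
      rwa [e] at hgy
  have hk : Nat.card φ.ker = 16 := by
    have h16 : Nat.card {p : M // mB p.1 (pt 4) = false} = 16 := by
      rw [Nat.card_eq_fintype_card]; decide +kernel
    rw [← h16]
    symm
    refine Nat.card_eq_of_bijective (fun p => (⟨⟨F.el p.1, d.hub.central _ (F.el_mem d _),
      (F.commute_y_iff d _).mpr p.2, by rw [F.perm_el d]; decide +kernel⟩, F.perm_el d _⟩ : φ.ker))
      ⟨fun p q e => Subtype.ext (F.el_injective d (congrArg (fun x : φ.ker => ((x : F.T d hF) : G)) e)),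
        fun x => ?_⟩
    obtain ⟨p, hp⟩ := F.el_surjective d (F.mem_of_perm_eq_one d x.1.2.1 x.2)
    exact ⟨⟨p, (F.commute_y_iff d p).mp (hp ▸ x.1.2.2.1)⟩, Subtype.ext (Subtype.ext hp)⟩
  have := φ.ker.card_mul_index
  rw [index_ker, hr, hk] at this
  exact this.symm

/-- A conjugate of `z` in `C(z)` is fused in `Q` or is an outer involution of double type. -/
theorem cases_of_isConj {u : G} (hc : IsConj z u) (hu : Commute u z) :
    F.InY u ∨ (u ∉ Q ∧ IsDbl (F.perm d u)) := by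
  by_cases huQ : u ∈ Q
  · exact Or.inl (hF.inY_of_isConj huQ hc)
  refine Or.inr ⟨huQ, ?_⟩
  have hu2 := d.sq_conj hc
  rcases hF.dbl_or_sq hu hu2 huQ with hd | ⟨x, hxQ, hux, hxx⟩
  · exact hd
  by_contra hnd
  obtain ⟨R, hR⟩ := exists_rel (Q := Q) hc
  have du := hR.data d
  obtain ⟨Fu, hFu⟩ := exists_based du
  have huz : u ≠ z := fun e => huQ (e ▸ d.hub.mem)
  have hRz : Rel u R z Q := hR.symm
  -- `z` is outer at the base `u`
  have hzR : z ∉ R := by
    intro hz
    obtain ⟨e, he⟩ := (((Fu.inY_iff_el du z).mp (hFu.inY_of_isConj hz hc.symm)).resolve_left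
      d.hub.ne_one).resolve_left huz.symm
    have hp : z = Fu.pv 4 ∨ z = Fu.pv 4 * u := by
      rw [← he, Fu.el_pt du]; cases e <;> simp
    exact huQ (((hFu.inY_eq hp hRz hF u).mpr (Or.inr (Or.inl rfl))).mem F d)
  have hdz := hFu.dbl_of_sq hux.symm hxx d.hub.sq hzR
  obtain ⟨hzy, hfix, htr⟩ := hFu.dbl hu.symm d.hub.sq hdz
  have hfused : ∀ q, (q = Fu.pv 4 ∨ q = Fu.pv 4 * u) → IsConj z q := fun q hq => by
    obtain ⟨v, hv⟩ := hFu.isConj_y ⟨z, hc.symm, hu.symm, huz.symm⟩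
    rcases hq with rfl | rfl
    exacts [hc.trans v, hc.trans hv]
  have hnQ : ∀ q, (q = Fu.pv 4 ∨ q = Fu.pv 4 * u) → q ∉ Q := by
    intro q hq hqQ
    have hqz : q ≠ z := fun e => hzR (e ▸ by
      rcases hq with rfl | rfl
      exacts [Fu.el_mem du _, mul_mem (Fu.el_mem du _) du.hub.mem])
    obtain ⟨S, hS⟩ := exists_rel (Q := R) (u := q) (hc.symm.trans (hfused q hq))
    have dq := hS.data du
    obtain ⟨Fq, hFq⟩ := exists_based dq
    have hq' : q = F.pv 4 ∨ q = F.pv 4 * z := by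
      rcases hF.inY_of_isConj hqQ (hfused q hq) with h | h | h | h
      exacts [absurd h (d.conj_ne_one (hfused q hq)), absurd h hqz, Or.inl h, Or.inr h]
    have h1 := hFu.inY_eq hq hS hFq z
    have h2 := hF.inY_eq hq' (hR.trans hS) hFq z
    exact hzR ((h1.mp (h2.mpr (Or.inr (Or.inl rfl)))).mem Fu du)
  have hqz : ∀ q, (q = Fu.pv 4 ∨ q = Fu.pv 4 * u) → Commute q z := by
    rintro q (rfl | rfl)
    exacts [hzy.symm, hzy.symm.mul_left hu]
  set p₁ := F.perm d (Fu.pv 4) with hp1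
  have hp2 : F.perm d (Fu.pv 4 * u) = p₁ * F.perm d u := F.perm_mul d hzy.symm hu
  have hpu : F.perm d u ≠ 1 := fun e => huQ (F.mem_of_perm_eq_one d hu e)
  have hne1 : p₁ ≠ 1 := fun e => hnQ _ (Or.inl rfl) (F.mem_of_perm_eq_one d hzy.symm e)
  have hne2 : p₁ * F.perm d u ≠ 1 := fun e =>
    hnQ _ (Or.inr rfl) (F.mem_of_perm_eq_one d (hqz _ (Or.inr rfl)) (hp2.trans e))
  have hcomm : p₁ * F.perm d u = F.perm d u * p₁ := by
    rw [hp1, ← F.perm_mul d hzy.symm hu, ← F.perm_mul d hu hzy.symm, (Fu.y_comm du).eq]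
  -- one of the two other involutions is double
  obtain ⟨v, hv, hvd, hvne, hvne'⟩ : ∃ v, (v = Fu.pv 4 ∨ v = Fu.pv 4 * u) ∧ IsDbl (F.perm d v) ∧
      F.perm d v ≠ F.perm d u ∧ ∀ w, (w = Fu.pv 4 ∨ w = Fu.pv 4 * u) → F.perm d w = F.perm d v → w = v := by
    have key : ∀ a b : Equiv.Perm (Fin 5), a 4 = 4 → b 4 = 4 → a * a = 1 → b * b = 1 → a * b = b * a →
        a ≠ 1 → b ≠ 1 → a * b ≠ 1 → ¬ IsDbl b →
        (IsDbl a ∧ a ≠ b ∧ a * b ≠ a) ∨ (IsDbl (a * b) ∧ a * b ≠ b ∧ a ≠ a * b) := by decide +kernel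
    rcases key p₁ (F.perm d u) (hF _ hzy.symm) (hF _ hu)
        (hF.act_invol hzy.symm (Fu.pv_sq du 4)).1 (hF.act_invol hu hu2).1 hcomm hne1 hpu hne2 hnd with
      ⟨k1, k2, k3⟩ | ⟨k1, k2, k3⟩
    · refine ⟨_, Or.inl rfl, k1, k2, ?_⟩
      rintro w (rfl | rfl) he
      · rfl
      · exact absurd (hp2.symm.trans he) k3
    · refine ⟨_, Or.inr rfl, hp2.symm ▸ k1, hp2.symm ▸ k2, ?_⟩
      rintro w (rfl | rfl) he
      · exact absurd (he.trans hp2) k3
      · rfl
  have hvz := hqz v hv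
  obtain ⟨-, hvfix, -⟩ := hF.dbl hvz (d.sq_conj (hfused v hv)) hvd
  have hvR : v ∈ R := by
    rcases hv with rfl | rfl
    exacts [Fu.el_mem du _, mul_mem (Fu.el_mem du _) du.hub.mem]
  -- `x` fixes `v`, but only the four-group of `y` does so in `Q`
  have hxz : Commute x z := d.hub.central _ hxQ
  have hxv : Commute (x * v * x⁻¹) z := (hxz.mul_left hvz).mul_left hxz.inv_left
  have hpe : F.perm d (x * v * x⁻¹) = F.perm d v := by
    rw [F.perm_conj d hxz hvz, F.perm_of_mem d hxQ]; simp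
  have hvv : x * v * x⁻¹ = v := by
    rcases hfix _ (du.hub.normalizes x hux.symm v hvR) hxv.symm with e | e | e | e
    · exact absurd (conj_eq_one_iff.mp e) (d.conj_ne_one (hfused v hv))
    · exact absurd (hpe.symm.trans (congrArg (F.perm d) e)) hvne
    · exact e.trans (hvne' _ (Or.inl rfl) ((congrArg (F.perm d) e).symm.trans hpe))
    · exact e.trans (hvne' _ (Or.inr rfl) ((congrArg (F.perm d) e).symm.trans hpe))
  have hY : F.InY x := hvfix x hxQ (mul_inv_eq_iff_eq_mul.mp hvv).symm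
  exact d.hub.ne_one (hxx.symm.trans (hY.sq F d))

theorem mem_T_of_isConj {u : G} (hc : IsConj z u) (hu : Commute u z) : u ∈ F.T d hF := by
  rcases hF.cases_of_isConj hc hu with h | ⟨-, h⟩
  · exact hF.Y_le_T h
  · exact hF.mem_T_of_dbl hu (d.sq_conj hc) h

/-- The copy of `Q` at a fused point contributes to `T`. -/
theorem mem_T_of_fused {p : G} {R : Subgroup G} (hp : p = F.pv 4 ∨ p = F.pv 4 * z)
    (hR : Rel z Q p R) {x : G} (hx : x ∈ R) (hxz : Commute x z) : x ∈ F.T d hF := by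
  have dp := hR.data d
  obtain ⟨Fp, hFp⟩ := exists_based dp
  have hY : F.InY p := by rcases hp with rfl | rfl <;> simp [Frame.InY]
  have hxp : Commute x p := dp.hub.central _ hx
  have hxy : Commute x (F.pv 4) := by
    rcases hp with rfl | rfl
    · exact hxp
    · have := hxp.mul_right hxz
      rwa [mul_assoc, d.hub.sq, mul_one] at this
  refine ⟨hxz, hxy, ?_⟩
  set π := F.perm d x with hπ
  have hππ : π * π = 1 := by
    rw [hπ, ← F.perm_mul d hxz hxz]
    rcases Fp.sq_cases dp hx with e | e <;> rw [e]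
    · exact F.perm_one d
    · exact F.perm_of_mem d (hY.mem F d)
  by_contra hV
  obtain ⟨σ, hσ4, hσ⟩ := not_inV_witness π (hF x hxz) hππ hV
  obtain ⟨g, hgz, hgy, hg⟩ := hF.exists_fixing hσ4 hσ4 false
  have hgp : Commute g p := by
    have e : F.el (pt 4, false) = F.pv 4 := rfl
    rw [e] at hgy
    rcases hp with rfl | rfl
    exacts [hgy, hgy.mul_right hgz]
  have hgxz : Commute (g * x * g⁻¹) z := (hgz.mul_left hxz).mul_left hgz.inv_left
  have ht4 := Fp.pow_four dp (mul_mem hx (dp.hub.normalizes g hgp x hx))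
  have htz := hxz.mul_left hgxz
  have h4 := congrArg (F.perm d) ht4
  rw [F.perm_mul d (htz.mul_left htz) (htz.mul_left htz), F.perm_mul d htz htz, F.perm_one d,
    F.perm_mul d hxz hgxz, F.perm_conj d hgz hxz, hg, ← hπ] at h4
  exact hσ h4

/-- There is an outer involution of double type. -/
theorem exists_outer (hy : IsConj z (F.pv 4)) :
    ∃ u, Commute u z ∧ u * u = 1 ∧ u ∉ Q ∧ IsDbl (F.perm d u) := by
  obtain ⟨R, hR⟩ := exists_rel (Q := Q) hy
  have dp := hR.data d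
  obtain ⟨Fp, hFp⟩ := exists_based dp
  have hzR : z ∈ R := hF.z_mem_of_fused (i := 4) (e := false) hR
  obtain ⟨j, s, hj⟩ := Fp.exists_pt dp hzR d.hub.sq d.hub.ne_one (F.y_ne_z d).symm
  have hzp : Commute z (F.pv 4) := (F.y_comm d).symm
  have hzY : z = Fp.pv 4 ∨ z = Fp.pv 4 * F.pv 4 := by
    rcases hFp.inY_of_isConj hzR hy.symm with h | h | h | h
    exacts [absurd h d.hub.ne_one, absurd h (F.y_ne_z d).symm, Or.inl h, Or.inr h]
  obtain ⟨w', hw', -, -, hw'z, -, hsq, -, -⟩ := hFp.exists_quaternion j s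
  rw [hj] at hw'z
  have hw'Q : w' ∉ Q := fun h => F.sq_ne_y d h hsq
  obtain ⟨hw'z', hw'y, hV⟩ := hF.mem_T_of_fused (Or.inl rfl) hR hw' hw'z
  have hd' : IsDbl (F.perm d w') :=
    hV.2.resolve_left fun e => hw'Q (F.mem_of_perm_eq_one d hw'z e)
  set π := F.perm d w' with hπ
  set c := F.sgn d w'
  have hact2 : ∀ q : M, act π c (act π c q) = shift (pt 4) q := fun q => F.el_injective d (by
    rw [← F.conj_eq_act d hw'z, ← F.conj_eq_act d hw'z, ← F.conj_el d,
      show F.el (pt 4, false) = F.pv 4 from rfl, ← hsq]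
    group)
  have hno : ∀ q : M, mB q.1 (pt 4) = false → act π c q ≠ mm (pt 4, false) q := by
    intro q hq heq
    have hwy := (F.commute_y_iff d q).mpr hq
    set w := F.el q with hw
    have e1 : w' * w * w'⁻¹ = F.pv 4 * w := by
      rw [hw, F.conj_eq_act d hw'z, heq, F.el_mm d]; rfl
    have hwQ : w ∈ Q := F.el_mem d _
    have hwz : Commute w z := d.hub.central _ hwQ
    by_cases hwY : F.InY w
    · have hcm : Commute w' w := by
        rcases hwY with h | h | h | h <;> rw [h]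
        exacts [Commute.one_right _, hw'z, hw'y, hw'y.mul_right hw'z]
      rw [hcm.eq, mul_inv_cancel_right, eq_comm, mul_eq_right] at e1
      exact F.y_ne_one d e1
    have hww : w * w = z :=
      (F.sq_cases d hwQ).resolve_left fun h => hwY (F.inY_of_sq d hwQ h hwy)
    have hwR : w ∉ R := by
      intro h
      rcases Fp.sq_cases dp h with e | e
      · exact d.hub.ne_one (hww.symm.trans e)
      · exact F.y_ne_z d (e.symm.trans hww)
    obtain ⟨-, -, hVw⟩ := hFp.mem_T_of_fused hzY hR.symm hwQ hwy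
    set π' := Fp.perm dp w with hπ'
    set c' := Fp.sgn dp w
    have hd'' : IsDbl π' := hVw.2.resolve_left fun e => hwR (Fp.mem_of_perm_eq_one dp hwy e)
    obtain ⟨e', he'⟩ : ∃ e', Fp.el (pt 4, e') = z := by
      rcases hzY with h | h
      · exact ⟨false, by rw [Fp.el_pt dp]; simpa using h.symm⟩
      · exact ⟨true, by rw [Fp.el_pt dp]; simpa using h.symm⟩
    have hact2' : ∀ q : M, act π' c' (act π' c' q) = shift (pt 4) q := fun q => Fp.el_injective dp (by
      rw [← Fp.conj_eq_act dp hwy, ← Fp.conj_eq_act dp hwy,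
        show w * (w * Fp.el q * w⁻¹) * w⁻¹ = w * w * Fp.el q * (w * w)⁻¹ by group, hww.trans he'.symm,
        show Fp.el (pt 4, e') = Fp.el (pt 4, false) * pw (F.pv 4) e' by simp [Fp.el_pt dp],
        show Fp.el (pt 4, false) * pw (F.pv 4) e' * Fp.el q * (Fp.el (pt 4, false) * pw (F.pv 4) e')⁻¹ =
          Fp.el (pt 4, false) * (pw (F.pv 4) e' * Fp.el q * (pw (F.pv 4) e')⁻¹) * (Fp.el (pt 4, false))⁻¹
          by group,
        Frame.z_comm dp (Fp.el_mem dp q) e', mul_inv_cancel_right, Fp.conj_el dp])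
    obtain ⟨r, hr⟩ := Fp.el_surjective dp (inv_mem hw')
    have hr4 : mB r.1 (pt 4) = false := by
      refine (Fp.commute_y_iff dp r).mp ?_
      rw [hr]
      rcases hzY with h | h
      · exact (h ▸ hw'z).inv_left
      · have hh : Commute w'⁻¹ (z * F.pv 4) := hw'z.inv_left.mul_right hw'y.inv_left
        have e : z * F.pv 4 = Fp.pv 4 := (congrArg (· * F.pv 4) h).trans (by
          show Fp.pv 4 * F.pv 4 * F.pv 4 = _
          rw [mul_assoc, dp.hub.sq, mul_one])
        exact e ▸ hh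
    refine (by decide +kernel : ∀ (π : Equiv.Perm (Fin 5)) (c : Fin 4 → Bool), π 4 = 4 → π * π = 1 →
      IsDbl π → (∀ q, act π c (act π c q) = shift (pt 4) q) → ∀ r : M, mB r.1 (pt 4) = false →
      act π c r ≠ mm r mz) π' c' (hFp w hwy) hVw.1 hd'' hact2' r hr4 (Fp.el_injective dp ?_)
    rw [← Fp.conj_eq_act dp hwy, Fp.el_mm dp, Fp.el_z, hr]
    calc w * w'⁻¹ * w⁻¹ = w'⁻¹ * (w' * w * w'⁻¹) * w⁻¹ := by group
      _ = w'⁻¹ * F.pv 4 := by rw [e1]; group
  obtain ⟨q, hq, hqq⟩ := (by decide +kernel : ∀ (π : Equiv.Perm (Fin 5)) (c : Fin 4 → Bool), π 4 = 4 →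
    π * π = 1 → IsDbl π → (∀ q, act π c (act π c q) = shift (pt 4) q) →
    (∀ q : M, mB q.1 (pt 4) = false → act π c q ≠ mm (pt 4, false) q) →
    ∃ q : M, mB q.1 (pt 4) = false ∧ mm (act π c q) q = (pt 4, false)) π c (hF w' hw'z) hV.1 hd' hact2 hno
  have hwy := (F.commute_y_iff d q).mpr hq
  have hwz : Commute (F.el q) z := d.hub.central _ (F.el_mem d _)
  refine ⟨w' * F.el q, hw'z.mul_left hwz, ?_, fun h => hw'Q ?_, ?_⟩
  · have e1 : w' * F.el q * w'⁻¹ * F.el q = F.pv 4 := by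
      rw [F.conj_eq_act d hw'z, ← F.el_mm d, hqq]; rfl
    calc w' * F.el q * (w' * F.el q) = w' * F.el q * w'⁻¹ * ((w' * w') * F.el q) := by group
      _ = w' * F.el q * w'⁻¹ * (F.pv 4 * F.el q) := by rw [hsq]
      _ = w' * F.el q * w'⁻¹ * F.el q * F.pv 4 := by rw [← hwy.eq]; group
      _ = 1 := by rw [e1, F.pv_sq d]
  · have h2 := mul_mem h (inv_mem (F.el_mem d q))
    rwa [mul_inv_cancel_right] at h2
  · rwa [F.perm_mul d hw'z hwz, F.perm_el d, mul_one]

/-- Outer involutions of double type with the same permutation are conjugate under `Q`. -/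
theorem outer_coset {u v : G} (hu : Commute u z) (hu2 : u * u = 1) (hd : IsDbl (F.perm d u))
    (hv : Commute v z) (hv2 : v * v = 1) (he : F.perm d v = F.perm d u) :
    ∃ x ∈ Q, x * u * x⁻¹ = v := by
  have huv : Commute (u * v) z := hu.mul_left hv
  obtain ⟨p, hp⟩ := F.el_surjective d (F.mem_of_perm_eq_one d huv (by
    rw [F.perm_mul d hu hv, he, (hF.act_invol hu hu2).1]))
  obtain ⟨h2, hinv⟩ := hF.act_invol hu hu2
  have hq : mm (act (F.perm d u) (F.sgn d u) p) p = m1 := F.el_injective d (by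
    rw [F.el_mm d, ← F.conj_eq_act d hu, hp, F.el_one, inv_eq_of_mul_eq_one_right hu2]
    calc u * (u * v) * u * (u * v) = u * u * v * (u * u) * v := by group
      _ = 1 := by rw [hu2]; simpa using hv2)
  obtain ⟨w, hw⟩ := (by decide +kernel : ∀ (π : Equiv.Perm (Fin 5)) (c : Fin 4 → Bool), π 4 = 4 → π * π = 1 →
    IsDbl π → (∀ p, act π c (act π c p) = p) → ∀ p : M, mm (act π c p) p = m1 →
    ∃ w : W, mm (act π c (w, false)) (mm (w, false) (((false, false, false, false) : W), eps w w)) = p)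
    _ _ (hF u hu) h2 hd hinv p hq
  refine ⟨F.el (w, false), F.el_mem d _, ?_⟩
  have hi : (F.el (w, false))⁻¹ = F.el (mm (w, false) ((false, false, false, false), eps w w)) := by
    refine inv_eq_of_mul_eq_one_right ?_
    rw [← F.el_mm d, ← F.el_one]
    congr 1
    exact (by decide +kernel : ∀ w : W,
      mm (w, false) (mm (w, false) (((false, false, false, false) : W), eps w w)) = m1) w
  rw [← hw, F.el_mm d, ← F.conj_eq_act d hu, ← hi, inv_eq_of_mul_eq_one_right hu2] at hp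
  have hp' : u * (F.el (w, false) * u * (F.el (w, false))⁻¹) = u * v := by
    rw [← hp]; group
  exact mul_left_cancel hp'

/-- The outer involutions of double type form one class of the centralizer. -/
theorem isConj_outer {u v : G} (hu : Commute u z) (hu2 : u * u = 1) (huQ : u ∉ Q)
    (hd : IsDbl (F.perm d u)) (hv : Commute v z) (hv2 : v * v = 1) (hvQ : v ∉ Q)
    (hd' : IsDbl (F.perm d v)) : ∃ h, Commute h z ∧ h * u * h⁻¹ = v := by
  obtain ⟨σ, hσ4, hσ⟩ := (by decide +kernel : ∀ a b : Equiv.Perm (Fin 5), a 4 = 4 → b 4 = 4 → a * a = 1 →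
    b * b = 1 → a ≠ 1 → b ≠ 1 → IsDbl a → IsDbl b → ∃ σ : Equiv.Perm (Fin 5), σ 4 = 4 ∧ σ * a * σ⁻¹ = b)
    _ _ (hF u hu) (hF v hv) (hF.act_invol hu hu2).1 (hF.act_invol hv hv2).1
    (fun e => huQ (F.mem_of_perm_eq_one d hu e)) (fun e => hvQ (F.mem_of_perm_eq_one d hv e)) hd hd'
  obtain ⟨g, hgz, hg⟩ := hF.exists_perm_eq σ hσ4
  have hw : Commute (g * u * g⁻¹) z := (hgz.mul_left hu).mul_left hgz.inv_left
  have hwe : F.perm d (g * u * g⁻¹) = F.perm d v := by rw [F.perm_conj d hgz hu, hg, hσ]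
  obtain ⟨x, hx, hxe⟩ := hF.outer_coset hw (SuzType.conj_sq hu2) (hwe ▸ hd') hv hv2 hwe.symm
  refine ⟨x * g, (d.hub.central _ hx).mul_left hgz, ?_⟩
  rw [← hxe]; group

/-- The number of outer involutions of double type. -/
theorem card_outer (hy : IsConj z (F.pv 4)) :
    Nat.card {u : G // Commute u z ∧ u * u = 1 ∧ u ∉ Q ∧ IsDbl (F.perm d u)} = 24 := by
  classical
  set S := {u : G // Commute u z ∧ u * u = 1 ∧ u ∉ Q ∧ IsDbl (F.perm d u)}
  let P := {p : Equiv.Perm (Fin 5) // p 4 = 4 ∧ p * p = 1 ∧ IsDbl p ∧ p ≠ 1}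
  let f : S → P := fun u => ⟨F.perm d u.1, hF _ u.2.1, (hF.act_invol u.2.1 u.2.2.1).1, u.2.2.2.2,
    fun e => u.2.2.2.1 (F.mem_of_perm_eq_one d u.2.1 e)⟩
  haveI : Fintype S := Fintype.ofFinite _
  have hfib : ∀ p : P, Nat.card {u : S // f u = p} = 8 := by
    rintro ⟨p, hp4, hp2, hpd, hp1⟩
    obtain ⟨u₀, hu₀, hu₀2, hu₀Q, hu₀d⟩ := hF.exists_outer hy
    obtain ⟨σ, hσ4, hσ⟩ := (by decide +kernel : ∀ a b : Equiv.Perm (Fin 5), a 4 = 4 → b 4 = 4 → a * a = 1 →
      b * b = 1 → a ≠ 1 → b ≠ 1 → IsDbl a → IsDbl b → ∃ σ : Equiv.Perm (Fin 5), σ 4 = 4 ∧ σ * a * σ⁻¹ = b)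
      _ _ (hF u₀ hu₀) hp4 (hF.act_invol hu₀ hu₀2).1 hp2
      (fun e => hu₀Q (F.mem_of_perm_eq_one d hu₀ e)) hp1 hu₀d hpd
    obtain ⟨g, hgz, hg⟩ := hF.exists_perm_eq σ hσ4
    set u := g * u₀ * g⁻¹ with hudef
    have huz : Commute u z := (hgz.mul_left hu₀).mul_left hgz.inv_left
    have hu2 : u * u = 1 := SuzType.conj_sq hu₀2
    have hue : F.perm d u = p := by rw [hudef, F.perm_conj d hgz hu₀, hg, hσ]
    obtain ⟨-, hinv⟩ := hF.act_invol huz hu2
    have h8 : Nat.card {q : M // mm (act p (F.sgn d u) q) q = m1} = 8 := by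
      rw [Nat.card_eq_fintype_card]
      have key : ∀ (π : Equiv.Perm (Fin 5)) (c : Fin 4 → Bool), π 4 = 4 → π * π = 1 → IsDbl π →
          (∀ q, act π c (act π c q) = q) →
          (Finset.univ.filter fun q : M => mm (act π c q) q = m1).card = 8 := by decide +kernel
      rw [Fintype.card_subtype]
      exact key p _ hp4 hp2 hpd (hue ▸ hinv)
    rw [← h8]
    symm
    have hmem : ∀ q : {q : M // mm (act p (F.sgn d u) q) q = m1},
        Commute (u * F.el q.1) z ∧ (u * F.el q.1) * (u * F.el q.1) = 1 ∧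
          F.perm d (u * F.el q.1) = p := by
      intro q
      have hqz : Commute (F.el q.1) z := d.hub.central _ (F.el_mem d _)
      refine ⟨huz.mul_left hqz, ?_, by rw [F.perm_mul d huz hqz, F.perm_el d, mul_one, hue]⟩
      have e1 : u * F.el q.1 * u⁻¹ * F.el q.1 = 1 := by
        rw [F.conj_eq_act d huz, hue, ← F.el_mm d, q.2, F.el_one]
      calc u * F.el q.1 * (u * F.el q.1) = u * F.el q.1 * u⁻¹ * ((u * u) * F.el q.1) := by group
        _ = _ := by rw [hu2, one_mul, e1]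
    refine Nat.card_eq_of_bijective (fun q => (⟨⟨u * F.el q.1, (hmem q).1, (hmem q).2.1,
      fun h => hp1 ((hmem q).2.2.symm.trans (F.perm_of_mem d h)), (hmem q).2.2.symm ▸ hpd⟩,
      Subtype.ext (hmem q).2.2⟩ : {u : S // f u = ⟨p, hp4, hp2, hpd, hp1⟩}))
      ⟨fun q q' e => Subtype.ext (F.el_injective d (mul_left_cancel
        (congrArg (fun w : {u : S // f u = ⟨p, hp4, hp2, hpd, hp1⟩} => (w.1 : G)) e))), ?_⟩
    rintro ⟨⟨v, hv, hv2, hvQ, hvd⟩, hvf⟩
    have hvp : F.perm d v = p := congrArg Subtype.val hvf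
    obtain ⟨q, hq⟩ := F.el_surjective d (F.mem_of_perm_eq_one d (huz.mul_left hv)
      (by rw [F.perm_mul d huz hv, hue, hvp, hp2]))
    refine ⟨⟨q, F.el_injective d ?_⟩, Subtype.ext (Subtype.ext ?_)⟩
    · rw [F.el_mm d, ← hue, ← F.conj_eq_act d huz, hq, F.el_one, inv_eq_of_mul_eq_one_right hu2]
      calc u * (u * v) * u * (u * v) = u * u * v * (u * u) * v := by group
        _ = 1 := by rw [hu2]; simpa using hv2
    · show u * F.el q = v
      rw [hq, ← mul_assoc, hu2, one_mul]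
  have h3 : Nat.card P = 3 := by rw [Nat.card_eq_fintype_card]; decide +kernel
  rw [← Nat.card_congr (Equiv.sigmaFiberEquiv f), Nat.card_sigma, Finset.sum_congr rfl fun p _ => hfib p,
    Finset.sum_const, Finset.card_univ, ← Nat.card_eq_fintype_card, h3]
  rfl

end Based

end Cfsg.Agent.AutL34Recog
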