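import Cfsg.Agent.Lib.AutL34Recog.ResCore
import Cfsg.Agent.Lib.AutL34Recog.A5Check
import Cfsg.Agent.Lib.BSW.FourCent

/-!
# The centralizer of an element of order three

A nontrivial odd subgroup inverted by `z`, centralized by a moved point and by an element of order
three in `C(z)`, has order three and forces `5` to divide `|O²(G)|`.
-/

set_option autoImplicit false
set_option maxHeartbeats 1000000
set_option linter.unusedSectionVars false
set_option synthInstance.maxSize 4096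
set_option synthInstance.maxHeartbeats 400000

namespace Cfsg.Agent.AutL34Recog

open Subgroup
open Cfsg.Agent.LargeExtraspecial (Hub mem_conj_iff)
open Cfsg.Agent.SuzType (pw mem_cz)

variable {G : Type*} [Group G] [Finite G] {z : G} {Q : Subgroup G}

theorem eq_one_of_sq_odd {M : Type*} [Group M] {g : M} (h : g * g = 1) (ho : Odd (orderOf g)) : g = 1 := by
  rcases (Nat.dvd_prime Nat.prime_two).mp (orderOf_dvd_of_pow_eq_one (x := g) (n := 2) (by rw [pow_two]; exact h)) with e | e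
  · exact orderOf_eq_one_iff.mp e
  · rw [e] at ho; exact absurd ho (by decide)

theorem odd_orderOf_map {M N : Type*} [Group M] [Group N] (f : M →* N) {g : M} (h : Odd (orderOf g)) :
    Odd (orderOf (f g)) :=
  h.of_dvd_nat (orderOf_map_dvd f g)

namespace Based

variable {d : Data z Q} {F : Frame z Q} (hF : Based d F)
include hF

/-- Elements of `O²(G)` commuting with a fused point and an element of order three. -/
theorem inY_mul_of_commute' (hf : Fused z) {ρ : G} (hρ : ρ * ρ * ρ = 1) (h1 : ρ ≠ 1) (hρz : Commute ρ z)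
    {v : G} (hv : v = z ∨ v = F.pv 4 ∨ v = F.pv 4 * z) {x : G} (hx : x ∈ Cfsg.pResidual 2 G)
    (hxv : Commute x v) (hxρ : Commute x ρ) : ∃ r, (r = 1 ∨ r = ρ ∨ r = ρ * ρ) ∧ F.InY (x * r⁻¹) := by
  rcases hv with rfl | hv
  · exact hF.inY_mul_of_commute hf hρ h1 hρz hx hxv hxρ
  have hc : IsConj z v := by
    rcases hv with rfl | rfl
    exacts [(hF.isConj_y hf).1, (hF.isConj_y hf).2]
  obtain ⟨R, hR⟩ := exists_rel (Q := Q) hc
  obtain ⟨Fp, hFp⟩ := exists_based (hR.data d)
  have hρv : Commute ρ v := by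
    rcases hv with rfl | rfl
    exacts [hF.cube_commute_y hρ hρz hf, (hF.cube_commute_y hρ hρz hf).mul_right hρz]
  obtain ⟨r, hr, hY⟩ := hFp.inY_mul_of_commute (hf.rel hR) hρ h1 hρv hx hxv hxρ
  exact ⟨r, hr, (hF.inY_eq hv hR hFp _).mp hY⟩

/-- A subgroup inverted by `z` and centralized by a moved point and an element of order three. -/
theorem three_subgroup (hf : Fused z) {i : Fin 5} (hi : i ≠ 4) (e : Bool) {ρ : G} (hρ : ρ * ρ * ρ = 1)
    (h1 : ρ ≠ 1) (hρz : Commute ρ z) (hρa : Commute ρ (F.el (pt i, e))) (A : Subgroup G)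
    (hA : ∀ c ∈ A, Odd (orderOf c) ∧ Commute c ρ ∧ Commute c (F.el (pt i, e)) ∧ z * c * z⁻¹ = c⁻¹)
    (hne : A ≠ ⊥) : 5 ∣ Nat.card (Cfsg.pResidual 2 G) ∧ Nat.card A = 3 := by
  classical
  haveI : Fact (Nat.Prime 2) := ⟨Nat.prime_two⟩
  set N := Cfsg.pResidual 2 G with hN
  haveI hNn : N.Normal := Transfer.pResidual_normal (G := G) 2
  have hAN : ∀ c ∈ A, c ∈ N := fun c hc =>
    Transfer.mem_residual_of_coprime (Nat.coprime_two_right.mpr (hA c hc).1)
  have hρy := hF.cube_commute_y hρ hρz hf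
  set X := N ⊓ centralizer ({ρ} : Set G) with hX
  have memX : ∀ {x : G}, x ∈ X ↔ x ∈ N ∧ Commute x ρ := fun {x} => by rw [hX, mem_inf, mem_cz]
  let ρX : X := ⟨ρ, memX.mpr ⟨mem_res_of_cube hρ, Commute.refl ρ⟩⟩
  haveI hRn : (zpowers ρX).Normal := ⟨fun r hr x => by
    obtain ⟨n, rfl⟩ := mem_zpowers_iff.mp hr
    have hcm : Commute x ρX := Subtype.ext (memX.mp x.2).2.eq
    rw [(hcm.zpow_right n).eq, mul_inv_cancel_right]
    exact zpow_mem (mem_zpowers ρX) n⟩
  let π := QuotientGroup.mk' (zpowers ρX)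
  have memR : ∀ {x : X}, x ∈ zpowers ρX → (x : G) = 1 ∨ (x : G) = ρ ∨ (x : G) = ρ * ρ := by
    intro x hx
    obtain ⟨n, rfl⟩ := (mem_powers_iff_mem_zpowers.mpr hx : x ∈ Submonoid.powers ρX)
    have h3 : ρ ^ 3 = 1 := by rw [pow_succ, pow_two]; exact hρ
    have e : ((ρX ^ n : X) : G) = ρ ^ (n % 3) := by
      rw [SubmonoidClass.coe_pow]
      conv_lhs => rw [← Nat.mod_add_div n 3, pow_add, pow_mul, show (ρX : G) ^ 3 = 1 from h3, one_pow, mul_one]
    simp only
    rw [e]
    have : n % 3 < 3 := Nat.mod_lt _ (by norm_num)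
    interval_cases n % 3
    · exact Or.inl (pow_zero _)
    · exact Or.inr (Or.inl (pow_one _))
    · exact Or.inr (Or.inr (pow_two _))
  have mk_eq_one : ∀ {x : X}, π x = 1 ↔ x ∈ zpowers ρX := fun {x} => QuotientGroup.eq_one_iff x
  have hYX : ∀ v, F.InY v → v ∈ X := fun v hv => memX.mpr ⟨hF.inY_mem_res hf hv, by
    rcases hv with h | h | h | h <;> rw [h]
    exacts [Commute.one_left _, hρz.symm, hρy.symm, hρy.symm.mul_left hρz.symm]⟩
  let yv : ∀ v, F.InY v → X ⧸ zpowers ρX := fun v hv => π ⟨v, hYX v hv⟩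
  have yv_one : ∀ v (hv : F.InY v), yv v hv = 1 → v = 1 := by
    intro v hv h
    rcases memR (mk_eq_one.mp h) with e | e | e
    · exact e
    · have h2 := hv.sq F d
      simp only at e
      rw [e] at h2 ⊢
      calc ρ = ρ * ρ * ρ := by rw [h2, one_mul]
        _ = 1 := hρ
    · have h2 := hv.sq F d
      simp only at e
      rw [e] at h2 ⊢
      exact absurd (show ρ = 1 by
        calc ρ = ρ * ρ * ρ * ρ := by rw [hρ, one_mul]
          _ = (ρ * ρ) * (ρ * ρ) := by group
          _ = 1 := h2) h1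
  have yv_mul : ∀ u v (hu : F.InY u) (hv : F.InY v) (huv : F.InY (u * v)),
      yv u hu * yv v hv = yv (u * v) huv := fun u v hu hv huv => (map_mul π _ _).symm
  have hzY : F.InY z := Or.inr (Or.inl rfl)
  have hyY : F.InY (F.pv 4) := Or.inr (Or.inr (Or.inl rfl))
  have hyzY : F.InY (F.pv 4 * z) := Or.inr (Or.inr (Or.inr rfl))
  set zb := yv z hzY with hzb
  have hzb2 : zb * zb = 1 := by
    rw [hzb, ← map_mul π, ← map_one π]; exact congrArg π (Subtype.ext d.hub.sq)
  have hzb1 : zb ≠ 1 := fun h => d.hub.ne_one (yv_one z hzY h)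
  -- centralizers of the three involutions
  have cent : ∀ v (hv : v = z ∨ v = F.pv 4 ∨ v = F.pv 4 * z) (hvY : F.InY v) (g : X ⧸ zpowers ρX),
      Commute g (yv v hvY) → ∃ u, ∃ hu : F.InY u, g = yv u hu := by
    intro v hv hvY g hg
    obtain ⟨x, rfl⟩ := QuotientGroup.mk'_surjective _ g
    set vX : X := ⟨v, hYX v hvY⟩
    have hr : x * vX * x⁻¹ * vX⁻¹ ∈ zpowers ρX := by
      refine mk_eq_one.mp ?_
      rw [map_mul, map_mul, map_mul, map_inv, map_inv]
      show π x * yv v hvY * (π x)⁻¹ * (yv v hvY)⁻¹ = 1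
      rw [hg.eq, mul_inv_cancel_right, mul_inv_cancel]
    have hxv : Commute (x : G) v := by
      refine mul_inv_eq_iff_eq_mul.mp ?_
      have hv2 : v * v = 1 := hvY.sq F d
      have hrv : ∀ r, (r = 1 ∨ r = ρ ∨ r = ρ * ρ) → (x : G) * v * (x : G)⁻¹ = r * v → r = 1 := by
        intro r hr' he
        have hvρ : Commute v ρ := (memX.mp (hYX v hvY)).2
        have hrc : Commute r v := by
          rcases hr' with rfl | rfl | rfl
          exacts [Commute.one_left _, hvρ.symm, hvρ.symm.mul_left hvρ.symm]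
        have h2 : r * r = 1 := by
          have : (x : G) * v * (x : G)⁻¹ * ((x : G) * v * (x : G)⁻¹) = 1 := SuzType.conj_sq hv2
          rw [he] at this
          calc r * r = r * r * (v * v) := by rw [hv2, mul_one]
            _ = r * (r * v) * v := by group
            _ = r * (v * r) * v := by rw [hrc.eq]
            _ = r * v * (r * v) := by group
            _ = 1 := this
        rcases hr' with rfl | rfl | rfl
        · rfl
        · calc r = r * r * r := by rw [h2, one_mul]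
            _ = 1 := hρ
        · calc ρ * ρ = ρ * ρ * (ρ * ρ * ρ) * (ρ * ρ * ρ) := by rw [hρ]; group
            _ = ρ * ρ * (ρ * ρ) * (ρ * ρ * (ρ * ρ)) := by group
            _ = 1 := by rw [h2, one_mul]
      have he : (x : G) * v * (x : G)⁻¹ = ((x * vX * x⁻¹ * vX⁻¹ : X) : G) * v := by
        simp only [Subgroup.coe_mul, InvMemClass.coe_inv, vX]; group
      have h0 := hrv _ (memR hr) he
      rw [he, h0, one_mul]
    obtain ⟨r, hr', hY⟩ := hF.inY_mul_of_commute' hf hρ h1 hρz hv (memX.mp x.2).1 hxv (memX.mp x.2).2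
    refine ⟨_, hY, ?_⟩
    have hrX : r ∈ X ∧ ∀ h : r ∈ X, (⟨r, h⟩ : X) ∈ zpowers ρX := by
      rcases hr' with rfl | rfl | rfl
      · exact ⟨one_mem _, fun _ => one_mem _⟩
      · exact ⟨ρX.2, fun _ => mem_zpowers _⟩
      · exact ⟨mul_mem ρX.2 ρX.2, fun _ => mul_mem (mem_zpowers ρX) (mem_zpowers ρX)⟩
    refine (mul_inv_eq_one.mp ?_)
    rw [← map_inv, ← map_mul]
    refine mk_eq_one.mpr ?_
    convert hrX.2 hrX.1 using 1
    refine Subtype.ext ?_
    show (x : G) * ((x : G) * r⁻¹)⁻¹ = r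
    have hxr : Commute (x : G) r := by
      rcases hr' with rfl | rfl | rfl
      exacts [Commute.one_right _, (memX.mp x.2).2, (memX.mp x.2).2.mul_right (memX.mp x.2).2]
    rw [mul_inv_rev, inv_inv, ← mul_assoc, hxr.eq, mul_inv_cancel_right]
  have cent_z : ∀ g, Commute g zb → ∃ u, ∃ hu : F.InY u, g = yv u hu := cent z (Or.inl rfl) hzY
  have sq_z : ∀ g, Commute g zb → g * g = 1 := fun g hg => by
    obtain ⟨u, hu, rfl⟩ := cent_z g hg
    show π _ * π _ = 1
    rw [← map_mul, ← map_one π]; exact congrArg π (Subtype.ext (hu.sq F d))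
  have comm_z : ∀ u (hu : F.InY u), Commute (yv u hu) zb := fun u hu => by
    refine (Commute.map ?_ π)
    refine Subtype.ext ?_
    exact (d.hub.central u (hu.mem F d)).eq
  have hcard4 : Nat.card (centralizer ({zb} : Set (X ⧸ zpowers ρX))) = 4 := by
    have h4 : Nat.card {u : G // F.InY u} = 4 := by
      rw [Nat.card_congr (Equiv.subtypeEquivRight fun u => F.inY_iff_el d u)]
      have hb : Nat.card {p : M // p = m1 ∨ p = mz ∨ ∃ e', p = (pt 4, e')} = 4 := by
        rw [Nat.card_eq_fintype_card]; decide +kernel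
      refine Eq.trans ?_ hb
      refine (Nat.card_eq_of_bijective (fun p => (⟨F.el p.1, by
        rcases p.2 with h | h | ⟨e', h⟩ <;> rw [h]
        exacts [Or.inl F.el_one, Or.inr (Or.inl F.el_z), Or.inr (Or.inr ⟨e', rfl⟩)]⟩ :
          {u : G // u = 1 ∨ u = z ∨ ∃ e', F.el (pt 4, e') = u}))
        ⟨fun p q h => Subtype.ext (F.el_injective d (congrArg Subtype.val h)), ?_⟩).symm
      rintro ⟨u, hu⟩
      rcases hu with rfl | rfl | ⟨e', rfl⟩
      · exact ⟨⟨m1, Or.inl rfl⟩, Subtype.ext F.el_one⟩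
      · exact ⟨⟨mz, Or.inr (Or.inl rfl)⟩, Subtype.ext F.el_z⟩
      · exact ⟨⟨(pt 4, e'), Or.inr (Or.inr ⟨e', rfl⟩)⟩, rfl⟩
    rw [← h4]
    refine (Nat.card_eq_of_bijective (fun u => (⟨yv u.1 u.2, mem_cz.mpr (comm_z u.1 u.2)⟩ :
      centralizer ({zb} : Set (X ⧸ zpowers ρX)))) ⟨?_, ?_⟩).symm
    · rintro ⟨u, hu⟩ ⟨v, hv⟩ h
      have h' : yv u hu = yv v hv := congrArg Subtype.val h
      have huv : F.InY (u * v) := by
        rw [F.inY_iff_el d] at hu hv ⊢
        have key : ∀ p q : M, (p = m1 ∨ p = mz ∨ ∃ e', p = (pt 4, e')) →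
            (q = m1 ∨ q = mz ∨ ∃ e', q = (pt 4, e')) →
            (mm p q = m1 ∨ mm p q = mz ∨ ∃ e', mm p q = (pt 4, e')) := by decide +kernel
        obtain ⟨p, hp, rfl⟩ : ∃ p : M, (p = m1 ∨ p = mz ∨ ∃ e', p = (pt 4, e')) ∧ F.el p = u := by
          rcases hu with rfl | rfl | ⟨e', rfl⟩
          exacts [⟨m1, Or.inl rfl, F.el_one⟩, ⟨mz, Or.inr (Or.inl rfl), F.el_z⟩, ⟨_, Or.inr (Or.inr ⟨e', rfl⟩), rfl⟩]
        obtain ⟨q, hq, rfl⟩ : ∃ q : M, (q = m1 ∨ q = mz ∨ ∃ e', q = (pt 4, e')) ∧ F.el q = v := by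
          rcases hv with rfl | rfl | ⟨e', rfl⟩
          exacts [⟨m1, Or.inl rfl, F.el_one⟩, ⟨mz, Or.inr (Or.inl rfl), F.el_z⟩, ⟨_, Or.inr (Or.inr ⟨e', rfl⟩), rfl⟩]
        rw [← F.el_mm d]
        rcases key p q hp hq with h | h | ⟨e', h⟩ <;> rw [h]
        exacts [Or.inl F.el_one, Or.inr (Or.inl F.el_z), Or.inr (Or.inr ⟨e', rfl⟩)]
      have hmul : yv (u * v) huv = 1 := by
        rw [← yv_mul u v hu hv huv, h']
        show π _ * π _ = 1
        rw [← map_mul, ← map_one π]; exact congrArg π (Subtype.ext (hv.sq F d))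
      have := yv_one _ huv hmul
      exact Subtype.ext ((eq_inv_of_mul_eq_one_left this).trans (inv_eq_of_mul_eq_one_right (hv.sq F d)))
    · rintro ⟨g, hg⟩
      obtain ⟨u, hu, rfl⟩ := cent_z g (mem_cz.mp hg)
      exact ⟨⟨u, hu⟩, rfl⟩
  let FC : BSW.FourCent (X ⧸ zpowers ρX) := ⟨zb, orderOf_eq_prime (by rw [pow_two]; exact hzb2) hzb1, hcard4,
    fun g hg => sq_z g (mem_cz.mp hg)⟩
  -- the inverted images
  have imgA : ∀ c (hc : c ∈ A), ∃ g : X ⧸ zpowers ρX, g = π ⟨c, memX.mpr ⟨hAN c hc, (hA c hc).2.1⟩⟩ ∧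
      Odd (orderOf g) ∧ zb * g * zb⁻¹ = g⁻¹ ∧ (g = 1 → c = 1) := by
    intro c hc
    refine ⟨_, rfl, odd_orderOf_map π (by rw [← Subgroup.orderOf_coe]; exact (hA c hc).1), ?_, fun h => ?_⟩
    · show π _ * π _ * (π _)⁻¹ = (π _)⁻¹
      rw [← map_inv, ← map_mul, ← map_mul, ← map_inv]
      exact congrArg π (Subtype.ext (hA c hc).2.2.2)
    · have hcz : Commute z c := by
        rcases memR (mk_eq_one.mp h) with e | e | e <;> simp only at e <;> rw [e]
        exacts [Commute.one_right _, hρz.symm, hρz.symm.mul_right hρz.symm]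
      have hinv := (hA c hc).2.2.2
      rw [hcz.eq, mul_inv_cancel_right] at hinv
      exact eq_one_of_sq_odd (mul_eq_one_iff_eq_inv.mpr hinv) (hA c hc).1
  obtain ⟨c₀, hc₀, hc₀1⟩ := A.bot_or_exists_ne_one.resolve_left hne
  obtain ⟨g₀, -, hg₀o, hg₀i, hg₀1⟩ := imgA c₀ hc₀
  -- `X₁` is not small
  have hbig : ¬ ∀ g : X ⧸ zpowers ρX, Odd (orderOf g) → zb * g * zb⁻¹ = g⁻¹ → g = 1 := fun h =>
    hc₀1 (hg₀1 (h g₀ hg₀o hg₀i))
  have hnotC : ¬ ∀ g : X ⧸ zpowers ρX, Commute g zb := fun h => hbig fun g ho _ =>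
    eq_one_of_sq_odd (sq_z g (h g)) ho
  have hnc : ¬ Cfsg.HasNormalPComplement 2 (X ⧸ zpowers ρX) := by
    rintro ⟨P, K, hKn, hK⟩
    have hKodd : ∀ k ∈ K, Odd (orderOf k) := by
      intro k hk
      refine Odd.of_dvd_nat ?_ (Subgroup.orderOf_dvd_natCard K hk)
      rw [Nat.odd_iff, ← Nat.two_dvd_ne_zero, ← hK.index_eq_card]
      exact P.not_dvd_index
    have hfix : ∀ v (hv : v = z ∨ v = F.pv 4 ∨ v = F.pv 4 * z) (hvY : F.InY v), ∀ k ∈ K,
        yv v hvY * k * (yv v hvY)⁻¹ = k⁻¹ := by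
      intro v hv hvY k hk
      set t := yv v hvY
      have ht : t * t = 1 := by
        show π _ * π _ = 1
        rw [← map_mul, ← map_one π]; exact congrArg π (Subtype.ext (hvY.sq F d))
      let φ : K →* K :=
      { toFun := fun k => ⟨t * k * t⁻¹, hKn.conj_mem _ k.2 t⟩
        map_one' := by ext; simp
        map_mul' := fun a b => by ext; simp [mul_assoc] }
      have hinv : Function.Involutive φ := fun k => Subtype.ext (by
        show t * (t * k * t⁻¹) * t⁻¹ = k
        calc t * (t * (k : X ⧸ zpowers ρX) * t⁻¹) * t⁻¹ = t * t * k * (t * t)⁻¹ := by group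
          _ = _ := by rw [ht]; group)
      have hfp : MonoidHom.FixedPointFree φ := fun k hk' => by
        have hc : Commute (k : X ⧸ zpowers ρX) t :=
          (mul_inv_eq_iff_eq_mul.mp (congrArg Subtype.val hk')).symm
        obtain ⟨u, hu, he⟩ := cent v hv hvY _ hc
        refine Subtype.ext (eq_one_of_sq_odd ?_ (hKodd _ k.2))
        rw [he]
        show π _ * π _ = 1
        rw [← map_mul, ← map_one π]; exact congrArg π (Subtype.ext (hu.sq F d))
      exact congrArg Subtype.val (congrFun (hfp.coe_eq_inv_of_involutive hinv) ⟨k, hk⟩)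
    have hK1 : ∀ k ∈ K, k = 1 := by
      intro k hk
      set t := yv (F.pv 4) hyY
      have e1 := hfix z (Or.inl rfl) hzY k hk
      have e2 := hfix _ (Or.inr (Or.inl rfl)) hyY k hk
      have e3 := hfix _ (Or.inr (Or.inr rfl)) hyzY k hk
      rw [← yv_mul _ _ hyY hzY hyzY] at e3
      have h3 : k = k⁻¹ := by
        calc k = (k⁻¹)⁻¹ := (inv_inv k).symm
          _ = (t * k * t⁻¹)⁻¹ := by rw [e2]
          _ = t * (zb * k * zb⁻¹) * t⁻¹ := by rw [hzb, e1]; group
          _ = k⁻¹ := by rw [← e3]; simp only [t, hzb]; group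
      exact eq_one_of_sq_odd (mul_eq_one_iff_eq_inv.mpr h3) (hKodd k hk)
    refine hbig fun g ho _ => ?_
    have hKbot : K = ⊥ := eq_bot_iff.mpr fun k hk => mem_bot.mpr (hK1 k hk)
    have hc : Nat.card P = Nat.card (X ⧸ zpowers ρX) := by
      rw [← hK.card_mul, hKbot, Subgroup.card_bot, one_mul]
    obtain ⟨n, hn⟩ := P.2.exists_card_eq
    have hd := orderOf_dvd_natCard g
    rw [← hc, hn] at hd
    obtain ⟨m, -, hm⟩ := (Nat.dvd_prime_pow Nat.prime_two).mp hd
    rcases Nat.eq_zero_or_pos m with h0 | h0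
    · exact orderOf_eq_one_iff.mp (by rw [hm, h0, pow_zero])
    · rw [hm] at ho
      exact absurd ho (Nat.not_odd_iff_even.mpr (Nat.even_pow.mpr ⟨even_two, h0.ne'⟩))
  have hnoE : ∀ E : Subgroup (X ⧸ zpowers ρX), E.Normal → Cfsg.IsElementaryAbelian 2 E →
      Nat.card E ≠ 2 ∧ Nat.card E ≠ 4 := by
    intro E hEn hE
    have key : ∀ ev : E, ev ≠ 1 → Commute (ev : X ⧸ zpowers ρX) zb →
        ∀ g, Commute g (ev : X ⧸ zpowers ρX) → Commute g zb := by
      intro ev h1' hc g hg
      obtain ⟨u, hu, he⟩ := cent_z _ hc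
      rcases hu with h | h | h
      · exfalso
        refine h1' (Subtype.ext ?_)
        rw [he, OneMemClass.coe_one]
        subst h
        exact map_one π
      · subst h; exact (he ▸ hg :)
      · obtain ⟨u', hu', he'⟩ := cent u (Or.inr h) (Or.inr (Or.inr h)) g (he ▸ hg :)
        rw [he']; exact comm_z u' hu'
    constructor
    · intro h2
      obtain ⟨p, q, hpq, huniv⟩ := Nat.card_eq_two_iff.mp h2
      obtain ⟨ev, hev⟩ : ∃ ev : E, ev ≠ 1 := by
        by_cases hp : p = 1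
        · exact ⟨q, fun hq => hpq (hp.trans hq.symm)⟩
        · exact ⟨p, hp⟩
      have hcent : ∀ g, Commute g (ev : X ⧸ zpowers ρX) := by
        intro g
        have hm : g * ev * g⁻¹ ∈ E := hEn.conj_mem _ ev.2 g
        have h3 : ∀ w : E, w ≠ 1 → w = ev := by
          intro w hw
          have hw' := (huniv ▸ Set.mem_univ w : w ∈ ({p, q} : Set E))
          have he' := (huniv ▸ Set.mem_univ ev : ev ∈ ({p, q} : Set E))
          have hone := (huniv ▸ Set.mem_univ (1 : E) : (1 : E) ∈ ({p, q} : Set E))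
          simp only [Set.mem_insert_iff, Set.mem_singleton_iff] at hw' he' hone
          grind
        refine mul_inv_eq_iff_eq_mul.mp (congrArg Subtype.val (h3 ⟨_, hm⟩ fun h => hev ?_))
        exact Subtype.ext (conj_eq_one_iff.mp (congrArg Subtype.val h))
      exact hnotC fun g => key ev hev (hcent zb).symm g (hcent g)
    · intro h4
      obtain ⟨ev, hev, hfix⟩ := exists_fixed_of_even
        (fun w : E => (⟨zb * w * zb⁻¹, hEn.conj_mem _ w.2 zb⟩ : E))
        (fun w => Subtype.ext (by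
          show zb * (zb * w * zb⁻¹) * zb⁻¹ = w
          calc zb * (zb * (w : X ⧸ zpowers ρX) * zb⁻¹) * zb⁻¹ = zb * zb * w * (zb * zb)⁻¹ := by group
            _ = _ := by rw [hzb2]; group))
        (by rw [h4]; norm_num) 1 (Subtype.ext (by simp))
      have hc : Commute (ev : X ⧸ zpowers ρX) zb := (mul_inv_eq_iff_eq_mul.mp (congrArg Subtype.val hfix)).symm
      have hEC : E = centralizer ({zb} : Set (X ⧸ zpowers ρX)) := by
        refine Subgroup.eq_of_le_of_card_ge (fun w hw => mem_cz.mpr (key ev hev hc w ?_)) (by rw [h4, hcard4])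
        haveI := hE.1
        exact congrArg Subtype.val ((hE.1.1.comm (⟨w, hw⟩ : E) ev))
      refine hbig fun g ho hi => ?_
      have hgg : g * zb * g⁻¹ = g * g * zb := by
        have : zb * g⁻¹ * zb⁻¹ = g := by
          calc zb * g⁻¹ * zb⁻¹ = (zb * g * zb⁻¹)⁻¹ := by group
            _ = g := by rw [hi, inv_inv]
        calc g * zb * g⁻¹ = g * (zb * g⁻¹ * zb⁻¹) * zb := by group
          _ = _ := by rw [this]
      have hm : g * zb * g⁻¹ ∈ E := hEn.conj_mem _ (hEC ▸ mem_cz.mpr (Commute.refl zb)) g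
      rw [hgg, hEC, mem_cz] at hm
      have hg2 : Commute (g * g) zb := by
        have h := hm.mul_left (Commute.refl zb)
        rwa [mul_assoc, hzb2, mul_one] at h
      have h4' := sq_z _ hg2
      exact eq_one_of_sq_odd (eq_one_of_sq_odd h4'
        (Odd.of_dvd_nat ho (orderOf_dvd_of_pow_eq_one (by
          rw [← pow_two, ← pow_mul, mul_comm, pow_mul, pow_orderOf_eq_one, one_pow])))) ho
  obtain ⟨iso⟩ := FC.iso_alternating hnc hnoE
  have h60 : Nat.card (X ⧸ zpowers ρX) = 60 := by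
    rw [Nat.card_congr iso.toEquiv, Nat.card_eq_fintype_card]; decide +kernel
  have h5 : 5 ∣ Nat.card N := by
    have h := (zpowers ρX).card_mul_index
    rw [index_eq_card, h60] at h
    have h' : 5 ∣ Nat.card X := by
      rw [← h]; exact (show 5 ∣ 60 by norm_num).trans (dvd_mul_left 60 _)
    exact h'.trans (card_dvd_of_le inf_le_left)
  refine ⟨h5, ?_⟩
  -- conjugation by the moved point
  set a := F.el (pt i, e) with ha
  have haX : ∀ x ∈ X, a * x * a⁻¹ ∈ X := fun x hx => memX.mpr ⟨hNn.conj_mem _ (memX.mp hx).1 a, by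
    have := (memX.mp hx).2.map (MulAut.conj a).toMonoidHom
    simp only [MulEquiv.toMonoidHom_eq_coe, MonoidHom.coe_coe, MulAut.conj_apply] at this
    rwa [← hρa.eq, mul_inv_cancel_right] at this⟩
  let α : X →* X :=
  { toFun := fun x => ⟨a * x * a⁻¹, haX x x.2⟩
    map_one' := by ext; simp
    map_mul' := fun x y => by ext; simp [mul_assoc] }
  let ψ : X ⧸ zpowers ρX →* X ⧸ zpowers ρX := QuotientGroup.lift (zpowers ρX) (π.comp α) (by
    intro x hx
    rw [MonoidHom.mem_ker, MonoidHom.comp_apply, mk_eq_one]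
    convert hx using 1
    refine Subtype.ext ?_
    show a * (x : G) * a⁻¹ = x
    rcases memR hx with h | h | h <;> rw [h]
    · group
    · rw [← hρa.eq, mul_inv_cancel_right]
    · rw [← (hρa.mul_left hρa).eq, mul_inv_cancel_right])
  have ψmk : ∀ x : X, ψ (π x) = π (α x) := fun x => rfl
  have hψz : ψ zb = zb := (ψmk _).trans (congrArg π (Subtype.ext (by
    show a * z * a⁻¹ = z
    rw [(hF.el_pt_commute i e).eq, mul_inv_cancel_right])))
  have hψy : ψ (yv _ hyY) = yv _ hyY * zb := by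
    refine (ψmk _).trans ((congrArg π (Subtype.ext ?_)).trans (map_mul π _ _))
    show a * F.pv 4 * a⁻¹ = F.pv 4 * z
    rw [ha, show F.pv 4 = F.el (pt 4, false) from rfl, F.el_minv d, ← F.el_mm d, ← F.el_mm d,
      ← F.el_zmul d]
    exact congrArg F.el ((by decide +kernel : ∀ (i : Fin 5) (e : Bool), i ≠ 4 →
      mm (mm (pt i, e) (pt 4, false)) (minv (pt i, e)) = mm (pt 4, false) mz) i e hi)
  have no5 : ∀ g : X ⧸ zpowers ρX, ψ g = g → zb * g * zb⁻¹ = g⁻¹ → g ^ 5 = 1 → g = 1 := by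
    intro g hψg hi5 hg5
    by_contra hg1
    have hyy : yv _ hyY * yv _ hyY = 1 := by
      show π _ * π _ = 1
      rw [← map_mul, ← map_one π]; exact congrArg π (Subtype.ext (F.pv_sq d 4))
    have hy1 : yv _ hyY ≠ 1 := fun h => F.y_ne_one d (yv_one _ hyY h)
    have hyz' : yv _ hyY ≠ zb := by
      intro h
      have h2 := yv_mul _ _ hyY hzY hyzY
      rw [h, ← hzb, hzb2] at h2
      exact F.yz_ne_one d (yv_one _ hyzY h2.symm)
    set h := (alternatingGroup (Fin 5)).subtype.comp iso.toMonoidHom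
    have hinj : Function.Injective h := Subtype.val_injective.comp iso.injective
    have key := five_check
      (h g) (Equiv.Perm.mem_alternatingGroup.mp (iso g).2)
      (by simp only [← map_mul]; rw [← map_one h]; congr 1; rw [← hg5]; simp only [pow_succ, pow_zero, one_mul, mul_assoc])
      (fun e' => hg1 (hinj (e'.trans (map_one h).symm)))
      (h zb) (by rw [← map_mul, hzb2, map_one]) (fun e' => hzb1 (hinj (e'.trans (map_one h).symm)))
      (by rw [← map_inv, ← hi5, inv_eq_of_mul_eq_one_right hzb2, map_mul, map_mul])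
      (h (yv _ hyY)) (Equiv.Perm.mem_alternatingGroup.mp (iso _).2) (by rw [← map_mul, hyy, map_one])
      (fun e' => hy1 (hinj (e'.trans (map_one h).symm))) (fun e' => hyz' (hinj e'))
      ((comm_z _ hyY).map h).eq
    apply key
    simp only [← map_mul, ← map_one h, hinj.eq_iff]
    set t := yv _ hyY
    have hψψ : ψ (t * zb * g) = t * g := by
      rw [map_mul, map_mul, hψy, hψz, hψg, mul_assoc t zb zb, hzb2, mul_one]
    have hψ' : ψ (t * g) = t * zb * g := by rw [map_mul, hψy, hψg]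
    constructor
    · intro e'
      have := congrArg ψ e'
      rwa [map_mul, map_mul, hψ', map_one] at this
    · intro e'
      have := congrArg ψ e'
      rwa [map_mul, map_mul, hψψ, map_one] at this
  let θ : A →* X ⧸ zpowers ρX :=
    π.comp { toFun := fun c => ⟨c, memX.mpr ⟨hAN c c.2, (hA c c.2).2.1⟩⟩
             map_one' := rfl
             map_mul' := fun _ _ => rfl }
  have hθ : Function.Injective θ := by
    refine (injective_iff_map_eq_one θ).mpr fun c hc => ?_
    obtain ⟨g, hg, -, -, hg1⟩ := imgA c c.2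
    exact Subtype.ext (hg1 (hg.trans hc))
  have hcard : Nat.card A ∣ 60 := h60 ▸ Subgroup.card_dvd_of_injective θ hθ
  have hodd : ¬ 2 ∣ Nat.card A := fun h => by
    obtain ⟨c, hc⟩ := exists_prime_orderOf_dvd_card' 2 h
    have := (hA c c.2).1
    rw [Subgroup.orderOf_coe, hc] at this
    exact absurd this (by decide)
  have hno5 : ¬ 5 ∣ Nat.card A := fun h => by
    haveI : Fact (Nat.Prime 5) := ⟨by norm_num⟩
    obtain ⟨c, hc⟩ := exists_prime_orderOf_dvd_card' 5 h
    have h5' : c ^ 5 = 1 := hc ▸ pow_orderOf_eq_one c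
    obtain ⟨g, hg, -, hgi, hg1⟩ := imgA c c.2
    have hψg : ψ g = g := by
      rw [hg, ψmk]
      refine congrArg π (Subtype.ext ?_)
      show a * (c : G) * a⁻¹ = c
      rw [← (hA c c.2).2.2.1.eq, mul_inv_cancel_right]
    have hg5 : g ^ 5 = 1 := by
      have : g = θ c := hg
      rw [this, ← map_pow, h5', map_one]
    have : c = 1 := Subtype.ext (hg1 (no5 g hψg hgi hg5))
    rw [this, orderOf_one] at hc
    omega
  have h1A : Nat.card A ≠ 1 := fun h => hne (Subgroup.card_eq_one.mp h)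
  have hdiv : Nat.card A ∈ Nat.divisors 60 := Nat.mem_divisors.mpr ⟨hcard, by norm_num⟩
  have hl : Nat.divisors 60 = {1, 2, 3, 4, 5, 6, 10, 12, 15, 20, 30, 60} := by decide +kernel
  rw [hl] at hdiv
  simp only [Finset.mem_insert, Finset.mem_singleton] at hdiv
  omega

end Based

end Cfsg.Agent.AutL34Recog
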